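import Cfsg.Agent.H985.VZ.GTwo_m3
import Cfsg.Agent.H985.VZ.Cells_m3
import Cfsg.Agent.Nodes.TypeC
import Cfsg.Agent.Nodes.StabComb
import Cfsg.Agent.H644.OZ.OmTD_m3
import Cfsg.Agent.H695.OneZero.DetMain_mg_m3
import Cfsg.Agent.H695.OneZero.RankOne_m3
import Cfsg.Agent.H307.FourOdd.Defs
import Cfsg.Agent.Characters.Counting
import Cfsg.Agent.Characters.GaloisBasic
import Cfsg.Agent.OddOrderCharacters.IndRes
import Cfsg.Agent.Blocks.Knorr
import Cfsg.Agent.H121.OZ.JTwoCls_m3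
import Cfsg.Agent.Characters.CCBasic
import Cfsg.Agent.SporadicA.PermTab
import Cfsg.Agent.LieClassical.FieldTransfer
import Cfsg.Agent.S0245
import Cfsg.Agent.S0246
import Cfsg.Agent.H730.OZ.Known_m3
import Cfsg.Agent.Lib.FinFast
import Cfsg.Agent.Lib.MatDec
import Cfsg.Agent.H769.OZ.SpIso
import Cfsg.Agent.H730.OZ.Asm
import Cfsg.Agent.ClassicalGeometry.SympInvolutions
import Cfsg.Prelude.Def_Classical
import Cfsg.Agent.H849.OZ.Bad_m3
import Cfsg.Agent.H876.OZU.Main_m3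
import Cfsg.Agent.S0822
import Cfsg.Agent.Lib.Refl
import Cfsg.Agent.H448.Van.Rows
import Cfsg.Agent.H279.OZ.Kaw
import Cfsg.Agent.Nodes.RGDTwAll
import Cfsg.Agent.S1054
import Cfsg.Agent.S1062
import Cfsg.Agent.H320.OZ.F4In
import Cfsg.Agent.H23.OZ.FourTwo
import Cfsg.Agent.FastGrp
import Cfsg.Agent.Prune
set_option linter.all false

section
prune_inst 0x7fcda9f87ba829dedfff7e3ff6d4cffc11808fffa6def94bbfe0219f2b9f230209c5f3850de010fe0e56c01410287803fb7eeeffe06fdc7ffffd5ff41ffbee0fa5e63508119488340f340ffe03f0778e6f3ffffffffffffffffffff7ffffffbeffbdf3feffff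

-- part: H639/OZ/Asm_mg
section
prune_inst 0x105001800040002000000008091001802a00004001008000010200800000618200080202044000d08020a000100010000000000800000000000000000000000009000040001000100a00009001080000000000000000000000000800000041004008000000
set_option linter.all false
open scoped Cfsg.Agent.FastGrp

-- part: H200/VZ/SuppE
section
/-!
# S4842: the supports seen by elliptic elements (helper200)

`exists_supp` : `t` elliptic in `L_J`, `χ(t) ≠ 0`: some irreducible `M ≤ V^{V_J}` has a minimal `S ⊆ J` with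
`M ∩ V^{V_S} ≠ 0` such that some `w ∈ W_J` maps the simple roots of `S` into simple roots of `S` and lies in no proper
standard parabolic subgroup `W_K`, `S ⊆ K ⊂ J`.
-/

set_option autoImplicit false
set_option linter.unusedSectionVars false

open Cfsg

namespace Cfsg.Agent.H200.VZ

open CoxeterSystem Cfsg.Agent.ChevalleyStructure.CoxeterGeom Cfsg.Agent.Tits.Roots Cfsg.Agent.Tits.Core
  Cfsg.Agent.Tits.Exchange Cfsg.Agent.Nodes.Reps Cfsg.Agent.Nodes.BNOf Cfsg.Agent.Nodes.StabComb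
  Cfsg.Agent.Nodes.Bruhat Cfsg.Agent.Nodes.OppDec Cfsg.Agent.Nodes.LeviDec Cfsg.Agent.H985.VZ Module
  Cfsg.Agent.H631.VZ

universe u v

variable {I W : Type*} {Y : Type u} [Fintype I] [DecidableEq I] [Group W] [Group Y] {M : CoxeterMatrix I}
  {cs : CoxeterSystem M W} {A : I → I → ℤ} {h : IsCartan M A} {p : ℕ} {T : Subgroup Y} {n : I → Y}
  {X : (I → ℤ) → Subgroup Y} {V : Type v} [AddCommGroup V] [Module ℂ V] {ρ : Representation ℂ Y V}

theorem exists_supp (R : RGD cs h p T n X) [Finite W] [Finite Y] [FiniteDimensional ℂ V] {J : Set I} {t : Y}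
    (ht : Ell cs h T X J t) (hχ : ρ.character t ≠ 0) :
    ∃ (M : Submodule ℂ V) (S : Set I), S ⊆ J ∧ Irr ρ (LJ cs h T X J) M ∧ M ≤ fx ρ (VJ cs h X J) ∧
      M ⊓ fx ρ (VJ cs h X S) ≠ ⊥ ∧ (∀ S' : Set I, S' ⊂ S → M ⊓ fx ρ (VJ cs h X S') = ⊥) ∧
      ∃ w ∈ WJ cs J, (∀ j ∈ S, ∃ k ∈ S, rep cs h w (sr j) = sr k) ∧ ∀ K : Set I, S ⊆ K → K ⊂ J → w ∉ WJ cs K := by
  classical
  have hav : EI ρ (LJ cs h T X J) (av ρ (VJ cs h X J)) := by
    refine ⟨LinearMap.ext fun v => av_idem ρ _ v, fun l hl => LinearMap.ext fun v => ?_⟩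
    exact av_rho_of_mem_PJ R (LJ_le_PJ hl) v
  have hrange : LinearMap.range (av ρ (VJ cs h X J)) = fx ρ (VJ cs h X J) := by
    apply le_antisymm
    · rintro _ ⟨v, rfl⟩
      exact av_mem _ _ _
    · exact fun v hv => ⟨v, av_of_mem hv⟩
  rw [ht.toFree.trace_eq R] at hχ
  obtain ⟨Q, hQ, hQ1, hQ2, hirr, htr⟩ := exists_irr_proj hav hχ
  set M' := LinearMap.range Q with hM'
  have hMle : M' ≤ fx ρ (VJ cs h X J) := by
    rintro _ ⟨v, rfl⟩
    rw [← hQ2]
    exact av_mem _ _ _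
  -- a minimal support
  obtain ⟨S, hSJ, hS0, hSmin⟩ : ∃ S : Set I, S ⊆ J ∧ M' ⊓ fx ρ (VJ cs h X S) ≠ ⊥ ∧
      ∀ S' : Set I, S' ⊂ S → M' ⊓ fx ρ (VJ cs h X S') = ⊥ := by
    have hex : {S : Set I | S ⊆ J ∧ M' ⊓ fx ρ (VJ cs h X S) ≠ ⊥}.Nonempty := ⟨J, subset_rfl, by
      rw [inf_eq_left.2 hMle]
      exact hirr.ne⟩
    obtain ⟨S, hS⟩ := (Set.toFinite {S : Set I | S ⊆ J ∧ M' ⊓ fx ρ (VJ cs h X S) ≠ ⊥}).exists_minimal hex
    refine ⟨S, hS.prop.1, hS.prop.2, fun S' hS' => ?_⟩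
    by_contra hne
    exact absurd (hS.le_of_le ⟨hS'.1.trans hS.prop.1, hne⟩ hS'.1) hS'.2
  refine ⟨M', S, hSJ, hirr, hMle, hS0, hSmin, ?_⟩
  by_contra hcon
  push Not at hcon
  apply htr
  -- `Q` commutes with `V_J`
  have hQu : ∀ u ∈ VJ cs h X J, Q * ρ u = Q ∧ ρ u * Q = Q := by
    intro u hu
    constructor
    · have h1 : av ρ (VJ cs h X J) * ρ u = av ρ (VJ cs h X J) := LinearMap.ext fun v => av_rho ρ hu v
      rw [← hQ1, mul_assoc, h1]
    · have h1 : ρ u * av ρ (VJ cs h X J) = av ρ (VJ cs h X J) := LinearMap.ext fun v => rho_av ρ hu v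
      rw [← hQ2, ← mul_assoc, h1]
  have hQP : ∀ g ∈ PJ cs h T X J, Q * ρ g = ρ g * Q := by
    intro g hg
    obtain ⟨l, hl, u, hu, rfl⟩ := (mem_PJ R).1 hg
    rw [map_mul, ← mul_assoc, hQ.comm l hl, mul_assoc, (hQu u hu).1, mul_assoc, (hQu u hu).2]
  have hVSP : VJ cs h X S ≤ PJ cs h T X J := by
    refine le_trans (VJ_le_B S) B_le_PJ
  have hc : av ρ (VJ cs h X S) * Q = Q * av ρ (VJ cs h X S) := by
    let _ : Fintype (VJ cs h X S) := Fintype.ofFinite _
    rw [av_eq, smul_mul_assoc, mul_smul_comm, Finset.sum_mul, Finset.mul_sum]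
    congr 1
    exact Finset.sum_congr rfl fun u _ => (hQP u (hVSP u.2)).symm
  have hMs : Stb ρ (PJ cs h T X J) M' := Stb.PJ R hirr.stb hMle
  refine trace_eq_zero hQ hirr (p := av ρ (VJ cs h X S)) (LinearMap.ext fun v => av_idem ρ _ v) hc ?_ ?_
  · intro h1
    apply hS0
    rw [Submodule.eq_bot_iff]
    rintro v ⟨hv1, hv2⟩
    have h2 : (av ρ (VJ cs h X S) * Q) v = v := by
      rw [Module.End.mul_apply, hQ.apply_of_mem hv1, av_of_mem hv2]
    rw [h1, LinearMap.zero_apply] at h2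
    exact h2.symm
  · intro l hl
    ext v
    rw [Module.End.mul_apply, Module.End.mul_apply, LinearMap.zero_apply]
    set v' := (av ρ (VJ cs h X S) * Q) v with hv'
    have hv'1 : v' ∈ M' := by
      rw [hv', hc]
      exact ⟨_, rfl⟩
    have hv'2 : v' ∈ fx ρ (VJ cs h X S) := av_mem _ _ _
    have hx : l⁻¹ * t * l ∈ LJ cs h T X J := mul_mem (mul_mem (inv_mem hl) ht.toFree.mem) hl
    obtain ⟨a, ha, b, hb, y, hy, k, hk, e, h1, h2⟩ := exists_dec R hSJ hSJ hx
    have hPS : PJ cs h T X S ≤ PJ cs h T X J := by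
      intro g hg
      obtain ⟨w, hw, hc⟩ := (mem_PJ_iff_cell R).1 hg
      exact (mem_PJ_iff_cell R).2 ⟨w, WJ_mono cs hSJ hw, hc⟩
    have hb1 : ρ b v' ∈ M' := hMs b (hPS hb) v' hv'1
    have hb2 : ρ b v' ∈ fx ρ (VJ cs h X S) := rho_fx_VJ R hb hv'2
    rw [e, map_mul, map_mul, Module.End.mul_apply, Module.End.mul_apply, av_rho_of_mem_PJ R ha, ← mackey R h1 hk hb2]
    by_cases hKw : Kw cs h y S S = S
    · exfalso
      obtain ⟨K, hSK, hKJ, hyK⟩ := hcon y hy fun j hj => simple_of_Kw h1 h2 (by rw [hKw]; exact hj)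
      refine ht.not_mem R hKJ (LJ_le_PJ hl) ?_
      rw [e]
      have hPSK : PJ cs h T X S ≤ PJ cs h T X K := by
        intro g hg
        obtain ⟨w, hw, hc⟩ := (mem_PJ_iff_cell R).1 hg
        exact (mem_PJ_iff_cell R).2 ⟨w, WJ_mono cs hSK hw, hc⟩
      exact mul_mem (mul_mem (hPSK ha) (LJ_le_PJ (rp_mem_LJ R hyK hk))) (hPSK hb)
    · have h5 : Kw cs h y S S ⊂ S := lt_of_le_of_ne Kw_subset hKw
      have h6 : av ρ (VJ cs h X (Kw cs h y S S)) (ρ b v') ∈ M' ⊓ fx ρ (VJ cs h X (Kw cs h y S S)) :=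
        ⟨av_mem_of_stb R hirr.stb hMle hb1, av_mem _ _ _⟩
      rw [hSmin _ h5, Submodule.mem_bot] at h6
      rw [h6, map_zero, map_zero, map_zero]

/-- two elliptic elements: the supports are conjugate -/
theorem supp_conj (R : RGD cs h p T n X) [Finite W] [Finite Y] [FiniteDimensional ℂ V] (hG : GG cs h T X = ⊤)
    (hρ : ρ.IsIrreducible) {J K : Set I} {M : Submodule ℂ V} {S : Set I} (hSJ : S ⊆ J)
    (hM : Irr ρ (LJ cs h T X J) M) (hMle : M ≤ fx ρ (VJ cs h X J)) (hS0 : M ⊓ fx ρ (VJ cs h X S) ≠ ⊥)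
    (hSmin : ∀ S' : Set I, S' ⊂ S → M ⊓ fx ρ (VJ cs h X S') = ⊥) (hK : fx ρ (VJ cs h X K) ≠ ⊥) :
    ∃ w : W, ∀ k ∈ S, ∃ k' ∈ K, rep cs h w (sr k) = sr k' := by
  have hPS : PJ cs h T X S ≤ PJ cs h T X J := by
    intro g hg
    obtain ⟨w, hw, hc⟩ := (mem_PJ_iff_cell R).1 hg
    exact (mem_PJ_iff_cell R).2 ⟨w, WJ_mono cs hSJ hw, hc⟩
  have hMs : Stb ρ (PJ cs h T X J) M := Stb.PJ R hM.stb hMle
  refine exists_of_cusp_top R hG hρ (K := S) (N := M ⊓ fx ρ (VJ cs h X S)) ?_ inf_le_right hS0 ?_ hK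
  · intro l hl v hv
    exact ⟨hMs l (hPS (LJ_le_PJ hl)) v hv.1, stb_fx R S l hl v hv.2⟩
  · intro K₁ hK₁
    have := hSmin K₁ hK₁
    rw [eq_bot_iff] at this ⊢
    exact le_trans (inf_le_inf_right _ inf_le_left) this

end Cfsg.Agent.H200.VZ
end

-- part: H200/VZ/WComb
section
/-!
# S4842: signed permutations and words, type `C_n` (helper200)

* `ws ω x` : the image of the signed index `x` under the word `ω`;
* `exists_word` : every element of `W_J` is given by a word of a list which is closed under left multiplication;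
* `img_of_rep` : `w α_j = α_k` in terms of signed indices.
-/

set_option autoImplicit false

namespace Cfsg.Agent.H200.VZ

open CoxeterSystem Cfsg.Agent.ChevalleyStructure.CoxeterGeom Cfsg.Agent.Tits.Roots Cfsg.Agent.Tits.Core Cfsg.Agent.Nodes
  Cfsg.Agent.Nodes.TypeC Cfsg.Agent.Nodes.StabComb Cfsg.Agent.Tits.Exchange

variable {n : ℕ}

/-- the image of a signed index under a word -/
def ws (ω : List (Fin n)) (x : Fin n × Bool) : Fin n × Bool := ω.foldr sg x

theorem ws_cons (i : Fin n) (ω : List (Fin n)) (x : Fin n × Bool) : ws (i :: ω) x = sg i (ws ω x) := rfl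

theorem ws_ng (ω : List (Fin n)) (x : Fin n × Bool) : ws ω (ng x) = ng (ws ω x) := by
  induction ω with
  | nil => rfl
  | cons i ω ih => rw [ws_cons, ws_cons, ih, sg_ng]

theorem ws_fst (ω : List (Fin n)) {x y : Fin n × Bool} : (ws ω x).1 = (ws ω y).1 ↔ x.1 = y.1 := by
  induction ω with
  | nil => rfl
  | cons i ω ih => rw [ws_cons, ws_cons, sg_fst_eq, ih]

theorem ws_ok (ω : List (Fin n)) {x y : Fin n × Bool} (h : Ok x y) : Ok (ws ω x) (ws ω y) := by
  induction ω with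
  | nil => exact h
  | cons i ω ih => exact ih.sg i

variable {W : Type*} [Group W] {cs : CoxeterSystem (CoxeterMatrix.B n) W}

theorem ee_word (ω : List (Fin n)) {x : Fin n → ℤ} {a b : Fin n × Bool} (e : ee x = wt a + wt b) :
    ee (rep cs (isCartan n) (cs.wordProd ω) x) = wt (ws ω a) + wt (ws ω b) := by
  induction ω with
  | nil => rw [wordProd_nil, map_one, Module.End.one_apply]; exact e
  | cons i ω ih => rw [wordProd_cons, rep_mul_apply, rep_simple, ee_refl_of ih]; rfl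

theorem ws_all {ω ω' : List (Fin n)} (h : ∀ k, ws ω (k, true) = ws ω' (k, true)) (x : Fin n × Bool) :
    ws ω x = ws ω' x := by
  obtain ⟨k, s⟩ := x
  cases s
  · have : ((k, false) : Fin n × Bool) = ng (k, true) := rfl
    rw [this, ws_ng, ws_ng, h]
  · exact h k

theorem word_eq {ω ω' : List (Fin n)} (h : ∀ k, ws ω (k, true) = ws ω' (k, true)) :
    cs.wordProd ω = cs.wordProd ω' := by
  apply rep_injective cs (isCartan n)
  refine LinearMap.ext fun x => ?_
  have h1 : ∀ i, rep cs (isCartan n) (cs.wordProd ω) (sr i) = rep cs (isCartan n) (cs.wordProd ω') (sr i) := by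
    intro i
    apply ee_injective
    rw [ee_word ω (ee_sr i), ee_word ω' (ee_sr i), ws_all h, ws_all h]
  have h2 : x = ∑ k, x k • sr k := by
    funext k
    simp [sr, Finset.sum_apply, Pi.single_apply]
  rw [h2, map_sum, map_sum]
  exact Finset.sum_congr rfl fun k _ => by rw [map_smul, map_smul, h1]

/-- a list of words closed under left multiplication -/
def Closed (L : List (List (Fin n))) (JL : List (Fin n)) : Prop :=
  [] ∈ L ∧ ∀ ω ∈ L, ∀ i ∈ JL, ∃ ω' ∈ L, ∀ k, ws (i :: ω) (k, true) = ws ω' (k, true)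

instance (L : List (List (Fin n))) (JL : List (Fin n)) : Decidable (Closed L JL) := by
  unfold Closed; infer_instance

theorem exists_word {L : List (List (Fin n))} {JL : List (Fin n)} (hL : Closed L JL) {w : W}
    (hw : w ∈ WJ cs {j | j ∈ JL}) : ∃ ω ∈ L, cs.wordProd ω = w := by
  obtain ⟨υ, hυ, rfl⟩ := exists_word_of_mem_WJ cs hw
  clear hw
  induction υ with
  | nil => exact ⟨[], hL.1, rfl⟩
  | cons i υ ih =>
    obtain ⟨ω, hω, e⟩ := ih fun j hj => hυ j (by simp [hj])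
    obtain ⟨ω', hω', e'⟩ := hL.2 ω hω i (hυ i (by simp))
    exact ⟨ω', hω', by rw [← word_eq e', wordProd_cons, e, wordProd_cons]⟩

/-- the word maps the simple root `j` to the simple root `k` -/
def Img (ω : List (Fin n)) (j k : Fin n) : Prop :=
  (ws ω (j, true) = (k, true) ∧ ws ω (nx j) = nx k) ∨ (ws ω (j, true) = nx k ∧ ws ω (nx j) = (k, true))

instance (ω : List (Fin n)) (j k : Fin n) : Decidable (Img ω j k) := by unfold Img; infer_instance

theorem img_of_rep {ω : List (Fin n)} {j k : Fin n}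
    (e : rep cs (isCartan n) (cs.wordProd ω) (sr j) = sr k) : Img ω j k := by
  have h1 := ee_word (cs := cs) ω (ee_sr j)
  rw [e, ee_sr] at h1
  exact (wt_add_eq (ws_ok ω (ok_nx j)) (ok_nx k) h1.symm)

/-- long simple roots go to long simple roots -/
theorem Img.last {ω : List (Fin n)} {j k : Fin n} (h : Img ω j k) : ((j : ℕ) + 1 = n) ↔ ((k : ℕ) + 1 = n) := by
  have hj := j.2
  have hk := k.2
  have h0 : ∀ i : Fin n, (nx i).1 = (i, true).1 ↔ (i : ℕ) + 1 = n := by
    intro i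
    have := i.2
    unfold nx
    split_ifs with h1
    · simp only [Fin.ext_iff]; omega
    · simp only [true_iff]; omega
  rw [← h0, ← h0, ← ws_fst ω]
  rcases h with ⟨h1, h2⟩ | ⟨h1, h2⟩
  · rw [h1, h2]
  · rw [h1, h2]
    exact eq_comm

theorem mem_WJ_word {K : Set (Fin n)} {ω : List (Fin n)} (h : ∀ i ∈ ω, i ∈ K) : cs.wordProd ω ∈ WJ cs K := by
  induction ω with
  | nil => rw [wordProd_nil]; exact one_mem _
  | cons i ω ih =>
    rw [wordProd_cons]
    exact mul_mem (simple_mem_WJ cs (h i (by simp))) (ih fun j hj => h j (by simp [hj]))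

/-- the words for `S₃`, `S₄` and the Levi subgroups `A_{n-2} × A₁` -/
def L3J : List (List (Fin 3)) := [[], [0], [1], [1, 0], [0, 1], [0, 1, 0]]
def L3K : List (List (Fin 3)) := [[], [0], [2], [2, 0]]
def L4J : List (List (Fin 4)) := [[], [0], [1], [2], [1, 0], [2, 0], [0, 1], [2, 1], [1, 2], [0, 1, 0], [2, 1, 0], [1, 2, 0],
  [2, 0, 1], [1, 2, 1], [0, 1, 2], [2, 0, 1, 0], [1, 2, 1, 0], [0, 1, 2, 0], [1, 2, 0, 1], [0, 1, 2, 1], [1, 2, 0, 1, 0],
  [0, 1, 2, 1, 0], [0, 1, 2, 0, 1], [0, 1, 2, 0, 1, 0]]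
def L4K : List (List (Fin 4)) := [[], [0], [1], [3], [1, 0], [3, 0], [0, 1], [3, 1], [0, 1, 0], [3, 1, 0], [3, 0, 1], [3, 0, 1, 0]]

theorem closed_3J : Closed L3J [0, 1] := by decide
theorem closed_3K : Closed L3K [0, 2] := by decide
private noncomputable def _root_.Cfsg.Agent.LsF.f5531ef_0 : {f // @Cfsg.Agent.Nodes.TypeC.sg = f} := ⟨_, by first | (delta Cfsg.Agent.Nodes.TypeC.sg; rewrite [Cfsg.Agent.LsF.nadd_pat, Cfsg.Agent.LsF.not_eq, Cfsg.Agent.LsF.decLt_eq, Cfsg.Agent.LsF.dFinEq_eq, Cfsg.Agent.LsF.ite_eq, Cfsg.Agent.LsF.dite_eq]; exact rfl) | exact rfl⟩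
private noncomputable def _root_.Cfsg.Agent.LsF.f5531ef_1 : {f // @Cfsg.Agent.H200.VZ.ws = f} := ⟨_, by first | (delta Cfsg.Agent.H200.VZ.ws; rewrite [Cfsg.Agent.LsF.f5531ef_0.2, Cfsg.Agent.LsF.foldr_eq]; exact rfl) | exact rfl⟩
set_option maxRecDepth 20000 in
theorem closed_4J : Closed L4J [0, 1, 2] := by (refine of_decide_eq_true ?_; (try (delta Cfsg.Agent.H200.VZ.Closed Cfsg.Agent.H200.VZ.instDecidableClosed; rewrite [Cfsg.Agent.LsF.dMemE_pat, Cfsg.Agent.LsF.dMemL_pat, Cfsg.Agent.LsF.f5531ef_1.2, Cfsg.Agent.LsF.dProdEq_eq, Cfsg.Agent.LsF.dAnd_eq, Cfsg.Agent.LsF.dFinEq_eq, Cfsg.Agent.LsF.dBoolEq_eq, Cfsg.Agent.LsF.dBAll_eq, Cfsg.Agent.LsF.dBEx_eq, Cfsg.Agent.LsF.dForallFin_eq, Cfsg.Agent.LsF.dAllP_eq, Cfsg.Agent.LsF.decide_eq])); decide +kernel)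
set_option maxRecDepth 20000 in
theorem closed_4K : Closed L4K [0, 1, 3] := by decide

/-- possible supports -/
def SuppOK (L : List (List (Fin n))) (JL : List (Fin n)) (b : Fin n → Bool) : Prop :=
  (∀ j, b j = true → j ∈ JL) ∧ ∃ ω ∈ L, (∀ j, b j = true → ∃ k, b k = true ∧ Img ω j k) ∧ ∀ j ∈ JL, b j = true ∨ j ∈ ω

instance (L : List (List (Fin n))) (JL : List (Fin n)) (b : Fin n → Bool) : Decidable (SuppOK L JL b) := by
  unfold SuppOK; infer_instance

set_option maxRecDepth 20000 in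
theorem supp_3J : ∀ b : Fin 3 → Bool, SuppOK L3J [0, 1] b → b = (fun _ => false) ∨ b = ![true, true, false] := by decide

set_option maxRecDepth 20000 in
theorem supp_4J : ∀ b : Fin 4 → Bool, SuppOK L4J [0, 1, 2] b → b = (fun _ => false) ∨ b = ![false, true, false, false] ∨
    b = ![true, false, true, false] ∨ b = ![true, true, true, false] := by decide

set_option maxRecDepth 20000 in
theorem supp_4K : ∀ b : Fin 4 → Bool, SuppOK L4K [0, 1, 3] b → b 2 = false ∧ (b 3 = false → b = (fun _ => false) ∨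
    b = ![true, true, false, false]) := by decide

end Cfsg.Agent.H200.VZ
end

-- part: H200/VZ/VUne
section
/-!
# S4842: `V^U ≠ 0` for `B_n`, `C_n`, `n = 3, 4` (helper200)

`VU_ne_three`, `VU_ne_four` : an elliptic element `t` of `A_{n-1}` and one, `t'`, of `A_{n-2} × A₁` with
`χ(t) ≠ 0 ≠ χ(t')` force `V^U ≠ 0`.
-/

set_option autoImplicit false
set_option linter.unusedSectionVars false

open Cfsg

namespace Cfsg.Agent.H200.VZ

open CoxeterSystem Cfsg.Agent.ChevalleyStructure.CoxeterGeom Cfsg.Agent.Tits.Roots Cfsg.Agent.Tits.Core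
  Cfsg.Agent.Tits.Exchange Cfsg.Agent.Nodes.Reps Cfsg.Agent.Nodes.BNOf Cfsg.Agent.Nodes.StabComb
  Cfsg.Agent.Nodes.Bruhat Cfsg.Agent.Nodes.OppDec Cfsg.Agent.Nodes.LeviDec Cfsg.Agent.H985.VZ Module
  Cfsg.Agent.H631.VZ Cfsg.Agent.Nodes.TypeC

universe u v

variable {W : Type*} {Y : Type u} [Group W] [Group Y] {m : ℕ} {cs : CoxeterSystem (CoxeterMatrix.B m) W} {p : ℕ}
  {T : Subgroup Y} {n : Fin m → Y} {X : (Fin m → ℤ) → Subgroup Y} {V : Type v} [AddCommGroup V] [Module ℂ V]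
  {ρ : Representation ℂ Y V}

theorem suppOK_of {L : List (List (Fin m))} {JL : List (Fin m)} (hL : Closed L JL) (hlet : ∀ ω ∈ L, ∀ i ∈ ω, i ∈ JL)
    {J S : Set (Fin m)} (hJ : J = {j | j ∈ JL}) (hSJ : S ⊆ J) {w : W} (hw : w ∈ WJ cs J)
    (h1 : ∀ j ∈ S, ∃ k ∈ S, rep cs (isCartan m) w (sr j) = sr k) (h2 : ∀ K : Set (Fin m), S ⊆ K → K ⊂ J → w ∉ WJ cs K)
    {b : Fin m → Bool} (hb : ∀ j, b j = true ↔ j ∈ S) : SuppOK L JL b := by
  subst hJ
  refine ⟨fun j hj => hSJ ((hb j).1 hj), ?_⟩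
  obtain ⟨ω, hω, rfl⟩ := exists_word hL hw
  refine ⟨ω, hω, fun j hj => ?_, fun j hj => ?_⟩
  · obtain ⟨k, hk, e⟩ := h1 j ((hb j).1 hj)
    exact ⟨k, (hb k).2 hk, img_of_rep e⟩
  · by_contra hcon
    push Not at hcon
    obtain ⟨hj1, hj2⟩ := hcon
    refine h2 (S ∪ {i | i ∈ ω}) Set.subset_union_left ⟨?_, ?_⟩ (mem_WJ_word fun i hi => Or.inr hi)
    · rintro i (hi | hi)
      · exact hSJ hi
      · exact hlet ω hω i hi
    · intro hle
      rcases hle (show j ∈ {j | j ∈ JL} from hj) with h3 | h3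
      · exact hj1 ((hb j).2 h3)
      · exact hj2 h3

theorem VU_of_empty (h0 : fx ρ (VJ cs (isCartan m) X ∅) ≠ ⊥) : VU cs (isCartan m) X ρ ≠ ⊥ := by
  rw [VJ_empty] at h0
  exact h0

/-- an injection between supports -/
theorem card_le_of_conj {S S' : Set (Fin m)} {w : W} (hw : ∀ k ∈ S, ∃ k' ∈ S', rep cs (isCartan m) w (sr k) = sr k') :
    ∃ f : Fin m → Fin m, (∀ k ∈ S, f k ∈ S' ∧ rep cs (isCartan m) w (sr k) = sr (f k)) ∧
      ∀ k ∈ S, ∀ k' ∈ S, f k = f k' → k = k' := by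
  classical
  choose! f hf using hw
  refine ⟨f, fun k hk => ⟨(hf k hk).1, (hf k hk).2⟩, fun k hk k' hk' e => ?_⟩
  have h1 : rep cs (isCartan m) w (sr k) = rep cs (isCartan m) w (sr k') := by
    rw [(hf k hk).2, (hf k' hk').2, e]
  have h2 : (sr k : Fin m → ℤ) = sr k' := by
    have := congrArg (rep cs (isCartan m) w⁻¹) h1
    rwa [rep_inv_apply, rep_inv_apply] at this
  by_contra hne
  have h3 := congrFun h2 k
  rw [sr_self, sr_ne (i := k') (j := k) hne] at h3
  exact absurd h3 one_ne_zero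

theorem last_of_conj {w : W} {k k' : Fin m} (e : rep cs (isCartan m) w (sr k) = sr k') :
    ((k : ℕ) + 1 = m) ↔ ((k' : ℕ) + 1 = m) := by
  obtain ⟨ω, rfl⟩ := cs.wordProd_surjective w
  exact (img_of_rep e).last

/-- the supports of two elliptic elements are conjugate -/
theorem exists_pair (R : RGD cs (isCartan m) p T n X) [Finite W] [Finite Y] [FiniteDimensional ℂ V]
    (hG : GG cs (isCartan m) T X = ⊤) (hρ : ρ.IsIrreducible) {J K : Set (Fin m)} {t t' : Y}
    (ht : Ell cs (isCartan m) T X J t) (hχ : ρ.character t ≠ 0) (ht' : Ell cs (isCartan m) T X K t')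
    (hχ' : ρ.character t' ≠ 0) : ∃ S S' : Set (Fin m), S ⊆ J ∧ S' ⊆ K ∧
      (∃ w ∈ WJ cs J, (∀ j ∈ S, ∃ k ∈ S, rep cs (isCartan m) w (sr j) = sr k) ∧
        ∀ K' : Set (Fin m), S ⊆ K' → K' ⊂ J → w ∉ WJ cs K') ∧
      (∃ w ∈ WJ cs K, (∀ j ∈ S', ∃ k ∈ S', rep cs (isCartan m) w (sr j) = sr k) ∧
        ∀ K' : Set (Fin m), S' ⊆ K' → K' ⊂ K → w ∉ WJ cs K') ∧
      (∃ w : W, ∀ k ∈ S, ∃ k' ∈ S', rep cs (isCartan m) w (sr k) = sr k') ∧
      (∃ w : W, ∀ k ∈ S', ∃ k' ∈ S, rep cs (isCartan m) w (sr k) = sr k') ∧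
      fx ρ (VJ cs (isCartan m) X S) ≠ ⊥ := by
  obtain ⟨M, S, hSJ, hM, hMle, hS0, hSmin, hw⟩ := exists_supp R ht hχ
  obtain ⟨M', S', hSJ', hM', hMle', hS0', hSmin', hw'⟩ := exists_supp R ht' hχ'
  have h1 : fx ρ (VJ cs (isCartan m) X S) ≠ ⊥ := fun h => hS0 (by rw [h, inf_bot_eq])
  have h2 : fx ρ (VJ cs (isCartan m) X S') ≠ ⊥ := fun h => hS0' (by rw [h, inf_bot_eq])
  exact ⟨S, S', hSJ, hSJ', hw, hw', supp_conj R hG hρ hSJ hM hMle hS0 hSmin h2,
    supp_conj R hG hρ hSJ' hM' hMle' hS0' hSmin' h1, h1⟩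

theorem VU_ne_three {cs : CoxeterSystem (CoxeterMatrix.B 3) W} {n : Fin 3 → Y} {X : (Fin 3 → ℤ) → Subgroup Y}
    (R : RGD cs (isCartan 3) p T n X) [Finite Y] [FiniteDimensional ℂ V]
    (hG : GG cs (isCartan 3) T X = ⊤) (hρ : ρ.IsIrreducible) {t t' : Y}
    (ht : Ell cs (isCartan 3) T X {2}ᶜ t) (hχ : ρ.character t ≠ 0) (ht' : Ell cs (isCartan 3) T X {1}ᶜ t')
    (hχ' : ρ.character t' ≠ 0) : VU cs (isCartan 3) X ρ ≠ ⊥ := by
  classical
  have : Finite W := finite_W cs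
  obtain ⟨S, S', hS, hS', ⟨w, hw, hw1, hw2⟩, ⟨w', hw', hw1', hw2'⟩, ⟨x, hx⟩, ⟨x', hx'⟩, h0⟩ :=
    exists_pair R hG hρ ht hχ ht' hχ'
  have e1 : ({2}ᶜ : Set (Fin 3)) = {j | j ∈ ([0, 1] : List (Fin 3))} := by ext j; fin_cases j <;> simp
  have h1 := supp_3J _ (suppOK_of closed_3J (by decide) e1 hS hw hw1 hw2 (b := fun j => decide (j ∈ S))
    fun j => decide_eq_true_iff)
  -- `S'` has no long root
  have hS'l : ∀ k ∈ S', (k : ℕ) + 1 ≠ 3 := by
    intro k hk he
    obtain ⟨k', hk', e⟩ := hx' k hk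
    have h2 := (last_of_conj e).1 he
    have h3 := hS hk'
    rw [Set.mem_compl_iff, Set.mem_singleton_iff] at h3
    exact h3 (Fin.ext (by change (k' : ℕ) = 2; omega))
  have hS'0 : ∀ k ∈ S', k = 0 := by
    intro k hk
    have h2 := hS'l k hk
    have h3 := hS' hk
    rw [Set.mem_compl_iff, Set.mem_singleton_iff] at h3
    fin_cases k
    · rfl
    · exact absurd rfl h3
    · exact absurd rfl h2
  rcases h1 with h1 | h1
  · have hSe : S = ∅ := by
      ext j
      have := congrFun h1 j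
      simpa using this
    rw [hSe] at h0
    exact VU_of_empty h0
  · exfalso
    obtain ⟨f, hf, hinj⟩ := card_le_of_conj hx
    have m0 : (0 : Fin 3) ∈ S := by simpa using congrFun h1 0
    have m1 : (1 : Fin 3) ∈ S := by simpa using congrFun h1 1
    have := hinj 0 m0 1 m1 ((hS'0 _ (hf 0 m0).1).trans (hS'0 _ (hf 1 m1).1).symm)
    exact absurd this (by decide)

theorem VU_ne_four {cs : CoxeterSystem (CoxeterMatrix.B 4) W} {n : Fin 4 → Y} {X : (Fin 4 → ℤ) → Subgroup Y}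
    (R : RGD cs (isCartan 4) p T n X) [Finite Y] [FiniteDimensional ℂ V]
    (hG : GG cs (isCartan 4) T X = ⊤) (hρ : ρ.IsIrreducible) {t t' : Y}
    (ht : Ell cs (isCartan 4) T X {3}ᶜ t) (hχ : ρ.character t ≠ 0) (ht' : Ell cs (isCartan 4) T X {2}ᶜ t')
    (hχ' : ρ.character t' ≠ 0) : VU cs (isCartan 4) X ρ ≠ ⊥ := by
  classical
  have : Finite W := finite_W cs
  obtain ⟨S, S', hS, hS', ⟨w, hw, hw1, hw2⟩, ⟨w', hw', hw1', hw2'⟩, ⟨x, hx⟩, ⟨x', hx'⟩, h0⟩ :=
    exists_pair R hG hρ ht hχ ht' hχ'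
  have e1 : ({3}ᶜ : Set (Fin 4)) = {j | j ∈ ([0, 1, 2] : List (Fin 4))} := by ext j; fin_cases j <;> simp
  have e2 : ({2}ᶜ : Set (Fin 4)) = {j | j ∈ ([0, 1, 3] : List (Fin 4))} := by ext j; fin_cases j <;> simp
  have h1 := supp_4J _ (suppOK_of closed_4J (by decide) e1 hS hw hw1 hw2 (b := fun j => decide (j ∈ S))
    fun j => decide_eq_true_iff)
  have h1' := supp_4K _ (suppOK_of closed_4K (by decide) e2 hS' hw' hw1' hw2' (b := fun j => decide (j ∈ S'))
    fun j => decide_eq_true_iff)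
  -- `S'` has no long root
  have hS'l : ∀ k ∈ S', (k : ℕ) + 1 ≠ 4 := by
    intro k hk he
    obtain ⟨k', hk', e⟩ := hx' k hk
    have h2 := (last_of_conj e).1 he
    have h3 := hS hk'
    rw [Set.mem_compl_iff, Set.mem_singleton_iff] at h3
    exact h3 (Fin.ext (by change (k' : ℕ) = 3; omega))
  have hS'01 : ∀ k ∈ S', k = 0 ∨ k = 1 := by
    intro k hk
    have h2 := hS'l k hk
    have h3 := hS' hk
    rw [Set.mem_compl_iff, Set.mem_singleton_iff] at h3
    fin_cases k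
    · exact Or.inl rfl
    · exact Or.inr rfl
    · exact absurd rfl h3
    · exact absurd rfl h2
  have h3S' : decide ((3 : Fin 4) ∈ S') = false := by
    rw [decide_eq_false_iff_not]
    exact fun h => hS'l 3 h rfl
  obtain ⟨f, hf, hinj⟩ := card_le_of_conj hx
  obtain ⟨f', hf', hinj'⟩ := card_le_of_conj hx'
  rcases h1 with h1 | h1 | h1 | h1
  · have hSe : S = ∅ := by
      ext j
      have := congrFun h1 j
      simpa using this
    rw [hSe] at h0
    exact VU_of_empty h0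
  · -- `S = {1}`
    exfalso
    have m1 : (1 : Fin 4) ∈ S := by simpa using congrFun h1 1
    rcases h1'.2 h3S' with h2 | h2
    · have : ∀ k, k ∉ S' := fun k => by simpa using congrFun h2 k
      exact this _ (hf 1 m1).1
    · have k0 : (0 : Fin 4) ∈ S' := by simpa using congrFun h2 0
      have k1 : (1 : Fin 4) ∈ S' := by simpa using congrFun h2 1
      have hS1 : ∀ k ∈ S, k = 1 := by
        intro k hk
        have := congrFun h1 k
        clear * - this hk
        fin_cases k <;> simp_all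
      have := hinj' 0 k0 1 k1 ((hS1 _ (hf' 0 k0).1).trans (hS1 _ (hf' 1 k1).1).symm)
      exact absurd this (by decide)
  · -- `S = {0, 2}`, `S' ⊆ {0, 1}`
    exfalso
    have m0 : (0 : Fin 4) ∈ S := by simpa using congrFun h1 0
    have m2 : (2 : Fin 4) ∈ S := by simpa using congrFun h1 2
    have e0 := (hf 0 m0).2
    have e2 := (hf 2 m2).2
    have hne : f 0 ≠ f 2 := fun h => absurd (hinj 0 m0 2 m2 h) (by decide)
    obtain ⟨ω, rfl⟩ := cs.wordProd_surjective x
    have i0 := img_of_rep e0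
    have i2 := img_of_rep e2
    -- the index `1` occurs in both images
    have key : ∀ a b : Fin 4, (a = 0 ∨ a = 1) → (b = 0 ∨ b = 1) → a ≠ b → Img ω 0 a → Img ω 2 b → False := by
      intro a b ha hb hab ia ib
      have hd : ∀ y z : Fin 4 × Bool, (y = (0, true) ∨ y = nx 0) → (z = (2, true) ∨ z = nx 2) → (ws ω y).1 ≠ (ws ω z).1 := by
        intro y z hy hz he
        rw [ws_fst] at he
        rcases hy with rfl | rfl <;> rcases hz with rfl | rfl <;> exact absurd he (by decide)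
      have n0 : (nx (0 : Fin 4)).1 = 1 := by decide
      have n1 : (nx (1 : Fin 4)).1 = 2 := by decide
      rcases ha with rfl | rfl <;> rcases hb with rfl | rfl
      · exact hab rfl
      · rcases ia with ⟨a1, a2⟩ | ⟨a1, a2⟩ <;> rcases ib with ⟨b1, b2⟩ | ⟨b1, b2⟩
        · exact hd _ _ (Or.inr rfl) (Or.inl rfl) (by rw [a2, b1, n0])
        · exact hd _ _ (Or.inr rfl) (Or.inr rfl) (by rw [a2, b2, n0])
        · exact hd _ _ (Or.inl rfl) (Or.inl rfl) (by rw [a1, b1, n0])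
        · exact hd _ _ (Or.inl rfl) (Or.inr rfl) (by rw [a1, b2, n0])
      · rcases ia with ⟨a1, a2⟩ | ⟨a1, a2⟩ <;> rcases ib with ⟨b1, b2⟩ | ⟨b1, b2⟩
        · exact hd _ _ (Or.inl rfl) (Or.inr rfl) (by rw [a1, b2, n0])
        · exact hd _ _ (Or.inl rfl) (Or.inl rfl) (by rw [a1, b1, n0])
        · exact hd _ _ (Or.inr rfl) (Or.inr rfl) (by rw [a2, b2, n0])
        · exact hd _ _ (Or.inr rfl) (Or.inl rfl) (by rw [a2, b1, n0])
      · exact hab rfl
    exact key _ _ (hS'01 _ (hf 0 m0).1) (hS'01 _ (hf 2 m2).1) hne i0 i2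
  · -- `S = {0, 1, 2}`
    exfalso
    have m0 : (0 : Fin 4) ∈ S := by simpa using congrFun h1 0
    have m1 : (1 : Fin 4) ∈ S := by simpa using congrFun h1 1
    have m2 : (2 : Fin 4) ∈ S := by simpa using congrFun h1 2
    rcases hS'01 _ (hf 0 m0).1 with c0 | c0 <;> rcases hS'01 _ (hf 1 m1).1 with c1 | c1 <;>
      rcases hS'01 _ (hf 2 m2).1 with c2 | c2
    · exact absurd (hinj 0 m0 1 m1 (c0.trans c1.symm)) (by decide)
    · exact absurd (hinj 0 m0 1 m1 (c0.trans c1.symm)) (by decide)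
    · exact absurd (hinj 0 m0 2 m2 (c0.trans c2.symm)) (by decide)
    · exact absurd (hinj 1 m1 2 m2 (c1.trans c2.symm)) (by decide)
    · exact absurd (hinj 1 m1 2 m2 (c1.trans c2.symm)) (by decide)
    · exact absurd (hinj 0 m0 2 m2 (c0.trans c2.symm)) (by decide)
    · exact absurd (hinj 0 m0 1 m1 (c0.trans c1.symm)) (by decide)
    · exact absurd (hinj 0 m0 1 m1 (c0.trans c1.symm)) (by decide)

end Cfsg.Agent.H200.VZ
end

-- part: H200/VZ/BC
section
/-!
# S4842: `V^B ≠ 0` for `B_n`, `C_n`, `n = 3, 4` (helper200)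

* `ex A' j ω v` : the exponent of the letter `j` of the word `ω` at the vector `v` of coordinates;
* `cc td l` : the coordinates `l ∘ hh j` of the `T`-character `l`;
* `QQ` : the conditions on the coordinates given by an elliptic element and the fundamental coweights;
* `VB_ne_three`, `VB_ne_four`.
-/

set_option autoImplicit false
set_option linter.unusedSectionVars false

open Cfsg

namespace Cfsg.Agent.H200.VZ

open CoxeterSystem Cfsg.Agent.ChevalleyStructure.CoxeterGeom Cfsg.Agent.Tits.Roots Cfsg.Agent.Tits.Core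
  Cfsg.Agent.Tits.Exchange Cfsg.Agent.Nodes.Reps Cfsg.Agent.Nodes.BNOf Cfsg.Agent.Nodes.StabComb
  Cfsg.Agent.Nodes.Bruhat Cfsg.Agent.Nodes.OppDec Cfsg.Agent.Nodes.LeviDec Cfsg.Agent.H985.VZ
  Cfsg.Agent.Nodes.TypeC
open Cfsg.Agent.H650.OZ (act actw actw_smul act_smul Vl_one)

/-! ### exponents -/

section Ex

variable {I : Type*} [DecidableEq I] {G : Type*} [AddCommGroup G]

/-- the exponent of the letter `j` -/
def ex (A' : I → I → ℤ) (j : I) : List I → (I → G) → G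
  | [], _ => 0
  | i :: ω, v => (if i = j then actw A' ω v j else 0) + ex A' j ω v

/-- the unit vectors -/
def dl (k i : I) : ℤ := if i = k then 1 else 0

variable {A' : I → I → ℤ}

theorem actw_lin [Fintype I] (ω : List I) (v : I → G) (j : I) :
    actw A' ω v j = ∑ k, actw A' ω (dl k) j • v k := by
  induction ω generalizing j with
  | nil =>
    change v j = ∑ k, dl k j • v k
    rw [Finset.sum_eq_single j]
    · rw [dl, if_pos rfl, one_smul]
    · intro b _ hb
      rw [dl, if_neg (Ne.symm hb), zero_smul]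
    · simp
  | cons i ω ih =>
    change actw A' ω v j - A' j i • actw A' ω v i = ∑ k, (actw A' ω (dl k) j - A' j i • actw A' ω (dl k) i) • v k
    rw [ih j, ih i, Finset.smul_sum, ← Finset.sum_sub_distrib]
    exact Finset.sum_congr rfl fun k _ => by rw [sub_smul, smul_eq_mul, mul_smul]

theorem ex_lin [Fintype I] (ω : List I) (v : I → G) (j : I) : ex A' j ω v = ∑ k, ex A' j ω (dl k) • v k := by
  induction ω with
  | nil => simp [ex]
  | cons i ω ih =>
    simp only [ex, add_smul, Finset.sum_add_distrib]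
    rw [← ih]
    congr 1
    split_ifs with h
    · exact actw_lin ω v j
    · simp

theorem ex_smul (ω : List I) (μ : I → ℤ) (c : G) (j : I) : ex A' j ω (fun i => μ i • c) = ex A' j ω μ • c := by
  induction ω with
  | nil => simp [ex]
  | cons i ω ih =>
    simp only [ex, add_smul]
    rw [ih, actw_smul]
    congr 1
    split_ifs with h
    · rfl
    · rw [zero_smul]

/-- the conditions from an elliptic element -/
def QQ (A' : I → I → ℤ) (L : List (List I)) (JL : List I) (v : I → G) : Prop :=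
  ∀ υ : List I, (∀ i ∈ υ, i ∈ JL) → ∀ i0 ∈ JL, ∃ ω ∈ L, i0 ∈ ω ∧ ∀ j, ex A' j ω (actw A' υ v) = 0

/-- a certificate -/
def cert (A' : I → I → ℤ) (L : List (List I)) (JL : List I) (t : (I → ℤ) × List I × I) (js : List I) : Bool :=
  (t.2.1.all fun i => decide (i ∈ JL)) && decide (t.2.2 ∈ JL) &&
    L.all fun ω => !decide (t.2.2 ∈ ω) || js.any fun j => (ex A' j ω (actw A' t.2.1 t.1)).natAbs == 1

theorem QQ.eq_zero {L : List (List I)} {JL js : List I} {t : (I → ℤ) × List I × I} (hc : cert A' L JL t js = true)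
    {c : G} (hQ : QQ A' L JL fun i => t.1 i • c) : c = 0 := by
  unfold cert at hc
  rw [Bool.and_eq_true, Bool.and_eq_true] at hc
  obtain ⟨⟨h1, h2⟩, h3⟩ := hc
  rw [List.all_eq_true] at h1 h3
  obtain ⟨ω, hω, h4, h5⟩ := hQ t.2.1 (fun i hi => of_decide_eq_true (h1 i hi)) t.2.2 (of_decide_eq_true h2)
  have h6 := h3 ω hω
  rw [Bool.or_eq_true, Bool.not_eq_true', decide_eq_false_iff_not, List.any_eq_true] at h6
  rcases h6 with h6 | ⟨j, -, hj⟩
  · exact absurd h4 h6
  rw [beq_iff_eq, Int.natAbs_eq_iff] at hj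
  have h7 := h5 j
  rw [actw_smul, ex_smul] at h7
  rcases hj with hj | hj
  · rwa [hj, Nat.cast_one, one_smul] at h7
  · rw [hj, Nat.cast_one, neg_smul, one_smul, neg_eq_zero] at h7
    exact h7

/-- the orbit of a multiple of a unit vector -/
theorem alg_orb {L : List (List I)} {JL js : List I} {v v' : I → G} {ω : List I} (hv : v = actw A' ω v') {k0 : I}
    (hK : ∀ k, k ≠ k0 → v' k = 0)
    (O : List ((I → ℤ) × List I × I)) (hO0 : ∃ t ∈ O, ∀ i, t.1 i = dl k0 i)
    (hO : ∀ t ∈ O, ∀ j, ∃ t' ∈ O, ∀ i, act A' j t.1 i = t'.1 i) (hO1 : ∀ t ∈ O, cert A' L JL t js = true)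
    (hQ : QQ A' L JL v) : v' = 0 := by
  have h2 : v' = fun i => dl k0 i • v' k0 := by
    funext i
    by_cases hi : i = k0
    · rw [dl, if_pos hi, one_smul, hi]
    · rw [dl, if_neg hi, zero_smul, hK i hi]
  have h3 : ∀ ω : List I, ∃ t ∈ O, ∀ i, actw A' ω (dl k0) i = t.1 i := by
    intro ω
    induction ω with
    | nil =>
      obtain ⟨t, ht, e⟩ := hO0
      exact ⟨t, ht, fun i => (e i).symm⟩
    | cons j ω ih =>
      obtain ⟨t, ht, e⟩ := ih
      obtain ⟨t', ht', e'⟩ := hO t ht j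
      refine ⟨t', ht', fun i => ?_⟩
      rw [actw, ← e' i, funext e]
  obtain ⟨t0, ht0, e0⟩ := h3 ω
  have h4 : v = fun i => t0.1 i • v' k0 := by
    rw [hv, h2, actw_smul, funext e0]
    funext i
    beta_reduce
    rw [show dl k0 k0 = 1 from if_pos rfl, one_smul]
  have h5 : v' k0 = 0 := by
    rw [h4] at hQ
    exact hQ.eq_zero (hO1 t0 ht0)
  rw [h2, h5]
  funext i
  exact smul_zero _

end Ex

/-! ### coordinates -/

section Co

universe u

variable {I W : Type*} {Y : Type u} [Fintype I] [DecidableEq I] [Group W] [Group Y] {M : CoxeterMatrix I}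
  {cs : CoxeterSystem M W} {A A' : I → I → ℤ} {h : IsCartan M A} {T : Subgroup Y} {n : I → Y}
  {X : (I → ℤ) → Subgroup Y} {hN : NSys M T n} {X0 : Type*} [Group X0] {hh : I → X0 →* Y} (td : TD T n A' hh)

/-- the coordinates of a character of `T` -/
def cc (l : T →* ℂˣ) (j : I) : Additive (X0 →* ℂˣ) := Additive.ofMul (l.comp ((hh j).codRestrict T (td.mem j)))

theorem cc_apply (l : T →* ℂˣ) (j : I) (x : X0) : (cc td l j).toMul x = l ⟨hh j x, td.mem j x⟩ := rfl

theorem cc_mv {i : I} {l l' : T →* ℂˣ} (hm : Mv cs hN (cs.simple i) l l') : cc td l' = act A' i (cc td l) := by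
  funext j
  apply Additive.toMul.injective
  refine MonoidHom.ext fun x => ?_
  have h1 : l' ⟨hh j x, td.mem j x⟩ = l (⟨hh j x, td.mem j x⟩ * ⟨hh i x, td.mem i x⟩ ^ (-A' j i)) := by
    refine hm (n i) (rp_simple cs hN i) _ _ ?_
    have h2 := td.conj i j x
    change hh j x = n i * (hh j x * (hh i x) ^ (-A' j i)) * (n i)⁻¹
    rw [← h2]
    group
  change l' ⟨hh j x, td.mem j x⟩ = ((l.comp ((hh j).codRestrict T (td.mem j))) /
    (l.comp ((hh i).codRestrict T (td.mem i))) ^ (A' j i)) x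
  rw [MonoidHom.div_apply, h1, map_mul, map_zpow, div_eq_mul_inv]
  congr 1
  have h4 : ((l.comp ((hh i).codRestrict T (td.mem i))) ^ (A' j i)) x = l ⟨hh i x, td.mem i x⟩ ^ (A' j i) :=
    map_zpow (MonoidHom.eval x : (X0 →* ℂˣ) →* ℂˣ) (l.comp ((hh i).codRestrict T (td.mem i))) (A' j i)
  rw [h4, zpow_neg]

theorem cc_word (ω : List I) {l : T →* ℂˣ} : ∀ {l' : T →* ℂˣ}, Mv cs hN (cs.wordProd ω) l l' →
    cc td l' = actw A' ω (cc td l) := by
  induction ω with
  | nil =>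
    intro l' hm
    rw [wordProd_nil] at hm
    rw [actw, hm.unique (mv_one l)]
  | cons i ω ih =>
    intro l' hm
    obtain ⟨l'', hl''⟩ := exists_mv_to (cs := cs) (hN := hN) (cs.wordProd ω) l
    obtain ⟨l3, hl3⟩ := exists_mv_to (cs := cs) (hN := hN) (cs.simple i) l''
    rw [wordProd_cons] at hm
    rw [hm.unique (hl''.mul hl3), cc_mv td hl3, actw, ih hl'']

theorem eq_one_of_cc {l : T →* ℂˣ} (hl : cc td l = 0) : l = 1 := by
  have h1 : Subgroup.closure {y | ∃ j x, y = hh j x} ≤ l.ker.map T.subtype := by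
    rw [Subgroup.closure_le]
    rintro _ ⟨j, x, rfl⟩
    refine ⟨⟨hh j x, td.mem j x⟩, ?_, rfl⟩
    change l _ = 1
    rw [← cc_apply td l j x, hl]
    rfl
  refine MonoidHom.ext fun t => ?_
  obtain ⟨t', ht', e⟩ := h1 (td.gen t.2)
  have e' : t' = t := Subtype.ext e
  rw [← e']
  exact ht'

variable (cs) in
/-- the value of `l` at `g⁻¹ d(g)` -/
theorem ex_val {d : Y ≃* Y} (D : Dia cs h T n X d) {j : I} {x : X0} (h1 : (n j)⁻¹ * d (n j) = hh j x)
    (h2 : ∀ i, i ≠ j → d (n i) = n i) (hN : NSys M T n) (ω : List I) (l : T →* ℂˣ) :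
    ∃ g, Rp cs hN (cs.wordProd ω) g ∧ ∀ s : T, (s : Y) = g⁻¹ * d g → l s = (ex A' j ω (cc td l)).toMul x := by
  induction ω with
  | nil =>
    refine ⟨1, by rw [wordProd_nil]; exact rp_one, fun s hs => ?_⟩
    have hs1 : s = 1 := Subtype.ext (by rw [hs, map_one]; simp)
    rw [hs1, map_one]
    rfl
  | cons i ω ih =>
    obtain ⟨g, hg, ih⟩ := ih
    refine ⟨n i * g, by rw [wordProd_cons]; exact (rp_simple cs hN i).mul hg, fun s hs => ?_⟩
    have m1 : g⁻¹ * d g ∈ T := D.rp hg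
    have m2 : (n i)⁻¹ * d (n i) ∈ T := D.nn i
    have m3 : g⁻¹ * ((n i)⁻¹ * d (n i)) * g ∈ T := by
      have := (Subgroup.mem_normalizer_iff.1 hg.inv.mem_normalizer ((n i)⁻¹ * d (n i))).1 m2
      rwa [inv_inv] at this
    have e1 : s = ⟨_, m3⟩ * ⟨_, m1⟩ := by
      apply Subtype.ext
      change (s : Y) = g⁻¹ * ((n i)⁻¹ * d (n i)) * g * (g⁻¹ * d g)
      rw [hs, map_mul]
      group
    obtain ⟨l', hl'⟩ := exists_mv_to (cs := cs) (hN := hN) (cs.wordProd ω) l
    have e2 : l ⟨_, m3⟩ = l' ⟨_, m2⟩ := by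
      refine (hl' g hg ⟨_, m2⟩ ⟨_, m3⟩ ?_).symm
      change (n i)⁻¹ * d (n i) = g * (g⁻¹ * ((n i)⁻¹ * d (n i)) * g) * g⁻¹
      group
    rw [e1, map_mul, ih ⟨_, m1⟩ rfl, e2]
    simp only [ex]
    split_ifs with hij
    · subst hij
      rw [← cc_word td ω hl', toMul_add, MonoidHom.mul_apply, cc_apply]
      congr 2
      exact Subtype.ext h1
    · have e3 : (⟨_, m2⟩ : T) = 1 := Subtype.ext (by
        change (n i)⁻¹ * d (n i) = 1
        rw [h2 i hij, inv_mul_cancel])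
      rw [e3, map_one, one_mul, zero_add]

end Co

/-! ### the conditions -/

section Rho

universe u v

variable {W : Type*} {Y : Type u} [Group W] [Group Y] {m : ℕ} {cs : CoxeterSystem (CoxeterMatrix.B m) W} {p : ℕ}
  {T : Subgroup Y} {n : Fin m → Y} {X : (Fin m → ℤ) → Subgroup Y} {V : Type v} [AddCommGroup V] [Module ℂ V]
  {ρ : Representation ℂ Y V} {A' : Fin m → Fin m → ℤ} {X0 : Type*} [Group X0] {hh : Fin m → X0 →* Y}

/-- the coordinates of a `T`-character seen by an elliptic element -/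
theorem exists_cc (R : RGD cs (isCartan m) p T n X) [Finite W] [Finite Y] [FiniteDimensional ℂ V]
    (hG : GG cs (isCartan m) T X = ⊤) (hT : ∀ s ∈ T, ∀ t ∈ T, s * t = t * s) (hρ : ρ.IsIrreducible)
    (h0 : VU cs (isCartan m) X ρ ≠ ⊥) {L : List (List (Fin m))} {JL : List (Fin m)} (hL : Closed L JL)
    (hlet : ∀ ω ∈ L, ∀ i ∈ ω, i ∈ JL) {J : Set (Fin m)} (hJ : J = {j | j ∈ JL}) {t : Y}
    (ht : Ell cs (isCartan m) T X J t) (hχ : ρ.character t ≠ 0) (td : TD T n A' hh)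
    (hd : HD cs (isCartan m) T n X hh J t) : ∃ l : T →* ℂˣ, Vl cs (isCartan m) T X ρ l ≠ ⊥ ∧ QQ A' L JL (cc td l) := by
  subst hJ
  obtain ⟨l, hl, hl2⟩ := exists_fix_D R hG hT hρ h0 ht hχ
    (D := {d | Dia cs (isCartan m) T n X d ∧ ∃ a ∈ LJ cs (isCartan m) T X {j | j ∈ JL}, d t = a * t * a⁻¹})
    fun d hd => hd
  refine ⟨l, hl, fun υ hυ i0 hi0 => ?_⟩
  obtain ⟨l', hl'⟩ := exists_mv_to (cs := cs) (hN := R.nsys) (cs.wordProd υ) l
  obtain ⟨w, hw, hwK, hfix, hw2⟩ := hl2 (cs.wordProd υ) (mem_WJ_word hυ) l' hl' ({j | j ∈ JL} \ {i0})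
    ⟨Set.sdiff_subset, fun hle => (hle (show i0 ∈ {j | j ∈ JL} from hi0)).2 rfl⟩
  obtain ⟨ω, hω, rfl⟩ := exists_word hL hw
  refine ⟨ω, hω, ?_, fun j => ?_⟩
  · by_contra hcon
    refine hwK (mem_WJ_word fun i hi => ⟨hlet ω hω i hi, fun he => ?_⟩)
    rw [Set.mem_singleton_iff] at he
    exact hcon (he ▸ hi)
  · rw [← cc_word td υ hl']
    apply Additive.toMul.injective
    refine MonoidHom.ext fun x => ?_
    obtain ⟨d, D, h1, h2, a, ha, e⟩ := hd j x
    obtain ⟨g, hg, h3⟩ := ex_val cs td D h1 h2 R.nsys ω l'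
    have h4 : g⁻¹ * d g ∈ T := D.rp hg
    rw [← h3 ⟨_, h4⟩ rfl, hw2 d ⟨D, a, ha, e⟩ g hg ⟨_, h4⟩ rfl]
    rfl

/-- the combination -/
theorem VB_ne_of (R : RGD cs (isCartan m) p T n X) [Finite W] [Finite Y] [FiniteDimensional ℂ V]
    (hG : GG cs (isCartan m) T X = ⊤) (hT : ∀ s ∈ T, ∀ t ∈ T, s * t = t * s) (hρ : ρ.IsIrreducible)
    (h0 : VU cs (isCartan m) X ρ ≠ ⊥) {L : List (List (Fin m))} {JL : List (Fin m)} (hL : Closed L JL)
    (hlet : ∀ ω ∈ L, ∀ i ∈ ω, i ∈ JL) {J : Set (Fin m)} (hJ : J = {j | j ∈ JL}) {t : Y}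
    (ht : Ell cs (isCartan m) T X J t) (hχ : ρ.character t ≠ 0) (hd : HD cs (isCartan m) T n X hh J t)
    {L' : List (List (Fin m))} {JL' : List (Fin m)} (hL' : Closed L' JL')
    (hlet' : ∀ ω ∈ L', ∀ i ∈ ω, i ∈ JL') {J' : Set (Fin m)} (hJ' : J' = {j | j ∈ JL'}) {t' : Y}
    (ht' : Ell cs (isCartan m) T X J' t') (hχ' : ρ.character t' ≠ 0) (hd' : HD cs (isCartan m) T n X hh J' t')
    (td : TD T n A' hh) {k0 : Fin m}
    (hK : ∀ v : Fin m → Additive (X0 →* ℂˣ), QQ A' L' JL' v → ∀ k, k ≠ k0 → v k = 0)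
    (O : List ((Fin m → ℤ) × List (Fin m) × Fin m)) (hO0 : ∃ t ∈ O, ∀ i, t.1 i = dl k0 i)
    (hO : ∀ t ∈ O, ∀ j, ∃ t' ∈ O, ∀ i, act A' j t.1 i = t'.1 i)
    (js : List (Fin m)) (hO1 : ∀ t ∈ O, cert A' L JL t js = true) :
    fx ρ (RGD.B cs (isCartan m) T X) ≠ ⊥ := by
  obtain ⟨l, hl, hQ⟩ := exists_cc R hG hT hρ h0 hL hlet hJ ht hχ td hd
  obtain ⟨l', hl', hQ'⟩ := exists_cc R hG hT hρ h0 hL' hlet' hJ' ht' hχ' td hd'
  have h1 := hK _ hQ'
  obtain ⟨w, hw⟩ := exists_mv R hG hρ hl' hl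
  obtain ⟨ω, rfl⟩ := cs.wordProd_surjective w
  have h6 : cc td l' = 0 := alg_orb (cc_word td ω hw) h1 O hO0 hO hO1 hQ
  rw [← Vl_one R, ← eq_one_of_cc td h6]
  exact hl'

end Rho

end Cfsg.Agent.H200.VZ
end

-- part: H200/VZ/VBne
section
/-!
# S4842: `V^B ≠ 0` for `B_n`, `C_n`, `n = 3, 4` (helper200)

The certificates and `VB_ne_three`, `VB_ne_four`.
-/

set_option autoImplicit false
set_option linter.unusedSectionVars false

open Cfsg

namespace Cfsg.Agent.H200.VZ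

open CoxeterSystem Cfsg.Agent.ChevalleyStructure.CoxeterGeom Cfsg.Agent.Tits.Roots Cfsg.Agent.Tits.Core
  Cfsg.Agent.Tits.Exchange Cfsg.Agent.Nodes.Reps Cfsg.Agent.Nodes.BNOf Cfsg.Agent.Nodes.StabComb
  Cfsg.Agent.Nodes.Bruhat Cfsg.Agent.Nodes.OppDec Cfsg.Agent.Nodes.LeviDec Cfsg.Agent.H985.VZ
  Cfsg.Agent.Nodes.TypeC
open Cfsg.Agent.H650.OZ (act actw)

/-- the orbit, with certificates -/
def O3f : List ((Fin 3 → ℤ) × List (Fin 3) × Fin 3) := [
  (![0, 1, 0], [], 1),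
  (![1, -1, 1], [0], 0),
  (![-1, 0, 1], [], 0),
  (![1, 1, -1], [0], 0),
  (![-1, 2, -1], [], 0),
  (![2, -1, 0], [], 1),
  (![1, -2, 1], [], 0),
  (![-2, 1, 0], [], 1),
  (![-1, -1, 1], [0], 0),
  (![1, 0, -1], [], 0),
  (![-1, 1, -1], [0], 0),
  (![0, -1, 0], [], 1)]

/-- the orbit, with certificates -/
def O3t : List ((Fin 3 → ℤ) × List (Fin 3) × Fin 3) := [
  (![0, 1, 0], [], 1),
  (![1, -1, 2], [0], 0),
  (![-1, 0, 2], [], 0),
  (![1, 1, -2], [0], 0),
  (![-1, 2, -2], [], 0),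
  (![2, -1, 0], [], 1),
  (![1, -2, 2], [], 0),
  (![-2, 1, 0], [], 1),
  (![-1, -1, 2], [0], 0),
  (![1, 0, -2], [], 0),
  (![-1, 1, -2], [0], 0),
  (![0, -1, 0], [], 1)]

/-- the orbit, with certificates -/
def O4f : List ((Fin 4 → ℤ) × List (Fin 4) × Fin 4) := [
  (![0, 0, 1, 0], [], 2),
  (![0, 1, -1, 1], [2], 2),
  (![1, -1, 0, 1], [0], 0),
  (![0, 1, 1, -1], [2], 2),
  (![-1, 0, 0, 1], [], 0),
  (![1, -1, 2, -1], [0], 0),
  (![0, 2, -1, 0], [], 2),
  (![-1, 0, 2, -1], [], 0),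
  (![1, 1, -2, 1], [0], 0),
  (![2, -2, 1, 0], [], 2),
  (![-1, 2, -2, 1], [], 0),
  (![2, -1, -1, 1], [2], 2),
  (![1, 1, 0, -1], [0], 0),
  (![-2, 0, 1, 0], [], 2),
  (![1, -2, 0, 1], [], 0),
  (![-1, 2, 0, -1], [], 0),
  (![-2, 1, -1, 1], [2], 2),
  (![2, -1, 1, -1], [2], 2),
  (![-1, -1, 0, 1], [0], 0),
  (![1, -2, 2, -1], [], 0),
  (![-2, 1, 1, -1], [2], 2),
  (![2, 0, -1, 0], [], 2),
  (![-1, -1, 2, -1], [0], 0),
  (![1, 0, -2, 1], [], 0),
  (![-2, 2, -1, 0], [], 2),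
  (![-1, 1, -2, 1], [0], 0),
  (![1, 0, 0, -1], [], 0),
  (![0, -2, 1, 0], [], 2),
  (![0, -1, -1, 1], [2], 2),
  (![-1, 1, 0, -1], [0], 0),
  (![0, -1, 1, -1], [2], 2),
  (![0, 0, -1, 0], [], 2)]

/-- the orbit, with certificates -/
def O4t : List ((Fin 4 → ℤ) × List (Fin 4) × Fin 4) := [
  (![0, 0, 1, 0], [], 2),
  (![0, 1, -1, 2], [2], 2),
  (![1, -1, 0, 2], [0], 0),
  (![0, 1, 1, -2], [2], 2),
  (![-1, 0, 0, 2], [], 0),
  (![1, -1, 2, -2], [0], 0),
  (![0, 2, -1, 0], [], 2),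
  (![-1, 0, 2, -2], [], 0),
  (![1, 1, -2, 2], [0], 0),
  (![2, -2, 1, 0], [], 2),
  (![-1, 2, -2, 2], [], 0),
  (![2, -1, -1, 2], [2], 2),
  (![1, 1, 0, -2], [0], 0),
  (![-2, 0, 1, 0], [], 2),
  (![1, -2, 0, 2], [], 0),
  (![-1, 2, 0, -2], [], 0),
  (![-2, 1, -1, 2], [2], 2),
  (![2, -1, 1, -2], [2], 2),
  (![-1, -1, 0, 2], [0], 0),
  (![1, -2, 2, -2], [], 0),
  (![-2, 1, 1, -2], [2], 2),
  (![2, 0, -1, 0], [], 2),
  (![-1, -1, 2, -2], [0], 0),
  (![1, 0, -2, 2], [], 0),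
  (![-2, 2, -1, 0], [], 2),
  (![-1, 1, -2, 2], [0], 0),
  (![1, 0, 0, -2], [], 0),
  (![0, -2, 1, 0], [], 2),
  (![0, -1, -1, 2], [2], 2),
  (![-1, 1, 0, -2], [0], 0),
  (![0, -1, 1, -2], [2], 2),
  (![0, 0, -1, 0], [], 2)]

section K

variable {G : Type*} [AddCommGroup G]

theorem ex_of_dl {I : Type*} [DecidableEq I] [Fintype I] {A' : I → I → ℤ} {ω : List I} {j : I} {c : I → ℤ}
    (h : ∀ k, ex A' j ω (dl k) = c k) (v : I → G) : ex A' j ω v = ∑ k, c k • v k := by
  rw [ex_lin]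
  exact Finset.sum_congr rfl fun k _ => by rw [h k]

theorem sum_dl {I : Type*} [DecidableEq I] [Fintype I] (j : I) (v : I → G) : ∑ k, dl k j • v k = v j := by
  rw [Finset.sum_eq_single j]
  · rw [dl, if_pos rfl, one_smul]
  · intro b _ hb
    rw [dl, if_neg (Ne.symm hb), zero_smul]
  · simp

theorem K3_cert : ∀ o : Bool, ∀ j ∈ ([0, 2] : List (Fin 3)), ∀ ω ∈ L3K, j ∈ ω → ∀ k, ex (Ap o 3) j ω (dl k) = dl k j := by
  decide +kernel

theorem K_three (o : Bool) (v : Fin 3 → G) (hQ : QQ (Ap o 3) L3K [0, 2] v) : ∀ k, k ≠ 1 → v k = 0 := by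
  have key : ∀ j ∈ ([0, 2] : List (Fin 3)), v j = 0 := by
    intro j hj
    obtain ⟨ω, hω, h2, h3⟩ := hQ [] (by simp) j hj
    have h4 := h3 j
    rw [ex_of_dl (K3_cert o j hj ω hω h2), sum_dl] at h4
    exact h4
  intro k hk
  fin_cases k
  · exact key 0 (by simp)
  · exact absurd rfl hk
  · exact key 2 (by simp)

theorem K4_cert3 : ∀ o : Bool, ∀ ω ∈ L4K, 3 ∈ ω → ∀ k, ex (Ap o 4) 3 ω (dl k) = dl k 3 := by
  decide +kernel

theorem K4_cert : ∀ o : Bool, ∀ j ∈ ([0, 1] : List (Fin 4)), ∀ ω ∈ L4K, j ∈ ω →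
    (∀ k, ex (Ap o 4) j ω (dl k) = dl k j) ∨ ∀ k, ex (Ap o 4) j ω (dl k) = dl k 0 + dl k 1 := by
  decide +kernel

theorem Ap4_00 : ∀ o : Bool, Ap o 4 0 0 = 2 := by decide

theorem Ap4_10 : ∀ o : Bool, Ap o 4 1 0 = -1 := by decide

theorem K_four (o : Bool) (v : Fin 4 → G) (hQ : QQ (Ap o 4) L4K [0, 1, 3] v) : ∀ k, k ≠ 2 → v k = 0 := by
  have k3 : v 3 = 0 := by
    obtain ⟨ω, hω, h2, h3⟩ := hQ [] (by simp) 3 (by simp)
    have h4 := h3 3
    rw [ex_of_dl (K4_cert3 o ω hω h2), sum_dl] at h4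
    exact h4
  have key : ∀ υ : List (Fin 4), (∀ i ∈ υ, i ∈ ([0, 1, 3] : List (Fin 4))) → ∀ j ∈ ([0, 1] : List (Fin 4)),
      actw (Ap o 4) υ v j = 0 ∨ actw (Ap o 4) υ v 0 + actw (Ap o 4) υ v 1 = 0 := by
    intro υ hυ j hj
    obtain ⟨ω, hω, h2, h3⟩ := hQ υ hυ j (by revert j; decide)
    have h4 := h3 j
    rcases K4_cert o j hj ω hω h2 with h5 | h5
    · rw [ex_of_dl h5, sum_dl] at h4
      exact Or.inl h4
    · rw [ex_of_dl h5] at h4
      simp only [add_smul, Finset.sum_add_distrib, sum_dl] at h4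
      exact Or.inr h4
  have e0 : actw (Ap o 4) [0] v 0 = - v 0 := by
    change v 0 - Ap o 4 0 0 • v 0 = _
    rw [Ap4_00]
    abel
  have e1 : actw (Ap o 4) [0] v 1 = v 1 + v 0 := by
    change v 1 - Ap o 4 1 0 • v 0 = _
    rw [Ap4_10]
    abel
  have a0 : v 0 = 0 ∨ v 0 + v 1 = 0 := key [] (by simp) 0 (by simp)
  have a1 : v 1 = 0 ∨ v 0 + v 1 = 0 := key [] (by simp) 1 (by simp)
  have b0 := key [0] (by simp) 0 (by simp)
  rw [e0, e1] at b0
  have h0 : v 0 = 0 := by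
    rcases a0 with h | h
    · exact h
    · rcases b0 with h' | h'
      · exact neg_eq_zero.1 h'
      · have : v 1 = 0 := by
          rw [← h']
          abel
        rwa [this, add_zero] at h
  have h1 : v 1 = 0 := by
    rcases a1 with h | h
    · exact h
    · rwa [h0, zero_add] at h
  intro k hk
  fin_cases k
  · exact h0
  · exact h1
  · exact absurd rfl hk
  · exact k3

end K

/-! ### certificates -/

theorem O3f_cert : ∀ t ∈ O3f, cert (Ap false 3) L3J [0, 1] t [0, 1] = true := by decide +kernel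
theorem O3t_cert : ∀ t ∈ O3t, cert (Ap true 3) L3J [0, 1] t [0, 1] = true := by decide +kernel
private noncomputable def _root_.Cfsg.Agent.LsF.f5531ef_2 : {f // @Cfsg.Agent.H200.VZ.O4f = f} := ⟨_, by first | (delta Cfsg.Agent.H200.VZ.O4f; rewrite [Cfsg.Agent.LsF.ineg_pat, Cfsg.Agent.LsF.vecCons_eq]; exact rfl) | exact rfl⟩
private noncomputable def _root_.Cfsg.Agent.LsF.f5531ef_3 : {f // @Cfsg.Agent.H200.VZ.Ap = f} := ⟨_, by first | (delta Cfsg.Agent.H200.VZ.Ap; rewrite [Cfsg.Agent.LsF.nadd_pat, Cfsg.Agent.LsF.ineg_pat, Cfsg.Agent.LsF.instDecEq_eq, Cfsg.Agent.LsF.dAnd_eq, Cfsg.Agent.LsF.dFinEq_eq, Cfsg.Agent.LsF.dBoolEq_eq, Cfsg.Agent.LsF.ite_eq]; exact rfl) | exact rfl⟩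
theorem O4f_cert : ∀ t ∈ O4f, cert (Ap false 4) L4J [0, 1, 2] t [0, 1, 2] = true := by (refine of_decide_eq_true ?_; (try (delta Cfsg.Agent.H200.VZ.cert Cfsg.Agent.H200.VZ.ex Cfsg.Agent.H200.VZ.ex._f Cfsg.Agent.H650.OZ.actw Cfsg.Agent.H650.OZ.actw._f List.brecOn List.brecOn.go; rewrite [Cfsg.Agent.LsF.dMemE_pat, Cfsg.Agent.LsF.f5531ef_2.2, Cfsg.Agent.LsF.f5531ef_3.2, Cfsg.Agent.LsF.nbeq_pat, Cfsg.Agent.LsF.iadd_pat, Cfsg.Agent.LsF.and_eq, Cfsg.Agent.LsF.or_eq, Cfsg.Agent.LsF.not_eq, Cfsg.Agent.LsF.all_eq, Cfsg.Agent.LsF.any_eq, Cfsg.Agent.LsF.natAbs_eq, Cfsg.Agent.LsF.dFinEq_eq, Cfsg.Agent.LsF.dBoolEq_eq, Cfsg.Agent.LsF.dBAll_eq, Cfsg.Agent.LsF.ite_eq, Cfsg.Agent.LsF.decide_eq])); decide +kernel)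
private noncomputable def _root_.Cfsg.Agent.LsF.f5531ef_4 : {f // @Cfsg.Agent.H200.VZ.O4t = f} := ⟨_, by first | (delta Cfsg.Agent.H200.VZ.O4t; rewrite [Cfsg.Agent.LsF.ineg_pat, Cfsg.Agent.LsF.vecCons_eq]; exact rfl) | exact rfl⟩
theorem O4t_cert : ∀ t ∈ O4t, cert (Ap true 4) L4J [0, 1, 2] t [0, 1, 2] = true := by (refine of_decide_eq_true ?_; (try (delta Cfsg.Agent.H200.VZ.cert Cfsg.Agent.H200.VZ.ex Cfsg.Agent.H200.VZ.ex._f Cfsg.Agent.H650.OZ.actw Cfsg.Agent.H650.OZ.actw._f List.brecOn List.brecOn.go; rewrite [Cfsg.Agent.LsF.dMemE_pat, Cfsg.Agent.LsF.f5531ef_4.2, Cfsg.Agent.LsF.f5531ef_3.2, Cfsg.Agent.LsF.nbeq_pat, Cfsg.Agent.LsF.iadd_pat, Cfsg.Agent.LsF.and_eq, Cfsg.Agent.LsF.or_eq, Cfsg.Agent.LsF.not_eq, Cfsg.Agent.LsF.all_eq, Cfsg.Agent.LsF.any_eq, Cfsg.Agent.LsF.natAbs_eq, Cfsg.Agent.LsF.dFinEq_eq, Cfsg.Agent.LsF.dBoolEq_eq, Cfsg.Agent.LsF.dBAll_eq, Cfsg.Agent.LsF.ite_eq, Cfsg.Agent.LsF.decide_eq])); decide +kernel)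

theorem O3f_orb : ∀ t ∈ O3f, ∀ j, ∃ t' ∈ O3f, ∀ i, act (Ap false 3) j t.1 i = t'.1 i := by decide +kernel
theorem O3t_orb : ∀ t ∈ O3t, ∀ j, ∃ t' ∈ O3t, ∀ i, act (Ap true 3) j t.1 i = t'.1 i := by decide +kernel
theorem O4f_orb : ∀ t ∈ O4f, ∀ j, ∃ t' ∈ O4f, ∀ i, act (Ap false 4) j t.1 i = t'.1 i := by (refine of_decide_eq_true ?_; (try (rewrite [Cfsg.Agent.LsF.f5531ef_2.2, Cfsg.Agent.LsF.f5531ef_3.2, Cfsg.Agent.LsF.instIDecEq_eq, Cfsg.Agent.LsF.dBAll_eq, Cfsg.Agent.LsF.dBEx_eq, Cfsg.Agent.LsF.dForallFin_eq, Cfsg.Agent.LsF.decide_eq])); decide +kernel)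
theorem O4t_orb : ∀ t ∈ O4t, ∀ j, ∃ t' ∈ O4t, ∀ i, act (Ap true 4) j t.1 i = t'.1 i := by (refine of_decide_eq_true ?_; (try (rewrite [Cfsg.Agent.LsF.f5531ef_4.2, Cfsg.Agent.LsF.f5531ef_3.2, Cfsg.Agent.LsF.instIDecEq_eq, Cfsg.Agent.LsF.dBAll_eq, Cfsg.Agent.LsF.dBEx_eq, Cfsg.Agent.LsF.dForallFin_eq, Cfsg.Agent.LsF.decide_eq])); decide +kernel)

theorem O3f_0 : ∃ t ∈ O3f, ∀ i, t.1 i = dl 1 i := by decide +kernel
theorem O3t_0 : ∃ t ∈ O3t, ∀ i, t.1 i = dl 1 i := by decide +kernel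
theorem O4f_0 : ∃ t ∈ O4f, ∀ i, t.1 i = dl 2 i := by decide +kernel
theorem O4t_0 : ∃ t ∈ O4t, ∀ i, t.1 i = dl 2 i := by decide +kernel

/-! ### the theorems -/

section Rho

universe u v

variable {W : Type*} {Y : Type u} [Group W] [Group Y] {p : ℕ}
  {T : Subgroup Y} {V : Type v} [AddCommGroup V] [Module ℂ V]
  {ρ : Representation ℂ Y V} {X0 : Type*} [Group X0]

/-- **`V^B ≠ 0`, rank three** -/
theorem VB_ne_three (o : Bool) {cs : CoxeterSystem (CoxeterMatrix.B 3) W} {n : Fin 3 → Y}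
    {X : (Fin 3 → ℤ) → Subgroup Y} {hh : Fin 3 → X0 →* Y}
    (R : RGD cs (isCartan 3) p T n X) [Finite Y] [FiniteDimensional ℂ V]
    (hG : GG cs (isCartan 3) T X = ⊤) (hT : ∀ s ∈ T, ∀ t ∈ T, s * t = t * s) (hρ : ρ.IsIrreducible) {t t' : Y}
    (ht : Ell cs (isCartan 3) T X {2}ᶜ t) (hχ : ρ.character t ≠ 0) (hd : HD cs (isCartan 3) T n X hh {2}ᶜ t)
    (ht' : Ell cs (isCartan 3) T X {1}ᶜ t') (hχ' : ρ.character t' ≠ 0)
    (hd' : HD cs (isCartan 3) T n X hh {1}ᶜ t') (td : TD T n (Ap o 3) hh) :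
    fx ρ (RGD.B cs (isCartan 3) T X) ≠ ⊥ := by
  classical
  have : Finite W := finite_W cs
  have e1 : ({2}ᶜ : Set (Fin 3)) = {j | j ∈ ([0, 1] : List (Fin 3))} := by ext j; fin_cases j <;> simp
  have e2 : ({1}ᶜ : Set (Fin 3)) = {j | j ∈ ([0, 2] : List (Fin 3))} := by ext j; fin_cases j <;> simp
  cases o
  · exact VB_ne_of R hG hT hρ (VU_ne_three R hG hρ ht hχ ht' hχ') closed_3J (by decide) e1 ht hχ hd closed_3K
      (by decide) e2 ht' hχ' hd' td (k0 := 1) (fun v hv => K_three false v hv) O3f O3f_0 O3f_orb [0, 1] O3f_cert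
  · exact VB_ne_of R hG hT hρ (VU_ne_three R hG hρ ht hχ ht' hχ') closed_3J (by decide) e1 ht hχ hd closed_3K
      (by decide) e2 ht' hχ' hd' td (k0 := 1) (fun v hv => K_three true v hv) O3t O3t_0 O3t_orb [0, 1] O3t_cert

/-- **`V^B ≠ 0`, rank four** -/
theorem VB_ne_four (o : Bool) {cs : CoxeterSystem (CoxeterMatrix.B 4) W} {n : Fin 4 → Y}
    {X : (Fin 4 → ℤ) → Subgroup Y} {hh : Fin 4 → X0 →* Y}
    (R : RGD cs (isCartan 4) p T n X) [Finite Y] [FiniteDimensional ℂ V]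
    (hG : GG cs (isCartan 4) T X = ⊤) (hT : ∀ s ∈ T, ∀ t ∈ T, s * t = t * s) (hρ : ρ.IsIrreducible) {t t' : Y}
    (ht : Ell cs (isCartan 4) T X {3}ᶜ t) (hχ : ρ.character t ≠ 0) (hd : HD cs (isCartan 4) T n X hh {3}ᶜ t)
    (ht' : Ell cs (isCartan 4) T X {2}ᶜ t') (hχ' : ρ.character t' ≠ 0)
    (hd' : HD cs (isCartan 4) T n X hh {2}ᶜ t') (td : TD T n (Ap o 4) hh) :
    fx ρ (RGD.B cs (isCartan 4) T X) ≠ ⊥ := by
  classical
  have : Finite W := finite_W cs
  have e1 : ({3}ᶜ : Set (Fin 4)) = {j | j ∈ ([0, 1, 2] : List (Fin 4))} := by ext j; fin_cases j <;> simp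
  have e2 : ({2}ᶜ : Set (Fin 4)) = {j | j ∈ ([0, 1, 3] : List (Fin 4))} := by ext j; fin_cases j <;> simp
  cases o
  · exact VB_ne_of R hG hT hρ (VU_ne_four R hG hρ ht hχ ht' hχ') closed_4J (by decide) e1 ht hχ hd closed_4K
      (by decide) e2 ht' hχ' hd' td (k0 := 2) (fun v hv => K_four false v hv) O4f O4f_0 O4f_orb [0, 1, 2] O4f_cert
  · exact VB_ne_of R hG hT hρ (VU_ne_four R hG hρ ht hχ ht' hχ') closed_4J (by decide) e1 ht hχ hd closed_4K
      (by decide) e2 ht' hχ' hd' td (k0 := 2) (fun v hv => K_four true v hv) O4t O4t_0 O4t_orb [0, 1, 2] O4t_cert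

end Rho

end Cfsg.Agent.H200.VZ
end

-- part: H639/OZ/Asm
section
/-!
# S4842: `PSp_6`, `Ω_7`, `PSp_8`, `Ω_9`, the contradiction for `x = 2 n` (helper639)
-/

set_option autoImplicit false
set_option linter.unusedSectionVars false

open Cfsg

namespace Cfsg.Agent.H639.OZ

open CoxeterSystem Cfsg.Agent.ChevalleyStructure.CoxeterGeom Cfsg.Agent.Tits.Roots Cfsg.Agent.Tits.Core
  Cfsg.Agent.Tits.Exchange Cfsg.Agent.Nodes.Reps Cfsg.Agent.Nodes.BNOf Cfsg.Agent.Nodes.StabComb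
  Cfsg.Agent.Nodes.Bruhat Cfsg.Agent.Nodes.OppDec Cfsg.Agent.Nodes.LeviDec Cfsg.Agent.H985.VZ Module
  Cfsg.Agent.H200.VZ Cfsg.Agent.Nodes.TypeC Cfsg.Agent.H730.OZ Cfsg.Agent.Nodes

universe u

variable {W : Type*} {Y : Type u} [Group W] [Group Y] [Finite Y] {p : ℕ} {T : Subgroup Y}
  {X0 : Type*} [Group X0]

theorem charDegree_eq {N : ℕ} (ρ : Representation ℂ Y (Fin N → ℂ)) :
    charDegree ρ.character = finrank ℂ (Fin N → ℂ) := by
  unfold charDegree
  have h1 : ρ.character 1 = (finrank ℂ (Fin N → ℂ) : ℂ) := by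
    change LinearMap.trace ℂ _ (ρ 1) = _
    rw [map_one, LinearMap.trace_one]
  rw [h1, Complex.natCast_re, Nat.floor_natCast]

theorem exists_ne_zero_of {χ : Y → ℂ} (hz : OneZero χ) {P : Y → Prop} (hP : ∃ t t' : Y, P t ∧ P t' ∧ ¬ IsConj t t') :
    ∃ t, P t ∧ χ t ≠ 0 := by
  obtain ⟨t, t', h1, h2, hc⟩ := hP
  obtain ⟨x, -, hx⟩ := hz
  by_cases h3 : χ t = 0
  · exact ⟨t', h2, fun h4 => hc ((hx t h3).symm.trans (hx t' h4))⟩
  · exact ⟨t, h1, h3⟩

/-- rank three -/
theorem false_three (o : Bool) {cs : CoxeterSystem (CoxeterMatrix.B 3) W} {n : Fin 3 → Y}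
    {X : (Fin 3 → ℤ) → Subgroup Y} {hh : Fin 3 → X0 →* Y} (R : RGD cs (isCartan 3) p T n X)
    (hp : p.Prime) (hG : GG cs (isCartan 3) T X = ⊤) (hT : ∀ s ∈ T, ∀ t ∈ T, s * t = t * s) (td : TD T n (Ap o 3) hh)
    {a : ℕ} (ha : 0 < a) (hq : ∀ i, qq X i = p ^ a)
    (h1 : ∃ t t', (Ell cs (isCartan 3) T X {2}ᶜ t ∧ HD cs (isCartan 3) T n X hh {2}ᶜ t) ∧
      (Ell cs (isCartan 3) T X {2}ᶜ t' ∧ HD cs (isCartan 3) T n X hh {2}ᶜ t') ∧ ¬ IsConj t t')
    (h2 : ∃ t t', (Ell cs (isCartan 3) T X {1}ᶜ t ∧ HD cs (isCartan 3) T n X hh {1}ᶜ t) ∧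
      (Ell cs (isCartan 3) T X {1}ᶜ t' ∧ HD cs (isCartan 3) T n X hh {1}ᶜ t') ∧ ¬ IsConj t t')
    {χ : Y → ℂ} (hχ : IsIrrCharacter Y χ) (hz : OneZero χ)
    (hS : ∑ᶠ u ∈ pSet p Y, χ u = (p : ℂ) ^ (a * 6) * χ 1)
    (hr : ∃ r : ℕ, r.Prime ∧ r ∣ (p ^ a) ^ 3 + 1 ∧ ¬ r ∣ 2 * (1 + p ^ a) ∧ ¬ r ∣ charDegree χ) : False := by
  have : Finite W := finite_W cs
  obtain ⟨t, ⟨ht, hd⟩, hχt⟩ := exists_ne_zero_of hz h1
  obtain ⟨t', ⟨ht', hd'⟩, hχt'⟩ := exists_ne_zero_of hz h2
  obtain ⟨N, ρ, hρ, rfl⟩ := hχ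
  obtain ⟨r, hr0, hr1, hr2, hr3⟩ := hr
  have h0 := VB_ne_three o R hG hT hρ ht hχt hd ht' hχt' hd' td
  have h3 := no_mid_three R hp hG hρ h0 (m := a * 6) (e := 1) (Or.inl rfl)
    (by rw [hS, Int.cast_one, one_mul]) ha hq (by ring) ht hχt ht' hχt' hr0 hr1 hr2
  rw [charDegree_eq] at hr3
  exact hr3 h3

/-- rank four -/
theorem false_four (o : Bool) {cs : CoxeterSystem (CoxeterMatrix.B 4) W} {n : Fin 4 → Y}
    {X : (Fin 4 → ℤ) → Subgroup Y} {hh : Fin 4 → X0 →* Y} (R : RGD cs (isCartan 4) p T n X)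
    (hp : p.Prime) (hG : GG cs (isCartan 4) T X = ⊤) (hT : ∀ s ∈ T, ∀ t ∈ T, s * t = t * s) (td : TD T n (Ap o 4) hh)
    {a : ℕ} (ha : 0 < a) (hq : ∀ i, qq X i = p ^ a)
    (h1 : ∃ t t', (Ell cs (isCartan 4) T X {3}ᶜ t ∧ HD cs (isCartan 4) T n X hh {3}ᶜ t) ∧
      (Ell cs (isCartan 4) T X {3}ᶜ t' ∧ HD cs (isCartan 4) T n X hh {3}ᶜ t') ∧ ¬ IsConj t t')
    (h2 : ∃ t t', (Ell cs (isCartan 4) T X {2}ᶜ t ∧ HD cs (isCartan 4) T n X hh {2}ᶜ t) ∧
      (Ell cs (isCartan 4) T X {2}ᶜ t' ∧ HD cs (isCartan 4) T n X hh {2}ᶜ t') ∧ ¬ IsConj t t')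
    {χ : Y → ℂ} (hχ : IsIrrCharacter Y χ) (hz : OneZero χ)
    (hS : ∑ᶠ u ∈ pSet p Y, χ u = (p : ℂ) ^ (a * 8) * χ 1)
    (hr : ∃ r : ℕ, r.Prime ∧ r ∣ (p ^ a) ^ 4 + 1 ∧ ¬ r ∣ 2 * (1 + p ^ a) ∧ ¬ r ∣ charDegree χ) : False := by
  have : Finite W := finite_W cs
  obtain ⟨t, ⟨ht, hd⟩, hχt⟩ := exists_ne_zero_of hz h1
  obtain ⟨t', ⟨ht', hd'⟩, hχt'⟩ := exists_ne_zero_of hz h2
  obtain ⟨N, ρ, hρ, rfl⟩ := hχ
  obtain ⟨r, hr0, hr1, hr2, hr3⟩ := hr
  have h0 := VB_ne_four o R hG hT hρ ht hχt hd ht' hχt' hd' td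
  have h3 := no_mid_four R hp hG hρ h0 (m := a * 8) (e := 1) (Or.inl rfl)
    (by rw [hS, Int.cast_one, one_mul]) ha hq (by ring) ht hχt ht' hχt' hr0 hr1 hr2
  rw [charDegree_eq] at hr3
  exact hr3 h3

end Cfsg.Agent.H639.OZ
end

-- part: H601/FourOdd/Tools
section
/-!
# TEAM FOUR (S4947): the tools (helper896)

* `K0_congr`, `K0t_congr`, `Syl4_congr`, `Row5_congr`, `RowA_congr`, `Row3_congr`, `RowB_congr`;
* `sum_odd` (P1), `even_mult` (P1'), `sum_odd_t` (P1t), `four_dvd_K0`, `K0_mod` (P2), `two_dvd_K0t`;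
* `le_K0`, `lt_K0`, `lt_K0_mult`, `five_of_fin`, `five_of_four`, `five_of_four_mult`;
* `exists_four`, `exists_four_ext`, `le_K0t`, `lt_K0t`, `three_of_fin`, `three_of_two`, `exists_two`;
* `exists_odd_constituent`, `exists_odd_constituent_t` (P3), `row3_of_threeInv`, `rowB_of_row3`.
-/

set_option autoImplicit false
set_option linter.unusedSectionVars false

namespace Cfsg.Agent.H601.FourOdd

open Cfsg Cfsg.Agent Subgroup Cfsg.Agent.Characters.Core Cfsg.Agent.H307.FourOdd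
open scoped ComplexConjugate

universe u v

/-! ### Transfer -/

section Congr

variable {S : Type u} {T : Type v} [Group S] [Group T]

end Congr

/-! ### Algebraic integers modulo two -/

/-! ### The number of characters of odd degree -/

variable {G : Type u} [Group G] [Finite G]

theorem charDegree_cast (χ : IrrCharacter G) : (χ : G → ℂ) 1 = (charDegree (χ : G → ℂ) : ℂ) :=
  Blocks.Knorr.charDegree_eq χ.2

theorem sum_sq [Fintype (IrrCharacter G)] : ∑ χ : IrrCharacter G, charDegree (χ : G → ℂ) ^ 2 = Nat.card G := by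
  classical
  have h := Characters.Counting.sum_irr_one_mul (G := G) 1
  rw [if_pos rfl] at h
  have h1 : ((∑ χ : IrrCharacter G, charDegree (χ : G → ℂ) ^ 2 : ℕ) : ℂ) = (Nat.card G : ℂ) := by
    rw [← h]
    push_cast
    refine Finset.sum_congr rfl fun χ _ => ?_
    rw [charDegree_cast]
    ring
  exact_mod_cast h1

/-! ### Lower bounds for `K0` -/

/-! ### The characters fixed by an automorphism -/

/-! ### Lists of all characters of odd degree -/

/-! ### Constituents of odd degree -/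

section Constituent

variable {G : Type u} [Group G] [Fintype G]

end Constituent

/-! ### The rows -/

end Cfsg.Agent.H601.FourOdd
end

-- part: H348/OZ/ModKit
section
/-!
# S4842: residues modulo a prime `p ∥ |G|` (helper348, for the row `PSp₁₂(2)`)

* `relIndex_le` : `|N(P) : C(P)| ≤ p - 1`;
* `sum_mod` : `|C(z)| = 6 p`, `C(z) = ⟨z⟩ × S₃`: the sum over the 2-elements is `≡ 4, - 2 (mod p)` times the degree;
* `mod_of_five` : `|C(z)| = 5 p`, the normalizer acts on `C₅` by squares, `p < 3 c`: `d ≡ ± 1 (mod p)`;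
* `mod_of_eighteen` : `|C(z)| ≤ 18 p`, `p < 2 c`: `d ≡ ± 1, ± 2, ± 4 (mod p)`.
-/

set_option autoImplicit false
set_option linter.unusedSectionVars false

namespace Cfsg.Agent.H348.OZ

open Cfsg Subgroup Finset
open Cfsg.Agent.Characters.Core Cfsg.Agent.Characters.Linear
open Cfsg.Agent.SmallSimple.ThetaSetup Cfsg.Agent.SmallSimple.ThetaOrtho Cfsg.Agent.SmallSimple.ThetaCount
open Cfsg.Agent.SmallSimple.TheoremC Cfsg.Agent.SmallSimple.TheoremCCor
open Cfsg.Agent.H732.VZ (One)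
open Cfsg.Agent.H849.OZ
open Cfsg.Agent.H730.OZ (pSet)

universe u

section orb

variable {G : Type u} [Group G] [Finite G] {p : ℕ} [Fact p.Prime] {P : Sylow p G} {K : Subgroup G}

/-- The orbit of the trivial character. -/
theorem card_orb_one (hK : IsComp p (P : Subgroup G) K) : (orb P K (1 : K → ℂ)).card ≤ 1 := by
  rw [Finset.card_le_one]
  intro a ha b hb
  obtain ⟨m, hm, hma⟩ := mem_orb.1 ha
  obtain ⟨m', hm', hmb⟩ := mem_orb.1 hb
  rw [tw_one_char hK hm] at hma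
  rw [tw_one_char hK hm'] at hmb
  exact Subtype.ext (hma.symm.trans hmb)

/-- The trivial character is alone in its orbit. -/
theorem card_orb_of_one_mem (hK : IsComp p (P : Subgroup G) K) {θ : IrrCharacter K} {τ : IrrCharacter K}
    (hτ : τ ∈ orb P K (θ : K → ℂ)) (h1 : (τ : K → ℂ) = 1) : (orb P K (θ : K → ℂ)).card ≤ 1 := by
  obtain ⟨n, hn, h3⟩ := mem_orb.1 hτ
  have h4 : (θ : K → ℂ) = 1 := by
    have h5 := congrArg (fun f : K → ℂ => tw f n⁻¹) h3
    change tw (tw (θ : K → ℂ) n) n⁻¹ = tw (τ : K → ℂ) n⁻¹ at h5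
    rw [← tw_mul hK _ hn (inv_mem hn), mul_inv_cancel, tw_one, h1, tw_one_char hK (inv_mem hn)] at h5
    exact h5
  rw [h4]
  exact card_orb_one hK

/-- `|N(P) : C(P)| ≤ p - 1`. -/
theorem relIndex_le (hK : IsComp p (P : Subgroup G) K) (hP : Nat.card P = p) :
    (centralizer ((P : Subgroup G) : Set G)).relIndex (normalizer ((P : Subgroup G) : Set G)) ≤ p - 1 := by
  have hpp : p.Prime := Fact.out
  have h1irr : IsIrrCharacter K (1 : K → ℂ) := Cfsg.Agent.Characters.Core.isIrr_one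
  have h1 := card_stabAct_mul_card_orb hK hP h1irr
  have h2 := card_orb_one (P := P) hK
  have hed : Nat.card (stabAct hK (1 : K → ℂ)) ∣ p - 1 := by
    have h1 : Nat.card (MulAut P) = p - 1 := by
      have : IsCyclic (P : Subgroup G) := isCyclic_of_prime_card hP
      rw [IsCyclic.card_mulAut, hP, Nat.totient_prime hpp]
    rw [← h1]
    exact card_subgroup_dvd_card _
  have h3 := Nat.le_of_dvd (by have := hpp.two_le; omega) hed
  rw [← h1]
  calc Nat.card (stabAct hK (1 : K → ℂ)) * (orb P K (1 : K → ℂ)).card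
      ≤ Nat.card (stabAct hK (1 : K → ℂ)) * 1 := Nat.mul_le_mul_left _ h2
    _ ≤ p - 1 := by rw [mul_one]; exact h3

theorem tw_pow_apply (hK : IsComp p (P : Subgroup G) K) {n : G} (hn : n ∈ normalizer ((P : Subgroup G) : Set G))
    (hny : ∀ y : K, n * (y : G) * n⁻¹ = (y : G) ^ 2) (θ : K → ℂ) (j : ℕ) (y : K) :
    tw θ (n ^ j) y = θ (y ^ 2 ^ j) := by
  induction j generalizing θ y with
  | zero => rw [pow_zero, tw_one, pow_zero, pow_one]
  | succ j ih =>
    rw [pow_succ, tw_mul hK _ (pow_mem hn j) hn, tw_apply hK _ hn]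
    have h1 : (⟨n * (y : G) * n⁻¹, conj_mem hK hn y.2⟩ : K) = y ^ 2 := Subtype.ext (hny y)
    rw [h1, ih, ← pow_mul, ← pow_succ']

/-- `|K| = 5`, an element of the normalizer acts by squares: an orbit has one or at least four elements. -/
theorem card_orb_of_five (hK : IsComp p (P : Subgroup G) K) (h5 : Nat.card K = 5) {n : G}
    (hn : n ∈ normalizer ((P : Subgroup G) : Set G)) (hny : ∀ y : K, n * (y : G) * n⁻¹ = (y : G) ^ 2)
    (θ : IrrCharacter K) (h3 : (orb P K (θ : K → ℂ)).card ≤ 3) : (orb P K (θ : K → ℂ)).card ≤ 1 := by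
  classical
  have hF5 : Fact (Nat.Prime 5) := ⟨by norm_num⟩
  have hcyc : IsCyclic K := isCyclic_of_prime_card h5
  have hc : ∀ a b : K, a * b = b * a := fun a b => (IsCyclic.isMulCommutative (α := K)).is_comm.comm a b
  obtain ⟨f, hf⟩ := exists_hom_of_isIrrCharacter θ.2 (Characters.CCBasic.irr_apply_one_of_comm hc θ.2)
  by_cases h1 : ∀ y : K, (f y : ℂ) = 1
  · have h2 : (θ : K → ℂ) = 1 := by
      rw [hf]
      funext y
      exact h1 y
    rw [h2]
    exact card_orb_one hK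
  exfalso
  push Not at h1
  obtain ⟨y, hy⟩ := h1
  set ζ : ℂ := (f y : ℂ) with hζ
  have hζ5 : ζ ^ 5 = 1 := by
    rw [hζ, ← Units.val_pow_eq_pow_val, ← map_pow, ← h5, pow_card_eq_one', map_one, Units.val_one]
  have hpow : ∀ m : ℕ, (θ : K → ℂ) (y ^ m) = ζ ^ m := by
    intro m
    rw [hf, hζ]
    simp only [map_pow, Units.val_pow_eq_pow_val]
  have hmem : ∀ j : ℕ, ∃ τ ∈ orb P K (θ : K → ℂ), (τ : K → ℂ) y = ζ ^ 2 ^ j := by
    intro j
    refine ⟨⟨tw (θ : K → ℂ) (n ^ j), isIrr_tw hK θ.2 (pow_mem hn j)⟩, mem_orb.2 ⟨n ^ j, pow_mem hn j, rfl⟩, ?_⟩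
    change tw (θ : K → ℂ) (n ^ j) y = _
    rw [tw_pow_apply hK hn hny, hpow]
  have hprim : IsPrimitiveRoot ζ 5 := IsPrimitiveRoot.iff_orderOf.2 (orderOf_eq_prime hζ5 hy)
  have hsub : (Finset.Ico 1 5).image (fun j => ζ ^ j) ⊆ (orb P K (θ : K → ℂ)).image fun τ : IrrCharacter K => (τ : K → ℂ) y := by
    intro z hz
    obtain ⟨j, hj, rfl⟩ := Finset.mem_image.1 hz
    rw [Finset.mem_Ico] at hj
    obtain ⟨i, hi⟩ : ∃ i : ℕ, ζ ^ 2 ^ i = ζ ^ j := by
      obtain ⟨h1, h2⟩ := hj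
      have hj' : j = 1 ∨ j = 2 ∨ j = 3 ∨ j = 4 := by omega
      rcases hj' with rfl | rfl | rfl | rfl
      · exact ⟨0, by norm_num⟩
      · exact ⟨1, by norm_num⟩
      · refine ⟨3, ?_⟩
        calc ζ ^ 2 ^ 3 = ζ ^ 5 * ζ ^ 3 := by ring
          _ = ζ ^ 3 := by rw [hζ5, one_mul]
      · exact ⟨2, by norm_num⟩
    obtain ⟨τ, hτ, hτy⟩ := hmem i
    exact Finset.mem_image.2 ⟨τ, hτ, hτy.trans hi⟩
  have hcard : ((Finset.Ico 1 5).image (fun j => ζ ^ j)).card = 4 := by
    rw [Finset.card_image_of_injOn]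
    · rfl
    · intro a ha b hb hab
      have ha' := Finset.mem_Ico.1 (Finset.mem_coe.1 ha)
      have hb' := Finset.mem_Ico.1 (Finset.mem_coe.1 hb)
      exact hprim.pow_inj (by omega) (by omega) hab
  have h2 := Finset.card_le_card hsub
  have h4 := Finset.card_image_le (s := orb P K (θ : K → ℂ)) (f := fun τ : IrrCharacter K => (τ : K → ℂ) y)
  omega

end orb

section final

variable {G : Type u} [Group G] [Finite G] [IsSimpleGroup G] {p : ℕ}

/-- `|C(z)| = 5 p`, the normalizer acts on `C₅` by squares, `p < 3 c`. -/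
theorem mod_of_five (hp : p.Prime) (h7 : 7 ≤ p) (hsq : ¬ p ^ 2 ∣ Nat.card G) (hG : Nat.card G ≠ p) {g n : G}
    (hg : orderOf g = 5 * p) (hC : Nat.card (centralizer ({g ^ 5} : Set G)) ≤ 5 * p) (hn : n * g = g ^ 2 * n)
    {χ : IrrCharacter G} {x : G} (h : One χ x) (hx : ¬ p ∣ orderOf x)
    (hc : p < 3 * Nat.card (centralizer ({x} : Set G))) (h4 : 4 ≤ Nat.card (centralizer ({x} : Set G))) :
    charDegree (χ : G → ℂ) % p = 1 ∨ charDegree (χ : G → ℂ) % p = p - 1 := by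
  classical
  have hF : Fact p.Prime := ⟨hp⟩
  set z := g ^ 5 with hzdef
  have hz : orderOf z = p := by
    rw [hzdef, orderOf_pow_of_dvd (by norm_num) (by rw [hg]; exact dvd_mul_right 5 p), hg]
    exact Nat.mul_div_cancel_left p (by norm_num)
  obtain ⟨P, hPz, hP⟩ := exists_sylow hp hsq hz
  obtain ⟨K, hK⟩ := exists_isComp P hP
  have hzP : z ∈ (P : Subgroup G) := by rw [hPz]; exact mem_zpowers z
  have hz1 : z ≠ 1 := by
    intro h1
    rw [h1, orderOf_one] at hz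
    exact hp.one_lt.ne hz
  have hd : p ∣ Nat.card G := hz ▸ _root_.orderOf_dvd_natCard z
  have hw2 := normalizer_ne hd hG (P := P) rfl
  -- `C(z) = ⟨g⟩`
  have hgz : zpowers g ≤ centralizer ({z} : Set G) := by
    rw [zpowers_le, mem_centralizer_singleton_iff, hzdef, ← pow_succ, ← pow_succ']
  have hCz : centralizer ({z} : Set G) = zpowers g := by
    refine (eq_of_le_of_card_ge hgz ?_).symm
    rw [Nat.card_zpowers, hg]
    exact hC
  have hCP : centralizer ((P : Subgroup G) : Set G) = zpowers g := by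
    rw [← Blocks.CyclicOrtho.centralizer_eq P hP hzP hz1, hCz]
  have hK5 : Nat.card K = 5 := by
    have h1 := H849.OZ.card_centralizer hK hP
    rw [hCP, Nat.card_zpowers, hg, mul_comm] at h1
    exact (Nat.eq_of_mul_eq_mul_left hp.pos h1).symm
  -- the action of `n`
  have hng : n * g * n⁻¹ = g ^ 2 := by rw [hn, mul_inv_cancel_right]
  have hact : ∀ y ∈ zpowers g, n * y * n⁻¹ = y ^ 2 := by
    intro y hy
    obtain ⟨i, rfl⟩ := mem_zpowers_iff.1 hy
    rw [← conj_zpow, hng, ← _root_.zpow_natCast, ← _root_.zpow_natCast, ← _root_.zpow_mul, ← _root_.zpow_mul,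
      mul_comm]
  have hzg : z ∈ zpowers g := pow_mem (mem_zpowers g) 5
  have hz2 : z ^ 2 ≠ 1 := by
    intro h2
    have h3 := Nat.le_of_dvd two_pos (orderOf_dvd_of_pow_eq_one h2)
    omega
  have hnN : n ∈ normalizer ((P : Subgroup G) : Set G) :=
    mem_normalizer_of_conj hP hzP (pow_mem hzP 2) hz2 (hact z hzg)
  refine mod_of_orb hK hP h hx rfl (fun e t het ht he => arith h4 h7 hw2 het ht he) (fun θ hθ =>
    card_orb_of_five hK hK5 hnN (fun y => hact y (hCP ▸ hK.le y.2)) θ ?_)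
  have hw := relIndex_le hK hP
  by_contra hlt
  have h1 : 3 ≤ (orb P K (θ : K → ℂ)).card - 1 := by omega
  have hp1 : 0 < p - 1 := by omega
  have h2 : Nat.card (centralizer ({x} : Set G)) * (3 * (p - 1)) ≤ (p - 1) * p :=
    (Nat.mul_le_mul_left _ (Nat.mul_le_mul_right _ h1)).trans (hθ.trans (Nat.mul_le_mul_right _ hw))
  have h3 : (3 * Nat.card (centralizer ({x} : Set G))) * (p - 1) ≤ p * (p - 1) := by
    calc _ = Nat.card (centralizer ({x} : Set G)) * (3 * (p - 1)) := by ring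
      _ ≤ (p - 1) * p := h2
      _ = _ := mul_comm _ _
  exact absurd (Nat.le_of_mul_le_mul_right h3 hp1) (by omega)

/-- `|C(z)| ≤ 18 p`, `p < 2 c`. -/
theorem mod_of_eighteen (hp : p.Prime) (h7 : 7 ≤ p) (hsq : ¬ p ^ 2 ∣ Nat.card G) (hG : Nat.card G ≠ p) {z : G}
    (hz : orderOf z = p) (hC : Nat.card (centralizer ({z} : Set G)) ≤ 18 * p)
    {χ : IrrCharacter G} {x : G} (h : One χ x) (hx : ¬ p ∣ orderOf x)
    (hc : p < 2 * Nat.card (centralizer ({x} : Set G))) (h4 : 4 ≤ Nat.card (centralizer ({x} : Set G))) :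
    ∃ ε s k : ℤ, (ε = 1 ∨ ε = -1) ∧ (s = 1 ∨ s = 2 ∨ s = 4) ∧ (charDegree (χ : G → ℂ) : ℤ) = ε * s + p * k := by
  classical
  have hF : Fact p.Prime := ⟨hp⟩
  obtain ⟨P, hPz, hP⟩ := exists_sylow hp hsq hz
  obtain ⟨K, hK⟩ := exists_isComp P hP
  have hzP : z ∈ (P : Subgroup G) := by rw [hPz]; exact mem_zpowers z
  have hz1 : z ≠ 1 := by
    rintro rfl
    rw [orderOf_one] at hz
    exact hp.one_lt.ne hz
  have hd : p ∣ Nat.card G := hz ▸ _root_.orderOf_dvd_natCard z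
  have hw2 := normalizer_ne hd hG (P := P) rfl
  have hexc := fun (e t : ℕ) (het : e * t = p - 1) (ht : 2 ≤ t) he => arith h4 h7 hw2 het ht he
  have hK18 : Nat.card K ≤ 18 := by
    have h1 := H849.OZ.card_centralizer hK hP
    rw [← Blocks.CyclicOrtho.centralizer_eq P hP hzP hz1] at h1
    rw [h1, mul_comm 18 p] at hC
    exact Nat.le_of_mul_le_mul_left hC hp.pos
  obtain ⟨θ, ε, hε, hval, ⟨k, hk⟩, hcc⟩ := five hK hP h hx rfl hexc
  have hmem : θ ∈ orb P K (θ : K → ℂ) := mem_orb.2 ⟨1, one_mem _, tw_one _⟩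
  have hw := relIndex_le hK hP
  have hk2 : (orb P K (θ : K → ℂ)).card ≤ 2 := by
    by_contra hlt
    have h1 : 2 ≤ (orb P K (θ : K → ℂ)).card - 1 := by omega
    have hp1 : 0 < p - 1 := by omega
    have h2 : Nat.card (centralizer ({x} : Set G)) * (2 * (p - 1)) ≤ (p - 1) * p :=
      (Nat.mul_le_mul_left _ (Nat.mul_le_mul_right _ h1)).trans (hcc.trans (Nat.mul_le_mul_right _ hw))
    have h3 : (2 * Nat.card (centralizer ({x} : Set G))) * (p - 1) ≤ p * (p - 1) := by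
      calc _ = Nat.card (centralizer ({x} : Set G)) * (2 * (p - 1)) := by ring
        _ ≤ (p - 1) * p := h2
        _ = _ := mul_comm _ _
    exact absurd (Nat.le_of_mul_le_mul_right h3 hp1) (by omega)
  have hdeg : ∀ θ' ∈ orb P K (θ : K → ℂ), (θ' : K → ℂ) 1 = (charDegree (θ : K → ℂ) : ℂ) := by
    intro θ' hθ'
    obtain ⟨n, hn, h1⟩ := mem_orb.1 hθ'
    have h2 : (⟨n * ((1 : K) : G) * n⁻¹, conj_mem hK hn (1 : K).2⟩ : K) = 1 := Subtype.ext (by simp)
    rw [← h1, tw_apply hK _ hn, ← H601.FourOdd.charDegree_cast, h2]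
  rw [Finset.sum_congr rfl hdeg, Finset.sum_const, nsmul_eq_mul] at hk
  have h8 : (charDegree (χ : G → ℂ) : ℤ) = ε * (((orb P K (θ : K → ℂ)).card * charDegree (θ : K → ℂ) : ℕ) : ℤ) + p * k := by
    have h9 := Cfsg.Agent.H686.CharKit.charDegree_irr χ
    rw [hk] at h9
    exact_mod_cast h9
  refine ⟨ε, _, k, hε, ?_, h8⟩
  have hδ : 0 < charDegree (θ : K → ℂ) := Cfsg.Agent.H686.CharKit.charDegree_pos θ
  rcases Nat.lt_or_ge (orb P K (θ : K → ℂ)).card 2 with h1 | h1
  · -- one `θ`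
    have h2 : (orb P K (θ : K → ℂ)).card = 1 := by
      have := Finset.card_pos.2 ⟨θ, hmem⟩
      omega
    have h3 : orb P K (θ : K → ℂ) = {θ} := by
      obtain ⟨a, ha⟩ := Finset.card_eq_one.1 h2
      rw [ha] at hmem ⊢
      rw [Finset.mem_singleton.1 hmem]
    obtain ⟨u, hu, hu1⟩ := exists_ne_one hP
    have h4 : ∀ y : K, (θ : K → ℂ) y ≠ 0 := by
      intro y hy
      have h5 : (χ : G → ℂ) (u * y) = 0 := by
        rw [hval u hu hu1 y, h3, Finset.sum_singleton, hy, mul_zero]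
      have h6 : p ∣ orderOf (u * (y : G)) := by
        have := Fintype.ofFinite G
        exact mem_Sg.1 (Dg_sub hK hP (mem_Dg.2 ⟨u, hu, hu1, y, y.2, rfl⟩))
      obtain ⟨a, ha⟩ := isConj_iff.1 (h.uniq _ h5)
      apply hx
      rwa [← ha, ← MulAut.conj_apply, MulEquiv.orderOf_eq] at h6
    have h5 := deg_one_of_no_zero θ h4
    rw [H601.FourOdd.charDegree_cast] at h5
    have h6 : charDegree (θ : K → ℂ) = 1 := by exact_mod_cast h5
    left
    rw [h2, h6]
    rfl
  · -- two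
    have h2 : (orb P K (θ : K → ℂ)).card = 2 := le_antisymm hk2 h1
    have : Finite (IrrCharacter K) := finite_irr
    have := Fintype.ofFinite (IrrCharacter K)
    have h3 := H601.FourOdd.sum_sq (G := K)
    let τ : IrrCharacter K := ⟨1, Cfsg.Agent.Characters.Core.isIrr_one⟩
    have hτ : τ ∉ orb P K (θ : K → ℂ) := fun hτ => by
      have := card_orb_of_one_mem hK hτ rfl
      omega
    have hτ1 : charDegree (τ : K → ℂ) = 1 := by
      have h4 : (τ : K → ℂ) 1 = 1 := rfl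
      rw [H601.FourOdd.charDegree_cast] at h4
      exact_mod_cast h4
    have h4 : ∑ θ' ∈ insert τ (orb P K (θ : K → ℂ)), charDegree (θ' : K → ℂ) ^ 2 ≤ Nat.card K := by
      rw [← h3]
      exact Finset.sum_le_sum_of_subset (Finset.subset_univ _)
    have h5 : ∀ θ' ∈ orb P K (θ : K → ℂ), charDegree (θ' : K → ℂ) ^ 2 = charDegree (θ : K → ℂ) ^ 2 := by
      intro θ' hθ'
      have h6 := hdeg θ' hθ'
      rw [H601.FourOdd.charDegree_cast] at h6
      have h7 : charDegree (θ' : K → ℂ) = charDegree (θ : K → ℂ) := by exact_mod_cast h6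
      rw [h7]
    rw [Finset.sum_insert hτ, Finset.sum_congr rfl h5, Finset.sum_const, h2, hτ1, smul_eq_mul] at h4
    have h6 : charDegree (θ : K → ℂ) ≤ 2 := by
      by_contra hlt
      have h7 : 3 ≤ charDegree (θ : K → ℂ) := by omega
      have h9 := Nat.pow_le_pow_left h7 2
      omega
    right
    rw [h2]
    have h7 : charDegree (θ : K → ℂ) = 1 ∨ charDegree (θ : K → ℂ) = 2 := by omega
    rcases h7 with h7 | h7
    · left
      rw [h7]
      rfl
    · right
      rw [h7]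
      rfl

/-- The value at `z t`, `t` an involution of `C(z)`: `± χ z`. -/
theorem exists_sign (hp : p.Prime) (h7 : 7 ≤ p) (hsq : ¬ p ^ 2 ∣ Nat.card G) (hG : Nat.card G ≠ p) {z : G}
    (hz : orderOf z = p) (hcl : ∀ y y' : G, z * y = y * z → z * y' = y' * z → ¬ p ∣ orderOf y → orderOf y = orderOf y' →
      ∃ k : G, z * k = k * z ∧ k * y * k⁻¹ = y')
    {χ : IrrCharacter G} {x : G} (h : One χ x) (hx : ¬ p ∣ orderOf x)
    (h4 : 4 ≤ Nat.card (centralizer ({x} : Set G))) {t : G} (ht : t ^ 2 = 1) (hzt : z * t = t * z) :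
    ∃ s : ℤ, (s = 1 ∨ s = -1) ∧ (χ : G → ℂ) (z * t) = s * (χ : G → ℂ) z := by
  classical
  have hF : Fact p.Prime := ⟨hp⟩
  obtain ⟨P, hPz, hP⟩ := exists_sylow hp hsq hz
  obtain ⟨K, hK⟩ := exists_isComp P hP
  have hzP : z ∈ (P : Subgroup G) := by rw [hPz]; exact mem_zpowers z
  have hz1 : z ≠ 1 := by
    rintro rfl
    rw [orderOf_one] at hz
    exact hp.one_lt.ne hz
  have hd : p ∣ Nat.card G := hz ▸ _root_.orderOf_dvd_natCard z
  have hw2 := normalizer_ne hd hG (P := P) rfl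
  have hCz : ∀ y, y ∈ K → z * y = y * z := fun y hy => hK.comm hzP hy
  have horb : ∀ θ : IrrCharacter K, (orb P K (θ : K → ℂ)).card ≤ 1 := fun θ =>
      card_orb_of_conj hK (fun y y' hyy => by
    obtain ⟨k, hk, hky⟩ := hcl y y' (hCz y y.2) (hCz y' y'.2) ((hK y).1 y.2).2 (by
      rw [Subgroup.orderOf_coe, Subgroup.orderOf_coe]
      exact hyy)
    have hkC : k ∈ centralizer ((P : Subgroup G) : Set G) := by
      rw [← Blocks.CyclicOrtho.centralizer_eq P hP hzP hz1, mem_centralizer_singleton_iff]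
      exact hk.symm
    obtain ⟨a, ha, b, hb, hab⟩ := hK.exists_mul hP hkC
    refine isConj_iff.2 ⟨⟨b, hb⟩, Subtype.ext ?_⟩
    change b * (y : G) * b⁻¹ = y'
    have h1 : a * (b * (y : G) * b⁻¹) = (b * (y : G) * b⁻¹) * a :=
      hK.comm ha (mul_mem (mul_mem hb y.2) (inv_mem hb))
    rw [← hky, ← hab]
    calc b * (y : G) * b⁻¹ = (b * (y : G) * b⁻¹ * a) * a⁻¹ := by group
      _ = (a * (b * (y : G) * b⁻¹)) * a⁻¹ := by rw [h1]
      _ = a * b * y * (a * b)⁻¹ := by group) θ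
  obtain ⟨θ, ε, hε, hval, -, -⟩ := five hK hP h hx rfl (fun e t het ht he => arith h4 h7 hw2 het ht he)
  have hmem : θ ∈ orb P K (θ : K → ℂ) := mem_orb.2 ⟨1, one_mem _, tw_one _⟩
  have h3 : orb P K (θ : K → ℂ) = {θ} :=
    Finset.eq_singleton_iff_unique_mem.2 ⟨hmem, fun θ' hθ' => Finset.card_le_one.1 (horb θ) _ hθ' _ hmem⟩
  have hnz : ∀ y : K, (θ : K → ℂ) y ≠ 0 := by
    intro y hy
    have h5 : (χ : G → ℂ) (z * y) = 0 := by
      rw [hval z hzP hz1 y, h3, Finset.sum_singleton, hy, mul_zero]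
    have h6 : p ∣ orderOf (z * (y : G)) := by
      have := Fintype.ofFinite G
      exact mem_Sg.1 (Dg_sub hK hP (mem_Dg.2 ⟨z, hzP, hz1, y, y.2, rfl⟩))
    obtain ⟨a, ha⟩ := isConj_iff.1 (h.uniq _ h5)
    apply hx
    rwa [← ha, ← MulAut.conj_apply, MulEquiv.orderOf_eq] at h6
  obtain ⟨f, hf⟩ := exists_hom_of_isIrrCharacter θ.2 (deg_one_of_no_zero θ hnz)
  have hv : ∀ y : K, (χ : G → ℂ) (z * y) = ε * (f y : ℂ) := by
    intro y
    rw [hval z hzP hz1 y, h3, Finset.sum_singleton, hf]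
  have hv1 : (χ : G → ℂ) z = ε := by
    have h5 := hv 1
    rwa [map_one, Units.val_one, mul_one, Subgroup.coe_one, mul_one] at h5
  have htK : t ∈ K := by
    rw [hK, ← Blocks.CyclicOrtho.centralizer_eq P hP hzP hz1, mem_centralizer_singleton_iff]
    refine ⟨hzt.symm, fun hd => ?_⟩
    have h5 := Nat.le_of_dvd two_pos (hd.trans (orderOf_dvd_of_pow_eq_one ht))
    omega
  have hf2 : (f ⟨t, htK⟩ : ℂ) ^ 2 = 1 := by
    have h5 : (⟨t, htK⟩ : K) ^ 2 = 1 := Subtype.ext ht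
    rw [← Units.val_pow_eq_pow_val, ← map_pow, h5, map_one, Units.val_one]
  have h5 := hv ⟨t, htK⟩
  rw [pow_two] at hf2
  rcases mul_self_eq_one_iff.1 hf2 with h6 | h6
  · exact ⟨1, Or.inl rfl, by rw [h5, hv1, h6]; push_cast; ring⟩
  · exact ⟨-1, Or.inr rfl, by rw [h5, hv1, h6]; push_cast; ring⟩

/-- **The sum over the 2-elements modulo `p`**, `C(z) = ⟨z⟩ × S₃`. -/
theorem sum_mod (hp : p.Prime) (h7 : 7 ≤ p) (hsq : ¬ p ^ 2 ∣ Nat.card G) (hG : Nat.card G ≠ p) {z a b : G}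
    (hz : orderOf z = p) (h6 : Nat.card (centralizer ({z} : Set G)) = 6 * p) (ha : a * a = 1) (ha1 : a ≠ 1)
    (haz : a * z = z * a) (hbz : b * z = z * b) (hab : b * a ≠ a * b)
    (hcl : ∀ y y' : G, z * y = y * z → z * y' = y' * z → ¬ p ∣ orderOf y → orderOf y = orderOf y' →
      ∃ k : G, z * k = k * z ∧ k * y * k⁻¹ = y')
    {χ : IrrCharacter G} {x : G} (h : One χ x) (hx : ¬ p ∣ orderOf x)
    (h4 : 4 ≤ Nat.card (centralizer ({x} : Set G))) (hd : ¬ p ∣ charDegree (χ : G → ℂ)) {lam : ℤ}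
    (hlam : ∑ᶠ u ∈ pSet 2 G, (χ : G → ℂ) u = lam * (χ : G → ℂ) 1) : (p : ℤ) ∣ lam - 4 ∨ (p : ℤ) ∣ lam + 2 := by
  classical
  have := Fintype.ofFinite G
  have hF2 : Fact (Nat.Prime 2) := ⟨Nat.prime_two⟩
  have hp2 : p ≠ 2 := by omega
  have hodd : ¬ 2 ∣ p := fun hd => hp2 ((Nat.prime_dvd_prime_iff_eq Nat.prime_two hp).1 hd).symm
  obtain ⟨s, hs, hsa⟩ := exists_sign hp h7 hsq hG hz hcl h hx h4 (t := a) (by rw [pow_two]; exact ha) haz.symm
  have hoa : orderOf a = 2 := orderOf_eq_prime (by rw [pow_two]; exact ha) ha1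
  have hord : ∀ v : G, z * v = v * z → v ∈ pSet 2 G → v ≠ 1 → orderOf v = 2 := by
    rintro v hv1 ⟨k, hk⟩ hv
    have h1 : orderOf v ∣ 6 * p := by
      rw [← h6]
      exact Subgroup.orderOf_dvd_natCard _ (mem_centralizer_singleton_iff.2 hv1.symm)
    rcases Nat.lt_or_ge k 2 with h2 | h2
    · have h3 : k = 0 ∨ k = 1 := by omega
      rcases h3 with rfl | rfl
      · rw [pow_zero, orderOf_eq_one_iff] at hk
        exact absurd hk hv
      · rw [hk, pow_one]
    · exfalso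
      rw [hk] at h1
      have h3 : 2 ^ 2 ∣ 6 * p := (pow_dvd_pow 2 h2).trans h1
      omega
  have hconj : ∀ v : G, z * v = v * z → v ∈ pSet 2 G → v ≠ 1 → ∃ k, z * k = k * z ∧ k * a * k⁻¹ = v := by
    intro v hv1 hv2 hv
    refine hcl a v haz.symm hv1 ?_ (by rw [hoa, hord v hv1 hv2 hv])
    rw [hoa]
    intro hd
    have := Nat.le_of_dvd two_pos hd
    omega
  have hval : ∀ v : G, z * v = v * z → v ∈ pSet 2 G → v ≠ 1 → (χ : G → ℂ) (z * v) = s * (χ : G → ℂ) z := by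
    intro v hv1 hv2 hv
    obtain ⟨k, hk, rfl⟩ := hconj v hv1 hv2 hv
    have h1 : z * (k * a * k⁻¹) = k * (z * a) * k⁻¹ := by
      calc z * (k * a * k⁻¹) = (z * k) * a * k⁻¹ := by group
        _ = (k * z) * a * k⁻¹ := by rw [hk]
        _ = _ := by group
    rw [h1, isIrr_isClassFunction χ.2, hsa]
  -- the class of `a` in `C(z)`
  set C := centralizer ({z} : Set G) with hC
  let a' : C := ⟨a, mem_centralizer_singleton_iff.2 haz⟩
  let b' : C := ⟨b, mem_centralizer_singleton_iff.2 hbz⟩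
  let z' : C := ⟨z, mem_centralizer_singleton_iff.2 rfl⟩
  have hc1 := H732.VZ.card_cl a'
  rw [h6] at hc1
  set m := (H732.VZ.cl a').card with hm
  have hD2 : 2 ∣ Nat.card (centralizer ({a'} : Set C)) := by
    have h1 := Subgroup.orderOf_dvd_natCard (centralizer ({a'} : Set C)) (x := a') (mem_centralizer_singleton_iff.2 rfl)
    rwa [← Subgroup.orderOf_coe, show ((a' : C) : G) = a from rfl, hoa] at h1
  have hDp : p ∣ Nat.card (centralizer ({a'} : Set C)) := by
    have h1 := Subgroup.orderOf_dvd_natCard (centralizer ({a'} : Set C)) (x := z')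
      (mem_centralizer_singleton_iff.2 (Subtype.ext haz.symm))
    rwa [← Subgroup.orderOf_coe, show ((z' : C) : G) = z from rfl, hz] at h1
  have hm3 : m = 3 := by
    have h1 : 2 * p ∣ Nat.card (centralizer ({a'} : Set C)) :=
      ((Nat.coprime_primes Nat.prime_two hp).2 (Ne.symm hp2)).mul_dvd_of_dvd_of_dvd hD2 hDp
    obtain ⟨k, hk⟩ := h1
    rw [hk] at hc1
    have h2 : m * k = 3 := by
      apply Nat.eq_of_mul_eq_mul_left (show 0 < 2 * p by have := hp.pos; omega)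
      calc 2 * p * (m * k) = m * (2 * p * k) := by ring
        _ = 6 * p := hc1
        _ = _ := by ring
    rcases (Nat.dvd_prime Nat.prime_three).1 (Dvd.intro _ h2) with h3 | h3
    · exfalso
      rw [hm, Finset.card_eq_one] at h3
      obtain ⟨w, hw⟩ := h3
      have h5 : a' ∈ H732.VZ.cl a' := H732.VZ.mem_cl.2 (IsConj.refl _)
      have h8 : b' * a' * b'⁻¹ ∈ H732.VZ.cl a' := H732.VZ.mem_cl.2 (isConj_iff.2 ⟨b', rfl⟩)
      rw [hw, Finset.mem_singleton] at h5 h8
      have h9 : b' * a' * b'⁻¹ = a' := h8.trans h5.symm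
      rw [mul_inv_eq_iff_eq_mul] at h9
      exact hab (congrArg Subtype.val h9)
    · exact h3
  -- the set of the 2-elements of `C(z)`
  have hone : (1 : G) ∈ pSet 2 G := ⟨0, by rw [orderOf_one, pow_zero]⟩
  let Tf : Finset G := (H732.VZ.cl a').map ⟨Subtype.val, Subtype.val_injective⟩
  have hTf : ∀ v, v ∈ Tf ↔ ∃ k, z * k = k * z ∧ k * a * k⁻¹ = v := by
    intro v
    rw [Finset.mem_map]
    constructor
    · rintro ⟨y, hy, rfl⟩
      obtain ⟨k, hk⟩ := isConj_iff.1 (H732.VZ.mem_cl.1 hy)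
      exact ⟨k, (mem_centralizer_singleton_iff.1 k.2).symm, congrArg Subtype.val hk⟩
    · rintro ⟨k, hk, rfl⟩
      refine ⟨(⟨k, mem_centralizer_singleton_iff.2 hk.symm⟩ : C) * a' * (⟨k, mem_centralizer_singleton_iff.2 hk.symm⟩ : C)⁻¹,
        H732.VZ.mem_cl.2 (isConj_iff.2 ⟨_, rfl⟩), rfl⟩
  have h1Tf : (1 : G) ∉ Tf := by
    rw [hTf]
    rintro ⟨k, -, hk⟩
    exact ha1 (conj_eq_one_iff.1 hk)
  have hT : {v : G | Commute z v ∧ v ∈ pSet 2 G} = ((insert 1 Tf : Finset G) : Set G) := by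
    ext v
    rw [Set.mem_ofPred_eq, Finset.mem_coe, Finset.mem_insert, hTf]
    constructor
    · rintro ⟨hv1, hv2⟩
      by_cases hv : v = 1
      · exact Or.inl hv
      · exact Or.inr (hconj v hv1.eq hv2 hv)
    · rintro (rfl | ⟨k, hk, rfl⟩)
      · exact ⟨Commute.one_right z, hone⟩
      · refine ⟨?_, 1, ?_⟩
        · have e1 : Commute z k := hk
          exact (e1.mul_right haz.symm).mul_right e1.inv_right
        · rw [pow_one, ← MulAut.conj_apply, MulEquiv.orderOf_eq, hoa]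
  let w : G → AlgInt := fun v => if v = 1 then 1 else (s : AlgInt)
  have hw1 : (w 1 : ℂ) = 1 := by simp [w]
  have hw2 : ∀ v : G, v ≠ 1 → (w v : ℂ) = s := by
    intro v hv
    simp only [w, if_neg hv]
    push_cast
    rfl
  have key := H477.OZ.congr_w (p := 2) (r := p) Nat.prime_two hp hp2 hz χ hlam w (fun v hv1 hv2 => by
    by_cases hv : v = 1
    · rw [hv, mul_one, hw1, one_mul]
    · rw [hval v hv1.eq hv2 hv, hw2 v hv]) hd (c := 1 + 3 * s) (by
    rw [hT, finsum_mem_coe_finset, Finset.sum_insert h1Tf, hw1, Finset.sum_congr rfl fun v hv => hw2 v fun h1 =>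
      h1Tf (h1 ▸ hv), Finset.sum_const, Finset.card_map, ← hm, hm3, nsmul_eq_mul]
    push_cast
    ring)
  rcases hs with rfl | rfl
  · left
    norm_num at key
    exact key
  · right
    norm_num at key
    exact key

end final

end Cfsg.Agent.H348.OZ
end

-- part: H890/OZ/SpTwelve
section
/-!
# `Sp₁₂(2)`: elements of order 31, 65, 11 and their centralizers (helper890, for the row `PSp₁₂(2)` of S4842)

The same method as for `Sp₁₂(2)` (`SpTen.lean`), vectors coded by the natural numbers below 4096.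

* `card_sp` : `|Sp₁₂(2)|`;  `equiv` : `PSp₁₂(F) ≃* Sp₁₂(2)`, `|F| = 2`;
* `cent31` : `|C(e31)| = 186`;  `cls31` : elements of the same order prime to 31 of `C(e31)` are conjugate in `C(e31)`;
* `order65`, `cent13_le` : `|C(e65 ^ 5)| ≤ 65`, `en_conj` : `en e65 en⁻¹ = e65 ^ 2`;
* `order11`, `cent11_le` : `|C(e11)| ≤ 198`, `cent11_gt`.
-/

set_option autoImplicit false
set_option maxRecDepth 100000

namespace Cfsg.Agent.H890.OZ.SpW

open Matrix Cfsg.Agent.SporadicA.PermTab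

/-- the index set -/
abbrev I12 : Type := Fin 6 ⊕ Fin 6

/-- index -/
def ix : I12 → ℕ
  | .inl i => i
  | .inr i => 6 + i

theorem ix_lt (i : I12) : ix i < 12 := by
  rcases i with i | i <;> simp [ix] <;> omega

theorem ix_surj {k : ℕ} (hk : k < 12) : ∃ i : I12, ix i = k := by
  rcases Nat.lt_or_ge k 6 with h | h
  · exact ⟨.inl ⟨k, h⟩, rfl⟩
  · exact ⟨.inr ⟨k - 6, by omega⟩, by simp [ix]; omega⟩

/-- evaluate the argument before going on -/
def force {α : Type} (n : ℕ) (k : ℕ → α) : α :=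
  Nat.rec (motive := fun _ => α) (k 0) (fun m _ => k (Nat.succ m)) n

theorem force_eq {α : Type} (n : ℕ) (k : ℕ → α) : force n k = k n := by
  cases n <;> rfl

/-- the table of the parities -/
def T12 : ℕ := 0x6996966996696996966969966996966996696996699696696996966996696996966969966996966969969669966969966996966996696996966969966996966996696996699696696996966996696996699696699669699696696996699696696996966996696996966969966996966996696996699696696996966996696996966969966996966969969669966969966996966996696996966969966996966969969669966969969669699669969669966969966996966969969669966969966996966996696996966969966996966996696996699696696996966996696996966969966996966969969669966969966996966996696996966969966996966996696996699696696996966996696996699696699669699696696996699696696996966996696996966969966996966996696996699696696996966996696996699696699669699696696996699696699669699669969669699696699669699696696996699696696996966996696996699696699669699696696996699696696996966996696996966969966996966996696996699696696996966996696996966969966996966969969669966969966996966996696996966969966996966996696996699696696996966996696996699696699669699696696996699696696996966996696996966969966996966996696996699696696996966996696996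

/-- the parity of the number of the bits of `x < 4096` -/
def par (x : ℕ) : Bool := T12.testBit x

/-- a Boolean as an element of `F₂` -/
def bz (b : Bool) : ZMod 2 := cond b 1 0

theorem bz_inj : Function.Injective bz := by decide

theorem bz_and (a b : Bool) : bz (a && b) = bz a * bz b := by cases a <;> cases b <;> rfl

theorem par_zero : par 0 = false := by decide +kernel

private def btK (s m : ℕ) : Bool := Nat.beq (Nat.land (Nat.shiftRight s m) 1) 1

private theorem btK_eq (s m : ℕ) : btK s m = s.testBit m := by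
  have h0 : Nat.land (Nat.shiftRight s m) 1 = (s >>> m) &&& 1 := rfl
  rw [btK, h0, Nat.and_one_is_mod, Nat.shiftRight_eq_div_pow, Nat.testBit_eq_decide_div_mod_eq]
  rcases Nat.mod_two_eq_zero_or_one (s / 2 ^ m) with h | h <;> rw [h] <;> rfl

private theorem par_rec {x : ℕ} (hx : x < 4096) : par x = (x.testBit 0 ^^ par (x / 2)) := by
  have h : force T12 (fun T => allB (fun x => cond (btK T x) (cond (btK x 0) (!btK T (Nat.div x 2)) (btK T (Nat.div x 2)))
      (cond (btK x 0) (btK T (Nat.div x 2)) (!btK T (Nat.div x 2)))) 4096) = true := by decide +kernel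
  rw [force_eq] at h
  have h1 := (allB_iff _ _).1 h x hx
  rw [btK_eq, btK_eq, btK_eq] at h1
  change cond (par x) (cond (x.testBit 0) (!par (x / 2)) (par (x / 2))) (cond (x.testBit 0) (par (x / 2)) (!par (x / 2))) = true at h1
  revert h1
  cases par x <;> cases x.testBit 0 <;> cases par (x / 2) <;> decide

private theorem bz_xor (a b : Bool) : bz (a ^^ b) = bz a + bz b := by cases a <;> cases b <;> rfl

private theorem par_sum (n : ℕ) (hn : n ≤ 12) : ∀ x < 2 ^ n, bz (par x) = ∑ k ∈ Finset.range n, bz (x.testBit k) := by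
  induction n with
  | zero =>
    intro x hx
    obtain rfl : x = 0 := by omega
    rw [par_zero]; rfl
  | succ n ih =>
    intro x hx
    have h1 : 2 ^ (n + 1) ≤ 2 ^ 12 := Nat.pow_le_pow_right (by norm_num) hn
    rw [par_rec (by omega), bz_xor, ih (by omega) (x / 2) (by rw [pow_succ] at hx; omega), Finset.sum_range_succ', add_comm]
    simp only [Nat.testBit_succ]

theorem par_spec {x : ℕ} (hx : x < 4096) : bz (par x) = ∑ i : I12, bz (x.testBit (ix i)) := by
  rw [par_sum 12 le_rfl x hx, Fintype.sum_sum_type, show 12 = 6 + 6 from rfl, Finset.sum_range_add,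
    Finset.sum_range, Finset.sum_range]
  rfl

/-- a vector from its code -/
def dec (a : ℕ) : I12 → ZMod 2 := fun i => bz (a.testBit (ix i))

theorem dot_dec {a : ℕ} (ha : a < 4096) (b : ℕ) : dec a ⬝ᵥ dec b = bz (par (a &&& b)) := by
  rw [par_spec (lt_of_le_of_lt Nat.and_le_left ha)]
  simp only [dotProduct, dec, Nat.testBit_and, bz_and]

/-- a matrix (list of rows) times a vector, codes -/
def mv : List ℕ → ℕ → ℕ
  | [], _ => 0
  | r :: l, a => Nat.add (cond (par (Nat.land r a)) 1 0) (Nat.mul 2 (mv l a))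

theorem mv_cons (r : ℕ) (l : List ℕ) (a : ℕ) : mv (r :: l) a = cond (par (r &&& a)) 1 0 + 2 * mv l a := rfl

theorem mv_lt (l : List ℕ) (a : ℕ) : mv l a < 2 ^ l.length := by
  induction l with
  | nil => simp [mv]
  | cons r l ih =>
    rw [mv_cons, List.length_cons, pow_succ]
    cases par (r &&& a) <;> simp <;> omega

theorem testBit_mv (l : List ℕ) (a k : ℕ) : (mv l a).testBit k = par (l.getD k 0 &&& a) := by
  induction l generalizing k with
  | nil => simp [mv, par_zero]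
  | cons r l ih =>
    rw [mv_cons]
    cases k with
    | zero =>
      rw [Nat.testBit_zero]
      simp only [List.getD_cons_zero]
      cases par (r &&& a) <;> simp
    | succ k =>
      rw [Nat.testBit_succ, List.getD_cons_succ, ← ih]
      congr 1
      cases par (r &&& a) <;> simp <;> omega

/-- a matrix from its rows -/
def sm (l : List ℕ) : Matrix I12 I12 (ZMod 2) :=
  Matrix.of fun i j => bz ((l.getD (ix i) 0).testBit (ix j))

theorem mulVec_dec (l : List ℕ) {a : ℕ} (ha : a < 4096) : sm l *ᵥ dec a = dec (mv l a) := by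
  ext i
  change dec (l.getD (ix i) 0) ⬝ᵥ dec a = bz ((mv l a).testBit (ix i))
  rw [dotProduct_comm, dot_dec ha, testBit_mv, Nat.land_comm]

/-- twelve rows with codes below 4096 -/
def wf (l : List ℕ) : Bool := Nat.beq l.length 12 && l.all fun a => Nat.blt a 4096

theorem wf_iff {l : List ℕ} : wf l = true ↔ l.length = 12 ∧ ∀ a ∈ l, a < 4096 := by
  rw [wf, Bool.and_eq_true, List.all_eq_true]
  constructor
  · rintro ⟨h1, h2⟩
    exact ⟨Nat.eq_of_beq_eq_true h1, fun a ha => by simpa using h2 a ha⟩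
  · rintro ⟨h1, h2⟩
    exact ⟨by rw [h1]; rfl, fun a ha => by simpa using h2 a ha⟩

theorem wf_getD {l : List ℕ} (h : wf l = true) (k : ℕ) : l.getD k 0 < 4096 := by
  rw [wf_iff] at h
  rcases Nat.lt_or_ge k l.length with hk | hk
  · rw [List.getD_eq_getElem _ _ hk]
    exact h.2 _ (List.getElem_mem hk)
  · rw [List.getD_eq_default _ _ hk]
    norm_num

/-- `mv` of a list, evaluated -/
def mapF (f : ℕ → ℕ) : List ℕ → List ℕ
  | [] => []
  | a :: l => force (f a) fun b => b :: mapF f l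

theorem mapF_eq (f : ℕ → ℕ) (l : List ℕ) : mapF f l = l.map f := by
  induction l with
  | nil => rfl
  | cons a l ih => rw [mapF, force_eq, ih, List.map_cons]

theorem wf_mapF {A B : List ℕ} (hA : wf A = true) (hB : wf B = true) : wf (mapF (mv B) A) = true := by
  rw [mapF_eq, wf_iff, List.length_map]
  refine ⟨(wf_iff.1 hA).1, fun a ha => ?_⟩
  rw [List.mem_map] at ha
  obtain ⟨b, -, rfl⟩ := ha
  have := mv_lt B b
  rw [(wf_iff.1 hB).1] at this
  exact this

/-- **The product by codes.** -/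
theorem mul_tr {A B : List ℕ} (hA : wf A = true) (hB : wf B = true) : sm A * (sm B)ᵀ = sm (mapF (mv B) A) := by
  ext i j
  rw [mapF_eq]
  change dec (A.getD (ix i) 0) ⬝ᵥ dec (B.getD (ix j) 0) = bz (((A.map (mv B)).getD (ix i) 0).testBit (ix j))
  have hi : ix i < A.length := by rw [(wf_iff.1 hA).1]; exact ix_lt i
  have h1 : (A.map (mv B)).getD (ix i) 0 = mv B (A.getD (ix i) 0) := by
    rw [List.getD_eq_getElem _ _ (by rw [List.length_map]; exact hi), List.getElem_map, List.getD_eq_getElem _ _ hi]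
  rw [h1, dotProduct_comm, dot_dec (wf_getD hB _), testBit_mv]

/-- the identity -/
def Il : List ℕ := [1, 2, 4, 8, 16, 32, 64, 128, 256, 512, 1024, 2048]

theorem sm_Il : sm Il = 1 := by decide +kernel

/-- the matrix `J` -/
def Jl : List ℕ := [64, 128, 256, 512, 1024, 2048, 1, 2, 4, 8, 16, 32]

theorem sm_Jl : sm Jl = J (Fin 6) (ZMod 2) := by decide +kernel

theorem sm_Jl' : (sm Jl)ᵀ = J (Fin 6) (ZMod 2) := by decide +kernel

theorem wf_Il : wf Il = true := by decide +kernel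
theorem wf_Jl : wf Jl = true := by decide +kernel

/-- `Sp₁₂(2)` -/
abbrev Sp12 : Type := symplecticGroup (Fin 6) (ZMod 2)

/-- the product, taken from the group structure -/
@[reducible] private def mulSp : Mul Sp12 := (inferInstance : Group Sp12).toDivInvMonoid.toMonoid.toMulOneClass.toMul

attribute [local instance 10000] mulSp

/-- equality of lists -/
def beqL : List ℕ → List ℕ → Bool
  | [], [] => true
  | a :: l, b :: m => band (Nat.beq a b) (beqL l m)
  | _, _ => false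

theorem eq_of_beqL : ∀ {l m : List ℕ}, beqL l m = true → l = m
  | [], [], _ => rfl
  | [], _ :: _, h => by simp [beqL] at h
  | _ :: _, [], h => by simp [beqL] at h
  | a :: l, b :: m, h => by
    rw [beqL, band_eq_true] at h
    rw [Nat.eq_of_beq_eq_true h.1, eq_of_beqL h.2]

/-- the list is the list of the rows of a symplectic matrix -/
def isS (l : List ℕ) : Bool := wf l && beqL (mapF (mv l) (mapF (mv Jl) l)) Jl

/-- an element of `Sp₁₂(2)` -/
def se (l : List ℕ) (h : isS l = true) : Sp12 :=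
  ⟨sm l, SymplecticGroup.mem_iff.mpr (by
    rw [isS, Bool.and_eq_true] at h
    rw [← sm_Jl', mul_tr h.1 wf_Jl, mul_tr (wf_mapF h.1 wf_Jl) h.1, eq_of_beqL h.2, sm_Jl']
    exact sm_Jl)⟩

/-- the powers -/
def iter (lt : List ℕ) (k : ℕ) : List ℕ := Nat.rec Il (fun _ A => mapF (mv lt) A) k

theorem iter_succ (lt : List ℕ) (k : ℕ) : iter lt (k + 1) = mapF (mv lt) (iter lt k) := rfl

theorem wf_iter {lt : List ℕ} (h : wf lt = true) (k : ℕ) : wf (iter lt k) = true := by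
  induction k with
  | zero => exact wf_Il
  | succ k ih => rw [iter_succ]; exact wf_mapF ih h

theorem pow_val {g : Sp12} {lt : List ℕ} (hg : g.1 = (sm lt)ᵀ) (h : wf lt = true) (k : ℕ) :
    (g ^ k).1 = sm (iter lt k) := by
  induction k with
  | zero => rw [pow_zero]; exact sm_Il.symm
  | succ k ih =>
    rw [pow_succ, iter_succ, ← mul_tr (wf_iter h k) h, ← ih, ← hg]
    rfl

theorem pow_eq_one {g : Sp12} {lt : List ℕ} (hg : g.1 = (sm lt)ᵀ) (h : wf lt = true) {k : ℕ}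
    (hk : beqL (iter lt k) Il = true) : g ^ k = 1 := by
  apply Subtype.ext
  rw [pow_val hg h, eq_of_beqL hk]
  exact sm_Il

/-! ### Codes of vectors -/

theorem dec_inj {a b : ℕ} (ha : a < 4096) (hb : b < 4096) (h : dec a = dec b) : a = b := by
  apply Nat.eq_of_testBit_eq
  intro k
  rcases Nat.lt_or_ge k 12 with hk | hk
  · obtain ⟨i, hi⟩ := ix_surj hk
    have h1 := congrFun h i
    simp only [dec, hi] at h1
    exact bz_inj h1
  · have h1 : ∀ c : ℕ, c < 4096 → c.testBit k = false := fun c hc => by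
      apply Nat.testBit_lt_two_pow
      exact lt_of_lt_of_le hc (Nat.pow_le_pow_right (n := 2) (by norm_num) hk : 2 ^ 12 ≤ 2 ^ k)
    rw [h1 a ha, h1 b hb]

theorem dec_surj (v : I12 → ZMod 2) : ∃ a : ℕ, a < 4096 ∧ dec a = v := by
  have h := (Fintype.bijective_iff_injective_and_card fun a : Fin 4096 => dec a).2
    ⟨fun a b h => Fin.ext (dec_inj a.2 b.2 h), by
      rw [Fintype.card_fun, ZMod.card, Fintype.card_sum, Fintype.card_fin, Fintype.card_fin]
      norm_num⟩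
  obtain ⟨a, ha⟩ := h.2 v
  exact ⟨a, a.2, ha⟩

/-- the code of a vector -/
noncomputable def cod (v : I12 → ZMod 2) : ℕ := (dec_surj v).choose

theorem cod_lt (v : I12 → ZMod 2) : cod v < 4096 := (dec_surj v).choose_spec.1
theorem dec_cod (v : I12 → ZMod 2) : dec (cod v) = v := (dec_surj v).choose_spec.2

/-! ### Centralizers -/

/-- equality of Booleans -/
def beqB (a b : Bool) : Bool := cond a b (cond b false true)

/-- the values `B(a, Yⁱ b)` are `cs i` -/
def chk (Yl : List ℕ) : List Bool → ℕ → ℕ → Bool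
  | [], _, _ => true
  | c :: cs, a, b => band (beqB (par (Nat.land a (mv Jl b))) c) (force (mv Yl b) fun b' => chk Yl cs a b')

theorem chk_eq {Y : Sp12} {Yl : List ℕ} (hY : Y.1 = sm Yl) (hw : wf Yl = true) {g : Sp12} (hg : g * Y = Y * g) :
    ∀ (cs : List Bool) {a b a' b' : ℕ}, a < 4096 → b < 4096 → b' < 4096 → a' < 4096 →
      dec a = g.1 *ᵥ dec a' → dec b = g.1 *ᵥ dec b' → chk Yl cs a b = chk Yl cs a' b'
  | [], _, _, _, _, _, _, _, _, _, _ => rfl
  | c :: cs, a, b, a', b', ha, hb, hb', ha', h1, h2 => by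
    rw [chk, chk, force_eq, force_eq]
    have hl : ∀ d : ℕ, mv Yl d < 4096 := fun d => by
      have := mv_lt Yl d
      rwa [(wf_iff.1 hw).1] at this
    have h3 : par (a &&& mv Jl b) = par (a' &&& mv Jl b') := by
      apply bz_inj
      rw [← dot_dec ha, ← dot_dec ha', ← mulVec_dec _ hb, ← mulVec_dec _ hb', sm_Jl, h1, h2,
        Matrix.dotProduct_mulVec, Matrix.vecMul_mulVec, ← Matrix.dotProduct_mulVec, Matrix.mulVec_mulVec,
        SymplecticGroup.mem_iff'.1 g.2]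
    have h4 : dec (mv Yl b) = g.1 *ᵥ dec (mv Yl b') := by
      have h5 : g.1 * Y.1 = Y.1 * g.1 := congrArg Subtype.val hg
      rw [← mulVec_dec _ hb, ← mulVec_dec _ hb', h2, Matrix.mulVec_mulVec, Matrix.mulVec_mulVec, ← hY, h5]
    rw [chk_eq hY hw hg cs ha (hl _) (hl _) ha' h1 h4]
    change band (beqB (par (a &&& mv Jl b)) c) _ = band (beqB (par (a' &&& mv Jl b')) c) _
    rw [h3]

private theorem mm_comm {n R : Type} [Fintype n] [DecidableEq n] [CommRing R] {A B : Matrix n n R} (h : A * B = 1) :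
    B * A = 1 := mul_eq_one_comm.1 h

theorem ext_kc {kc K' : List ℕ} (hk : wf kc = true) (hK' : wf K' = true) (hK : beqL (mapF (mv kc) K') Il = true)
    {g h : Sp12} (hgh : ∀ j < 12, g.1 *ᵥ dec (kc.getD j 0) = h.1 *ᵥ dec (kc.getD j 0)) : g = h := by
  have h1 : sm K' * (sm kc)ᵀ = 1 := by rw [mul_tr hK' hk, eq_of_beqL hK, sm_Il]
  have h2 : (sm kc)ᵀ * sm K' = 1 := mm_comm h1
  have h3 : g.1 * (sm kc)ᵀ = h.1 * (sm kc)ᵀ := by
    ext i j
    exact congrFun (hgh (ix j) (ix_lt j)) i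
  apply Subtype.ext
  rw [← Matrix.mul_one g.1, ← h2, ← Matrix.mul_assoc, h3, Matrix.mul_assoc, h2, Matrix.mul_one]

/-- a chain `k, Y k, Y² k, …` of length `m` -/
def chain (Yl kc : List ℕ) (m : ℕ) : Bool := allB (fun j => Nat.beq (mv Yl (kc.getD j 0)) (kc.getD (j + 1) 0)) m

theorem chain_agree {Y : Sp12} {Yl kc : List ℕ} (hY : Y.1 = sm Yl) (hk : wf kc = true) {m : ℕ}
    (hc : chain Yl kc m = true) {g h : Sp12} (hg : g * Y = Y * g) (hh : h * Y = Y * h)
    (h0 : g.1 *ᵥ dec (kc.getD 0 0) = h.1 *ᵥ dec (kc.getD 0 0)) :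
    ∀ j ≤ m, g.1 *ᵥ dec (kc.getD j 0) = h.1 *ᵥ dec (kc.getD j 0) := by
  intro j
  induction j with
  | zero => exact fun _ => h0
  | succ j ih =>
    intro hj
    have h1 := Nat.eq_of_beq_eq_true ((allB_iff _ _).1 hc j (by omega))
    have h2 := ih (by omega)
    have h3 : g.1 * Y.1 = Y.1 * g.1 := congrArg Subtype.val hg
    have h4 : h.1 * Y.1 = Y.1 * h.1 := congrArg Subtype.val hh
    rw [← h1, ← mulVec_dec _ (wf_getD hk j), ← hY, Matrix.mulVec_mulVec, Matrix.mulVec_mulVec, h3, h4,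
      ← Matrix.mulVec_mulVec, ← Matrix.mulVec_mulVec, h2]

/-! ### Tables -/

private theorem dec_xor (a b : ℕ) : dec (a ^^^ b) = dec a + dec b := by
  funext i
  simp only [dec, Nat.testBit_xor, bz_xor, Pi.add_apply]

private theorem mv_lt' {l : List ℕ} (hw : wf l = true) (d : ℕ) : mv l d < 4096 := by
  have := mv_lt l d
  rwa [(wf_iff.1 hw).1] at this

private theorem mv_xor {l : List ℕ} (hw : wf l = true) {a b : ℕ} (ha : a < 4096) (hb : b < 4096) :
    mv l (a ^^^ b) = mv l a ^^^ mv l b := by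
  have h1 : a ^^^ b < 4096 := Nat.xor_lt_two_pow (n := 12) ha hb
  refine dec_inj (mv_lt' hw _) (Nat.xor_lt_two_pow (n := 12) (mv_lt' hw _) (mv_lt' hw _)) ?_
  rw [dec_xor, ← mulVec_dec _ h1, ← mulVec_dec _ ha, ← mulVec_dec _ hb, dec_xor, Matrix.mulVec_add]

private def repK (c k : ℕ) : ℕ :=
  Nat.rec c (fun k R => force R fun R => Nat.lor R (Nat.shiftLeft R (Nat.shiftLeft 16 k))) k

private def tabK (l : List ℕ) (k : ℕ) : ℕ :=
  Nat.rec 0 (fun k T => force T fun T =>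
    Nat.lor T (Nat.shiftLeft (Nat.xor T (repK (mv l (Nat.pow 2 k)) k)) (Nat.shiftLeft 16 k))) k

private def lookK (T m : ℕ) : ℕ := Nat.land (Nat.shiftRight T (Nat.mul 16 m)) 65535

private theorem repK_bit {c : ℕ} (hc : c < 2 ^ 16) (k : ℕ) :
    ∀ i, (repK c k).testBit i = (decide (i < 16 * 2 ^ k) && c.testBit (i % 16)) := by
  induction k with
  | zero =>
    intro i
    show c.testBit i = _
    by_cases h : i < 16
    · rw [Nat.mod_eq_of_lt h, decide_eq_true (show i < 16 * 2 ^ 0 by omega), Bool.true_and]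
    · rw [decide_eq_false (show ¬ i < 16 * 2 ^ 0 by omega), Bool.false_and]
      exact Nat.testBit_lt_two_pow (lt_of_lt_of_le hc (Nat.pow_le_pow_right (by norm_num) (by omega)))
  | succ k ih =>
    intro i
    have e : repK c (k + 1) = repK c k ||| (repK c k <<< (16 <<< k)) :=
      force_eq (repK c k) fun R => Nat.lor R (Nat.shiftLeft R (Nat.shiftLeft 16 k))
    rw [e, Nat.testBit_or, Nat.testBit_shiftLeft, ih, ih, Nat.shiftLeft_eq, pow_succ]
    generalize 2 ^ k = q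
    by_cases h1 : i < 16 * q
    · rw [decide_eq_true h1, decide_eq_false (show ¬ i ≥ 16 * q by omega),
        decide_eq_true (show i < 16 * (q * 2) by omega)]
      simp
    · rw [decide_eq_false h1, decide_eq_true (show i ≥ 16 * q by omega),
        show (i - 16 * q) % 16 = i % 16 by omega]
      by_cases h2 : i < 16 * (q * 2)
      · rw [decide_eq_true h2, decide_eq_true (show i - 16 * q < 16 * q by omega)]; simp
      · rw [decide_eq_false h2, decide_eq_false (show ¬ i - 16 * q < 16 * q by omega)]; simp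

private theorem two_pow_add_xor {k m : ℕ} (h : m < 2 ^ k) : 2 ^ k + m = m ^^^ 2 ^ k := by
  apply Nat.eq_of_testBit_eq
  intro j
  rw [Nat.testBit_xor, Nat.testBit_two_pow]
  rcases lt_trichotomy j k with hj | rfl | hj
  · rw [Nat.testBit_two_pow_add_gt hj, decide_eq_false (by omega), Bool.xor_false]
  · rw [Nat.testBit_two_pow_add_eq, Nat.testBit_lt_two_pow h, decide_eq_true rfl]; rfl
  · have h1 : 2 ^ (k + 1) ≤ 2 ^ j := Nat.pow_le_pow_right (by norm_num) hj
    rw [pow_succ] at h1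
    rw [Nat.testBit_lt_two_pow (by omega), Nat.testBit_lt_two_pow (by omega), decide_eq_false (by omega)]; rfl

private theorem tabK_bit {l : List ℕ} (hw : wf l = true) (k : ℕ) (hk : k ≤ 12) :
    ∀ i, (tabK l k).testBit i = (decide (i < 16 * 2 ^ k) && (mv l (i / 16)).testBit (i % 16)) := by
  induction k with
  | zero =>
    intro i
    show (0 : ℕ).testBit i = _
    by_cases h : i < 16
    · rw [show i / 16 = 0 by omega, testBit_mv, Nat.and_zero, par_zero]; simp
    · rw [decide_eq_false (show ¬ i < 16 * 2 ^ 0 by omega)]; simp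
  | succ k ih =>
    intro i
    have ih := ih (by omega)
    have hq : 2 ^ (k + 1) ≤ 2 ^ 12 := Nat.pow_le_pow_right (by norm_num) hk
    have e : tabK l (k + 1) = tabK l k ||| ((tabK l k ^^^ repK (mv l (2 ^ k)) k) <<< (16 <<< k)) :=
      force_eq (tabK l k) fun T => Nat.lor T (Nat.shiftLeft (Nat.xor T (repK (mv l (Nat.pow 2 k)) k)) (Nat.shiftLeft 16 k))
    rw [e, Nat.testBit_or, Nat.testBit_shiftLeft, Nat.testBit_xor, ih, ih,
      repK_bit (lt_trans (mv_lt' hw _) (by norm_num)), Nat.shiftLeft_eq, pow_succ]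
    rw [pow_succ] at hq
    by_cases h1 : i < 16 * 2 ^ k
    · rw [decide_eq_true h1, decide_eq_false (show ¬ i ≥ 16 * 2 ^ k by omega),
        decide_eq_true (show i < 16 * (2 ^ k * 2) by omega)]
      simp
    · rw [decide_eq_false h1, decide_eq_true (show i ≥ 16 * 2 ^ k by omega),
        show (i - 16 * 2 ^ k) % 16 = i % 16 by omega]
      by_cases h2 : i < 16 * (2 ^ k * 2)
      · have h3 : i / 16 = 2 ^ k + (i - 16 * 2 ^ k) / 16 := by omega
        have h4 : (i - 16 * 2 ^ k) / 16 < 2 ^ k := by omega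
        rw [decide_eq_true h2, decide_eq_true (show i - 16 * 2 ^ k < 16 * 2 ^ k by omega), h3,
          two_pow_add_xor h4, mv_xor hw (by omega) (by omega), Nat.testBit_xor]
        simp
      · rw [decide_eq_false h2, decide_eq_false (show ¬ i - 16 * 2 ^ k < 16 * 2 ^ k by omega)]; simp

private theorem lookK_tab {l : List ℕ} (hw : wf l = true) {m : ℕ} (hm : m < 4096) : lookK (tabK l 12) m = mv l m := by
  apply Nat.eq_of_testBit_eq
  intro j
  have e : lookK (tabK l 12) m = (tabK l 12 >>> (16 * m)) &&& (2 ^ 16 - 1) := rfl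
  rw [e, Nat.testBit_and, Nat.testBit_shiftRight, tabK_bit hw 12 le_rfl, Nat.testBit_two_pow_sub_one]
  by_cases h : j < 16
  · rw [decide_eq_true (show 16 * m + j < 16 * 2 ^ 12 by omega), decide_eq_true h,
      show (16 * m + j) / 16 = m by omega, show (16 * m + j) % 16 = j by omega]
    simp
  · rw [decide_eq_false h, Bool.and_false]
    exact (Nat.testBit_lt_two_pow (lt_of_lt_of_le (lt_trans (mv_lt' hw m) (by norm_num : 4096 < 2 ^ 16))
      (Nat.pow_le_pow_right (by norm_num) (by omega)))).symm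

private def chkF (P TY TJ a : ℕ) (cs : List Bool) : ℕ → Bool :=
  List.rec (motive := fun _ => ℕ → Bool) (fun _ => true)
    (fun c _ ih b => band (beqB (btK P (Nat.land a (lookK TJ b))) c) (force (lookK TY b) ih)) cs

private theorem chkF_eq {Yl : List ℕ} (hw : wf Yl = true) (a : ℕ) (cs : List Bool) : ∀ b < 4096,
    chkF T12 (tabK Yl 12) (tabK Jl 12) a cs b = chk Yl cs a b := by
  induction cs with
  | nil => intro b _; rfl
  | cons c cs ih =>
    intro b hb
    have e : chkF T12 (tabK Yl 12) (tabK Jl 12) a (c :: cs) b =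
        band (beqB (btK T12 (Nat.land a (lookK (tabK Jl 12) b))) c)
          (force (lookK (tabK Yl 12) b) (chkF T12 (tabK Yl 12) (tabK Jl 12) a cs)) := rfl
    rw [e, chk, force_eq, force_eq, lookK_tab hw hb, lookK_tab wf_Jl hb, ih _ (mv_lt' hw b), btK_eq]
    rfl

private theorem cntB_congr {p q : ℕ → Bool} (n : ℕ) (h : ∀ i < n, p i = q i) : cntB p n = cntB q n := by
  induction n with
  | zero => rfl
  | succ n ih =>
    funext m
    rw [cntB_succ, cntB_succ, h n (by omega), ih fun i hi => h i (by omega)]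

private def cntF (Yl : List ℕ) (cs : List Bool) (z m : ℕ) : Bool :=
  force T12 fun P => force (tabK Yl 12) fun TY => force (tabK Jl 12) fun TJ =>
    cntB (fun a => band (Nat.beq (Nat.land a z) 0) (force (lookK TY a) (chkF P TY TJ a cs))) 4096 m

private theorem cntF_eq {Yl : List ℕ} (hw : wf Yl = true) (cs : List Bool) (z m : ℕ) : cntF Yl cs z m =
    cntB (fun a => band (Nat.beq (Nat.land a z) 0) (force (mv Yl a) fun b => chk Yl cs a b)) 4096 m := by
  rw [cntF, force_eq, force_eq, force_eq, cntB_congr 4096 (q := fun a => band (Nat.beq (Nat.land a z) 0)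
    (force (mv Yl a) fun b => chk Yl cs a b)) fun a ha => by
      rw [force_eq, force_eq, lookK_tab hw ha, chkF_eq hw _ _ _ (mv_lt' hw a)]]

private theorem cnt_of_F {Yl : List ℕ} (hw : wf Yl = true) {cs : List Bool} {m : ℕ} (h : cntF Yl cs 0 m = true) :
    cntB (fun a => force (mv Yl a) fun b => chk Yl cs a b) 4096 m = true := by
  rw [cntF_eq hw, cntB_congr 4096 (q := fun a => force (mv Yl a) fun b => chk Yl cs a b) fun a _ => by
    rw [show Nat.land a 0 = 0 from Nat.and_zero a]; rfl] at h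
  exact h

/-- **The centralizer of a cyclic element.** -/
theorem card_cent_le {Y : Sp12} {Yl kc K' : List ℕ} {cs : List Bool} {m : ℕ} (hY : Y.1 = sm Yl) (hw : wf Yl = true)
    (hk : wf kc = true) (hK' : wf K' = true) (hK : beqL (mapF (mv kc) K') Il = true) (hc : chain Yl kc 11 = true)
    (h0 : chk Yl cs (kc.getD 0 0) (mv Yl (kc.getD 0 0)) = true)
    (ht : cntB (fun a => force (mv Yl a) fun b => chk Yl cs a b) 4096 m = true) :
    Nat.card (Subgroup.centralizer ({Y} : Set Sp12)) ≤ m := by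
  classical
  have hcm : ∀ g : Subgroup.centralizer ({Y} : Set Sp12), g.1 * Y = Y * g.1 := fun g =>
    Subgroup.mem_centralizer_singleton_iff.1 g.2
  have hl : ∀ d : ℕ, mv Yl d < 4096 := fun d => by
    have := mv_lt Yl d
    rwa [(wf_iff.1 hw).1] at this
  set k0 := kc.getD 0 0 with hk0
  have hk0l : k0 < 4096 := wf_getD hk 0
  let f : Subgroup.centralizer ({Y} : Set Sp12) → ℕ := fun g => cod (g.1.1 *ᵥ dec k0)
  have hfd : ∀ g, dec (f g) = g.1.1 *ᵥ dec k0 := fun g => dec_cod _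
  have hfl : ∀ g, f g < 4096 := fun g => cod_lt _
  have hmem : ∀ g, f g ∈ (Finset.range 4096).filter fun a => (force (mv Yl a) fun b => chk Yl cs a b) = true := by
    intro g
    rw [Finset.mem_filter, Finset.mem_range, force_eq]
    refine ⟨hfl g, ?_⟩
    rw [← h0]
    refine chk_eq hY hw (hcm g) cs (hfl g) (hl _) (hl _) hk0l (hfd g) ?_
    have h3 : g.1.1 * Y.1 = Y.1 * g.1.1 := congrArg Subtype.val (hcm g)
    rw [← mulVec_dec _ (hfl g), ← mulVec_dec _ hk0l, hfd, ← hY, Matrix.mulVec_mulVec, Matrix.mulVec_mulVec, h3]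
  have hinj : Function.Injective f := by
    intro g h hgh
    have h1 : g.1.1 *ᵥ dec k0 = h.1.1 *ᵥ dec k0 := by rw [← hfd g, ← hfd h, hgh]
    have h2 := chain_agree hY hk hc (hcm g) (hcm h) h1
    exact Subtype.ext (ext_kc hk hK' hK fun j hj => h2 j (by omega))
  rw [← card_of_cntB _ 4096 m ht, ← Nat.card_eq_finsetCard]
  exact Nat.card_le_card_of_injective (fun g => (⟨f g, hmem g⟩ : {a // a ∈ _})) fun g h e =>
    hinj (congrArg (fun z => (z : {a // a ∈ (Finset.range 4096).filter fun a =>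
      (force (mv Yl a) fun b => chk Yl cs a b) = true}).1) e)

/-! ### The group -/

theorem card_sp : Nat.card Sp12 = 208114637736580743168000 := by
  rw [Cfsg.Agent.S0245.result (F := ZMod 2) (q := 2) (ZMod.card 2) 6]
  decide +kernel

theorem center_bot : Subgroup.center Sp12 = ⊥ := by
  have h := Cfsg.Agent.S0246.result (F := ZMod 2) (q := 2) (ZMod.card 2) 6 (by norm_num)
  exact Subgroup.card_eq_one.1 h

/-- `PSp₁₂(F) ≃* Sp₁₂(2)`, `|F| = 2` -/
noncomputable def equiv {F : Type*} [Field F] [Fintype F] (hF : Fintype.card F = 2) : Cfsg.PSp 6 F ≃* Sp12 :=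
  (LieClassical.FieldTransfer.pspCongr 6 (ZMod.ringEquivOfPrime F Nat.prime_two hF).symm).trans
    ((QuotientGroup.quotientMulEquivOfEq center_bot).trans QuotientGroup.quotientBot)

/-! ### Centralizers of the elements with a two-dimensional space of fixed vectors -/

/-- the possible images of the first vector -/
def tstF (Yl : List ℕ) (cs : List Bool) (a : ℕ) : Bool := band (Nat.beq (Nat.land a 2080) 0)
  (force (mv Yl a) fun b => chk Yl cs a b)

/-- the fixed vectors -/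
def fixF (Yl : List ℕ) : Bool := allB (fun a => !(Nat.beq (mv Yl a) a) || (Nat.beq a 0 || (Nat.beq a 32 ||
  (Nat.beq a 2048 || Nat.beq a 2080)))) 4096

private theorem tst_of_F {Yl : List ℕ} (hw : wf Yl = true) {cs : List Bool} {m : ℕ} (h : cntF Yl cs 2080 m = true) :
    cntB (tstF Yl cs) 4096 m = true := by
  rw [cntF_eq hw] at h
  exact h

private def fixG (Yl : List ℕ) : Bool := force (tabK Yl 12) fun TY => allB (fun a => !(Nat.beq (lookK TY a) a) ||
  (Nat.beq a 0 || (Nat.beq a 32 || (Nat.beq a 2048 || Nat.beq a 2080)))) 4096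

private theorem fix_of_G {Yl : List ℕ} (hw : wf Yl = true) (h : fixG Yl = true) : fixF Yl = true := by
  rw [fixG, force_eq, allB_iff] at h
  rw [fixF, allB_iff]
  intro a ha
  rw [← lookK_tab hw ha]
  exact h a ha

theorem fixF_spec {Yl : List ℕ} (h1 : fixF Yl = true) {a : ℕ} (ha : a < 4096) (h : mv Yl a = a) :
    a = 0 ∨ a = 32 ∨ a = 2048 ∨ a = 2080 := by
  have h2 := (allB_iff _ _).1 h1 a ha
  rw [h] at h2
  simp only [Nat.beq_refl, Bool.not_true, Bool.false_or, Bool.or_eq_true] at h2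
  rcases h2 with h2 | h2 | h2 | h2
  · exact Or.inl (Nat.eq_of_beq_eq_true h2)
  · exact Or.inr (Or.inl (Nat.eq_of_beq_eq_true h2))
  · exact Or.inr (Or.inr (Or.inl (Nat.eq_of_beq_eq_true h2)))
  · exact Or.inr (Or.inr (Or.inr (Nat.eq_of_beq_eq_true h2)))

/-- the coordinates 5 and 11 are fixed -/
theorem rowF {Y : Sp12} {Yl : List ℕ} (hY : Y.1 = sm Yl)
    (h1 : ∀ i : I12, (sm Yl (.inl 5)) i = if i = .inl 5 then 1 else 0)
    (h2 : ∀ i : I12, (sm Yl (.inr 5)) i = if i = .inr 5 then 1 else 0) (v : I12 → ZMod 2) :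
    (Y.1 *ᵥ v) (.inl 5) = v (.inl 5) ∧ (Y.1 *ᵥ v) (.inr 5) = v (.inr 5) := by
  rw [hY]
  constructor
  · change sm Yl (.inl 5) ⬝ᵥ v = _
    rw [show sm Yl (.inl 5) = fun i => if i = .inl 5 then 1 else 0 from funext h1]
    simp [dotProduct]
  · change sm Yl (.inr 5) ⬝ᵥ v = _
    rw [show sm Yl (.inr 5) = fun i => if i = .inr 5 then 1 else 0 from funext h2]
    simp [dotProduct]

theorem land_zero {a : ℕ} (h1 : dec a (.inl 5) = 0) (h2 : dec a (.inr 5) = 0) : a &&& 2080 = 0 := by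
  have e1 : a.testBit 5 = false := by
    change bz (a.testBit 5) = 0 at h1
    revert h1
    cases a.testBit 5 <;> simp [bz]
  have e2 : a.testBit 11 = false := by
    change bz (a.testBit 11) = 0 at h2
    revert h2
    cases a.testBit 11 <;> simp [bz]
  apply Nat.eq_of_testBit_eq
  intro k
  rw [Nat.testBit_and, Nat.zero_testBit]
  by_cases hk4 : k = 5
  · rw [hk4, e1, Bool.false_and]
  by_cases hk9 : k = 11
  · rw [hk9, e2, Bool.false_and]
  have h3 : (2080 : ℕ).testBit k = false := by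
    rcases Nat.lt_or_ge k 12 with hk | hk
    · interval_cases k <;> first | decide | omega
    · apply Nat.testBit_lt_two_pow
      exact lt_of_lt_of_le (by norm_num) (Nat.pow_le_pow_right (n := 2) (by norm_num) hk : 2 ^ 12 ≤ 2 ^ k)
  rw [h3, Bool.and_false]

/-- **The centralizer of an element with a two-dimensional space of fixed vectors.** -/
theorem card_cent_leF {Y : Sp12} {Yl kc K' : List ℕ} {cs : List Bool} {m k0 kk : ℕ} (hY : Y.1 = sm Yl)
    (hw : wf Yl = true)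
    (h1r : ∀ i : I12, (sm Yl (.inl 5)) i = if i = .inl 5 then 1 else 0)
    (h2r : ∀ i : I12, (sm Yl (.inr 5)) i = if i = .inr 5 then 1 else 0)
    (hkc : wf kc = true) (hK' : wf K' = true) (hK : beqL (mapF (mv kc) K') Il = true)
    (hch : chain Yl kc 9 = true) (hk0 : kc.getD 0 0 = k0) (hk10 : kc.getD 10 0 = 32) (hk11 : kc.getD 11 0 = 2048)
    (hfx : fixF Yl = true) (hf1 : mv Yl 32 = 32) (hf2 : mv Yl 2048 = 2048)
    (hkk : kk < 4096) (hkk' : dec k0 = dec (mv Yl kk) + dec kk) (h0 : chk Yl cs k0 (mv Yl k0) = true)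
    (ht : cntB (tstF Yl cs) 4096 m = true) :
    Nat.card (Subgroup.centralizer ({Y} : Set Sp12)) ≤ m * 6 := by
  classical
  set C := Subgroup.centralizer ({Y} : Set Sp12) with hC
  have hcm : ∀ g : C, g.1 * Y = Y * g.1 := fun g => Subgroup.mem_centralizer_singleton_iff.1 g.2
  have hcv : ∀ g : C, g.1.1 * Y.1 = Y.1 * g.1.1 := fun g => congrArg Subtype.val (hcm g)
  have hml : ∀ d : ℕ, mv Yl d < 4096 := fun d => by
    have := mv_lt Yl d
    rwa [(wf_iff.1 hw).1] at this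
  have hk0l : k0 < 4096 := by rw [← hk0]; exact wf_getD hkc 0
  let f : C → ℕ × (ℕ × ℕ) := fun g => (cod (g.1.1 *ᵥ dec k0), (cod (g.1.1 *ᵥ dec 32), cod (g.1.1 *ᵥ dec 2048)))
  let A : Finset ℕ := (Finset.range 4096).filter fun a => tstF Yl cs a = true
  let B : Finset (ℕ × ℕ) := {(32, 2048), (32, 2080), (2048, 32), (2048, 2080), (2080, 32), (2080, 2048)}
  have hA : A.card = m := card_of_cntB _ _ _ ht
  have hB : B.card = 6 := by decide +kernel
  -- the images of the fixed vectors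
  have hfix : ∀ (g : C) (b : ℕ), b < 4096 → b ≠ 0 → mv Yl b = b →
      cod (g.1.1 *ᵥ dec b) = 32 ∨ cod (g.1.1 *ᵥ dec b) = 2048 ∨ cod (g.1.1 *ᵥ dec b) = 2080 := by
    intro g b hb hb0 hbf
    have h1 : mv Yl (cod (g.1.1 *ᵥ dec b)) = cod (g.1.1 *ᵥ dec b) := by
      refine dec_inj (hml _) (cod_lt _) ?_
      rw [← mulVec_dec _ (cod_lt _), dec_cod, ← hY, Matrix.mulVec_mulVec, ← hcv,
        ← Matrix.mulVec_mulVec, hY, mulVec_dec _ hb, hbf]
    rcases fixF_spec hfx (cod_lt _) h1 with h2 | h2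
    · exfalso
      have h3 : g.1.1 *ᵥ dec b = g.1.1 *ᵥ dec 0 := by
        have h4 : dec (0 : ℕ) = 0 := by
          funext i
          simp [dec, bz]
        rw [← dec_cod (g.1.1 *ᵥ dec b), h2, h4, Matrix.mulVec_zero]
      have h5 : (g⁻¹ : C).1.1 * g.1.1 = 1 := congrArg (fun z : C => z.1.1) (inv_mul_cancel g)
      have h6 := congrArg (fun v => (g⁻¹ : C).1.1 *ᵥ v) h3
      simp only [Matrix.mulVec_mulVec] at h6
      rw [h5, Matrix.one_mulVec, Matrix.one_mulVec] at h6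
      exact hb0 (dec_inj hb (by norm_num) h6)
    · exact h2
  have hne : ∀ g : C, cod (g.1.1 *ᵥ dec 32) ≠ cod (g.1.1 *ᵥ dec 2048) := by
    intro g h
    have h3 : g.1.1 *ᵥ dec 32 = g.1.1 *ᵥ dec 2048 := by
      rw [← dec_cod (g.1.1 *ᵥ dec 32), h, dec_cod]
    have h5 : (g⁻¹ : C).1.1 * g.1.1 = 1 := congrArg (fun z : C => z.1.1) (inv_mul_cancel g)
    have h6 := congrArg (fun v => (g⁻¹ : C).1.1 *ᵥ v) h3
    simp only [Matrix.mulVec_mulVec] at h6
    rw [h5, Matrix.one_mulVec, Matrix.one_mulVec] at h6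
    have := dec_inj (by norm_num) (by norm_num) h6
    omega
  have hmem : ∀ g, f g ∈ A ×ˢ B := by
    intro g
    rw [Finset.mem_product]
    constructor
    · change cod (g.1.1 *ᵥ dec k0) ∈ A
      rw [Finset.mem_filter, Finset.mem_range, tstF, band_eq_true, force_eq]
      refine ⟨cod_lt _, ?_, ?_⟩
      · -- the coordinates 5 and 11
        have h2 : g.1.1 *ᵥ dec k0 = Y.1 *ᵥ (g.1.1 *ᵥ dec kk) + g.1.1 *ᵥ dec kk := by
          rw [hkk', Matrix.mulVec_add, ← mulVec_dec _ hkk, ← hY, Matrix.mulVec_mulVec, hcv, ← Matrix.mulVec_mulVec]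
        have h3 := rowF hY h1r h2r (g.1.1 *ᵥ dec kk)
        have h4 : ∀ a : ZMod 2, a + a = 0 := by decide
        have h5 : cod (g.1.1 *ᵥ dec k0) &&& 2080 = 0 := by
          apply land_zero
          · rw [dec_cod, h2, Pi.add_apply, h3.1, h4]
          · rw [dec_cod, h2, Pi.add_apply, h3.2, h4]
        change Nat.beq (cod (g.1.1 *ᵥ dec k0) &&& 2080) 0 = true
        rw [h5]
        rfl
      · rw [← h0]
        refine chk_eq hY hw (hcm g) _ (cod_lt _) (hml _) (hml _) hk0l (dec_cod _) ?_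
        rw [← mulVec_dec _ (cod_lt _), ← mulVec_dec _ hk0l, dec_cod, ← hY,
          Matrix.mulVec_mulVec, Matrix.mulVec_mulVec, hcv]
    · change (cod (g.1.1 *ᵥ dec 32), cod (g.1.1 *ᵥ dec 2048)) ∈ B
      have h1 := hne g
      rcases hfix g 32 (by norm_num) (by norm_num) hf1 with h2 | h2 | h2 <;>
        rcases hfix g 2048 (by norm_num) (by norm_num) hf2 with h3 | h3 | h3 <;>
        rw [h2, h3] at h1 ⊢ <;> first | exact absurd rfl h1 | decide
  have hinj : Function.Injective f := by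
    intro g h hgh
    have e0 : g.1.1 *ᵥ dec k0 = h.1.1 *ᵥ dec k0 := by
      rw [← dec_cod (g.1.1 *ᵥ dec k0), ← dec_cod (h.1.1 *ᵥ dec k0)]
      exact congrArg dec (congrArg Prod.fst hgh)
    have e1 : g.1.1 *ᵥ dec 32 = h.1.1 *ᵥ dec 32 := by
      rw [← dec_cod (g.1.1 *ᵥ dec 32), ← dec_cod (h.1.1 *ᵥ dec 32)]
      exact congrArg dec (congrArg (fun z => z.2.1) hgh)
    have e2 : g.1.1 *ᵥ dec 2048 = h.1.1 *ᵥ dec 2048 := by
      rw [← dec_cod (g.1.1 *ᵥ dec 2048), ← dec_cod (h.1.1 *ᵥ dec 2048)]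
      exact congrArg dec (congrArg (fun z => z.2.2) hgh)
    have h2 := chain_agree hY hkc hch (hcm g) (hcm h) (by rw [hk0]; exact e0)
    refine Subtype.ext (ext_kc hkc hK' hK fun j hj => ?_)
    rcases Nat.lt_or_ge j 10 with h3 | h3
    · exact h2 j (by omega)
    · have h4 : j = 10 ∨ j = 11 := by omega
      rcases h4 with rfl | rfl
      · rw [hk10]; exact e1
      · rw [hk11]; exact e2
  have h1 : Nat.card C ≤ (A ×ˢ B).card := by
    rw [← Nat.card_eq_finsetCard]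
    exact Nat.card_le_card_of_injective (fun g => (⟨f g, hmem g⟩ : {a // a ∈ A ×ˢ B})) fun g h e =>
      hinj (congrArg (fun z : {a // a ∈ A ×ˢ B} => z.1) e)
  rw [Finset.card_product, hA, hB] at h1
  exact h1

/-! ### The element of order 31 -/

/-- rows and columns of `e31` -/
def l31 : List ℕ := [16, 1, 18, 4, 8, 32, 1152, 64, 128, 256, 512, 2048]
def t31 : List ℕ := [2, 4, 8, 16, 5, 32, 128, 320, 512, 1024, 64, 2048]
/-- order 31 -/
def e31 : Sp12 := se l31 (by decide +kernel)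
/-- order 2 -/
def ea : Sp12 := se [1, 2, 4, 8, 16, 2048, 64, 128, 256, 512, 1024, 32] (by decide +kernel)
/-- order 3 -/
def eb : Sp12 := se [1, 2, 4, 8, 16, 2048, 64, 128, 256, 512, 1024, 2080] (by decide +kernel)

theorem e31_t : e31.1 = (sm t31)ᵀ := by
  change sm l31 = (sm t31)ᵀ
  decide +kernel

theorem e31_pow : e31 ^ 31 = 1 := pow_eq_one e31_t (by decide +kernel) (by decide +kernel)

theorem e31_ne : e31 ≠ 1 := by decide +kernel

theorem order31 : orderOf e31 = 31 := by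
  have : Fact (Nat.Prime 31) := ⟨by norm_num⟩
  exact orderOf_eq_prime e31_pow e31_ne

theorem ea_sq : ea * ea = 1 := by (delta Cfsg.Agent.H890.OZ.SpW.ea Cfsg.Agent.H890.OZ.SpW.se Cfsg.Agent.H890.OZ.SpW.sm Cfsg.Agent.H890.OZ.SpW.bz; set_option synthInstance.maxSize 20000 in open scoped Cfsg.Agent.Lib.MatDec in decide +kernel)
theorem ea_ne : ea ≠ 1 := by decide +kernel
theorem eb_cube : eb * eb * eb = 1 := by (delta Cfsg.Agent.H890.OZ.SpW.eb Cfsg.Agent.H890.OZ.SpW.se; set_option synthInstance.maxSize 20000 in open scoped Cfsg.Agent.Lib.MatDec in decide +kernel)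
theorem eb_ne : eb ≠ 1 := by decide +kernel
theorem ea_comm : ea * e31 = e31 * ea := by (delta Cfsg.Agent.H890.OZ.SpW.ea Cfsg.Agent.H890.OZ.SpW.e31 Cfsg.Agent.H890.OZ.SpW.se Cfsg.Agent.H890.OZ.SpW.sm Cfsg.Agent.H890.OZ.SpW.bz; set_option synthInstance.maxSize 20000 in open scoped Cfsg.Agent.Lib.MatDec in decide +kernel)
theorem eb_comm : eb * e31 = e31 * eb := by (delta Cfsg.Agent.H890.OZ.SpW.eb Cfsg.Agent.H890.OZ.SpW.e31 Cfsg.Agent.H890.OZ.SpW.se; set_option synthInstance.maxSize 20000 in open scoped Cfsg.Agent.Lib.MatDec in decide +kernel)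
theorem ea_eb : ea * eb = eb * eb * ea := by (delta Cfsg.Agent.H890.OZ.SpW.ea Cfsg.Agent.H890.OZ.SpW.eb Cfsg.Agent.H890.OZ.SpW.se Cfsg.Agent.H890.OZ.SpW.sm Cfsg.Agent.H890.OZ.SpW.bz; set_option synthInstance.maxSize 20000 in open scoped Cfsg.Agent.Lib.MatDec in decide +kernel)

theorem order_ea : orderOf ea = 2 := by
  have : Fact (Nat.Prime 2) := ⟨Nat.prime_two⟩
  exact orderOf_eq_prime (by rw [pow_two]; exact ea_sq) ea_ne

theorem order_eb : orderOf eb = 3 := by
  have : Fact (Nat.Prime 3) := ⟨Nat.prime_three⟩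
  exact orderOf_eq_prime (by rw [pow_succ, pow_two]; exact eb_cube) eb_ne

theorem cent31_le : Nat.card (Subgroup.centralizer ({e31} : Set Sp12)) ≤ 31 * 6 :=
  card_cent_leF (Y := e31) (Yl := l31) (kc := [65, 130, 324, 648, 1360, 709, 1482, 916, 1869, 1754, 32, 2048]) (K' := [1561, 1363, 1503, 1223, 207, 1926, 1613, 963, 414, 796, 32, 2048]) (cs := [false, true, false, true, false]) (k0 := 65) (kk := 2012)
    rfl (by decide +kernel) (by decide +kernel) (by decide +kernel) (by decide +kernel) (by decide +kernel)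
    (by decide +kernel) (by decide +kernel) rfl rfl rfl (fix_of_G (by decide +kernel) (by decide +kernel))
    (by decide +kernel) (by decide +kernel)
    (by norm_num) (by decide +kernel) (by decide +kernel) (tst_of_F (by decide +kernel) (by decide +kernel))

theorem mem31 : e31 ∈ Subgroup.centralizer ({e31} : Set Sp12) := Subgroup.mem_centralizer_singleton_iff.2 rfl
theorem mem_a : ea ∈ Subgroup.centralizer ({e31} : Set Sp12) := Subgroup.mem_centralizer_singleton_iff.2 ea_comm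
theorem mem_b : eb ∈ Subgroup.centralizer ({e31} : Set Sp12) := Subgroup.mem_centralizer_singleton_iff.2 eb_comm

theorem cent31 : Nat.card (Subgroup.centralizer ({e31} : Set Sp12)) = 186 := by
  have h31 := Subgroup.orderOf_dvd_natCard _ mem31
  have h2 := Subgroup.orderOf_dvd_natCard _ mem_a
  have h3 := Subgroup.orderOf_dvd_natCard _ mem_b
  rw [order31] at h31
  rw [order_ea] at h2
  rw [order_eb] at h3
  have h4 := cent31_le
  have h5 : 0 < Nat.card (Subgroup.centralizer ({e31} : Set Sp12)) := Nat.card_pos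
  omega

/-- **Elements of the same order prime to 31 of `C(e31)` are conjugate in `C(e31)`.** -/
theorem cls31 (y y' : Sp12) (hy : e31 * y = y * e31) (hy' : e31 * y' = y' * e31) (hyr : ¬ 31 ∣ orderOf y)
    (hyy : orderOf y = orderOf y') : ∃ k : Sp12, e31 * k = k * e31 ∧ k * y * k⁻¹ = y' := by
  set C := Subgroup.centralizer ({e31} : Set Sp12) with hC
  let zc : C := ⟨e31, mem31⟩
  have hz : ∀ g : C, g * zc = zc * g := fun g => Subtype.ext (Subgroup.mem_centralizer_singleton_iff.1 g.2)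
  have hN : (Subgroup.zpowers zc).Normal := ⟨fun n hn g => by
    obtain ⟨i, hi⟩ := hn
    change zc ^ i = n at hi
    have h1 : g * n = n * g := by
      rw [← hi]
      exact Subtype.ext ((show Commute (g : Sp12) e31 from Subgroup.mem_centralizer_singleton_iff.1 g.2).zpow_right i)
    rw [h1, mul_inv_cancel_right, ← hi]
    exact ⟨i, rfl⟩⟩
  have hzo : orderOf zc = 31 := by
    rw [← Subgroup.orderOf_coe]
    exact order31
  have h6 : Nat.card (C ⧸ Subgroup.zpowers zc) = 6 := by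
    have h1 := (Subgroup.zpowers zc).card_mul_index
    rw [Nat.card_zpowers, hzo, cent31] at h1
    change (Subgroup.zpowers zc).index = 6
    omega
  let a : C := ⟨ea, mem_a⟩
  let b : C := ⟨eb, mem_b⟩
  have hab : a * b = b * b * a := Subtype.ext ea_eb
  have hb3 : b * b * b = 1 := Subtype.ext eb_cube
  have hb1 : b ≠ 1 := fun h => eb_ne (congrArg Subtype.val h)
  have hne : ∃ s t : C ⧸ Subgroup.zpowers zc, s * t ≠ t * s := by
    refine ⟨QuotientGroup.mk a, QuotientGroup.mk b, fun h => ?_⟩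
    rw [← QuotientGroup.mk_mul, ← QuotientGroup.mk_mul, QuotientGroup.eq] at h
    obtain ⟨i, hi⟩ := h
    change zc ^ i = (a * b)⁻¹ * (b * a) at hi
    have h1 : (a * b)⁻¹ * (b * a) = a⁻¹ * b⁻¹ * a := by
      rw [hab]
      group
    rw [h1] at hi
    have h2 : (a⁻¹ * b⁻¹ * a) ^ 31 = 1 := by
      rw [← hi, ← _root_.zpow_natCast, ← _root_.zpow_mul, mul_comm, _root_.zpow_mul, _root_.zpow_natCast, ← hzo,
        pow_orderOf_eq_one, _root_.one_zpow]
    have h3 : (a⁻¹ * b⁻¹ * a) ^ 3 = 1 := by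
      calc (a⁻¹ * b⁻¹ * a) ^ 3 = (a⁻¹ * b⁻¹ * a) * (a⁻¹ * b⁻¹ * a) * (a⁻¹ * b⁻¹ * a) := by rw [pow_succ, pow_two]
        _ = a⁻¹ * (b * b * b)⁻¹ * a := by group
        _ = 1 := by rw [hb3]; group
    have h4 : a⁻¹ * b⁻¹ * a = 1 := by
      have h5 : (a⁻¹ * b⁻¹ * a) ^ 30 = 1 := by
        rw [show 30 = 3 * 10 by norm_num, pow_mul, h3, one_pow]
      have h6 := h2
      rw [pow_succ, h5, one_mul] at h6
      exact h6
    apply hb1
    calc b = a * (a⁻¹ * b⁻¹ * a)⁻¹ * a⁻¹ := by group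
      _ = 1 := by rw [h4]; group
  refine H733.OZ.classes_of (r := 31) (by norm_num) order31 (QuotientGroup.mk' (Subgroup.zpowers zc))
    (QuotientGroup.mk'_surjective _) (fun k hk => ?_) (fun s t hst => H733.OZ.six_conj h6 hne hst) y y' hy hy' hyr hyy
  rw [QuotientGroup.mk'_apply, QuotientGroup.eq_one_iff] at hk
  obtain ⟨i, hi⟩ := hk
  exact ⟨i, congrArg Subtype.val hi⟩

/-! ### The element of order 65 -/

/-- rows and columns of `e65` -/
def l65 : List ℕ := [2239, 749, 664, 197, 957, 2626, 1075, 3706, 2104, 458, 2691, 2011]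
def t65 : List ℕ := [3163, 3809, 27, 2967, 2517, 467, 2730, 3615, 2576, 3254, 2240, 1441]
/-- order 65 -/
def e65 : Sp12 := se l65 (by decide +kernel)
/-- `en e65 en⁻¹ = e65 ^ 2` -/
def en : Sp12 := se [3842, 3418, 1272, 3367, 924, 160, 973, 3186, 1128, 3906, 636, 2324] (by decide +kernel)

theorem e65_t : e65.1 = (sm t65)ᵀ := by
  change sm l65 = (sm t65)ᵀ
  decide +kernel

/-- rows of `e65 ^ 5` -/
def l13 : List ℕ := [456, 3607, 3716, 123, 1625, 3740, 28, 2059, 1309, 3673, 1786, 858]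

theorem e13_val : (e65 ^ 5).1 = sm l13 := by
  rw [pow_val e65_t (by decide +kernel), eq_of_beqL (l := iter t65 5) (m := l13) (by decide +kernel)]

private noncomputable def _root_.Cfsg.Agent.LsF.f5531ef_6 : {f // @Cfsg.Agent.H890.OZ.SpW.beqL = f} := ⟨_, by first | (delta Cfsg.Agent.H890.OZ.SpW.beqL List.brecOn List.brecOn.go Cfsg.Agent.H890.OZ.SpW.beqL._f; (try delta Cfsg.Agent.H890.OZ.SpW.beqL.match_1); (try delta Cfsg.Agent.H890.OZ.SpW.beqL._sparseCasesOn_1); (try delta Cfsg.Agent.H890.OZ.SpW.beqL._sparseCasesOn_2); (try delta List.casesOn); first | dsimp -zeta only | exact rfl) | exact rfl⟩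
private noncomputable def _root_.Cfsg.Agent.LsF.f5531ef_7 : {f // @Cfsg.Agent.H890.OZ.SpW.mapF = f} := ⟨_, by first | (delta Cfsg.Agent.H890.OZ.SpW.mapF List.brecOn List.brecOn.go Cfsg.Agent.H890.OZ.SpW.mapF._f; (try delta Cfsg.Agent.H890.OZ.SpW.mapF.match_1); (try delta List.casesOn); first | dsimp -zeta only | exact rfl) | exact rfl⟩
private noncomputable def _root_.Cfsg.Agent.LsF.f5531ef_8 : {f // @Cfsg.Agent.H890.OZ.SpW.par = f} := ⟨_, by first | (delta Cfsg.Agent.H890.OZ.SpW.par; rewrite [Cfsg.Agent.LsF.testBit_eq]; exact rfl) | exact rfl⟩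
private noncomputable def _root_.Cfsg.Agent.LsF.f5531ef_9 : {f // @Cfsg.Agent.H890.OZ.SpW.mv = f} := ⟨_, by first | (delta Cfsg.Agent.H890.OZ.SpW.mv List.brecOn List.brecOn.go Cfsg.Agent.H890.OZ.SpW.mv._f; rewrite [Cfsg.Agent.LsF.f5531ef_8.2, Cfsg.Agent.LsF.cond_eq]; (try delta Cfsg.Agent.H890.OZ.SpW.mv.match_1); (try delta List.casesOn); first | dsimp -zeta only | exact rfl) | exact rfl⟩
private noncomputable def _root_.Cfsg.Agent.LsF.f5531ef_14 : {f // @Cfsg.Agent.H890.OZ.SpW.iter = f} := ⟨_, by first | (delta Cfsg.Agent.H890.OZ.SpW.iter; rewrite [Cfsg.Agent.LsF.f5531ef_7.2, Cfsg.Agent.LsF.f5531ef_9.2]; exact rfl) | exact rfl⟩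
theorem e65_pow : e65 ^ 65 = 1 := pow_eq_one e65_t (by decide +kernel) (by ((try (rewrite [Cfsg.Agent.LsF.f5531ef_6.2, Cfsg.Agent.LsF.f5531ef_14.2])); decide +kernel))

theorem e65_ne5 : e65 ^ 5 ≠ 1 := by
  intro h
  have h1 : sm l13 = 1 := by rw [← e13_val, h]; rfl
  revert h1
  decide +kernel

theorem e65_ne13 : e65 ^ 13 ≠ 1 := by
  intro h
  have h1 : sm (iter t65 13) = 1 := by rw [← pow_val e65_t (by decide +kernel), h]; rfl
  revert h1
  decide +kernel

theorem order65 : orderOf e65 = 65 := by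
  have h1 : orderOf e65 ∣ 65 := orderOf_dvd_of_pow_eq_one e65_pow
  have h2 : ¬ orderOf e65 ∣ 5 := fun h => e65_ne5 (orderOf_dvd_iff_pow_eq_one.1 h)
  have h3 : ¬ orderOf e65 ∣ 13 := fun h => e65_ne13 (orderOf_dvd_iff_pow_eq_one.1 h)
  have h4 : orderOf e65 ≤ 65 := Nat.le_of_dvd (by norm_num) h1
  generalize orderOf e65 = n at h1 h2 h3 h4
  interval_cases n <;> revert h1 h2 h3 <;> decide

theorem en_conj : en * e65 = e65 ^ 2 * en := by
  rw [pow_two]
  (delta Cfsg.Agent.H890.OZ.SpW.en Cfsg.Agent.H890.OZ.SpW.e65 Cfsg.Agent.H890.OZ.SpW.se; set_option synthInstance.maxSize 20000 in open scoped Cfsg.Agent.Lib.MatDec in decide +kernel)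

theorem cent13_le : Nat.card (Subgroup.centralizer ({e65 ^ 5} : Set Sp12)) ≤ 65 :=
  card_cent_le (Y := e65 ^ 5) (Yl := l13) (kc := [1, 922, 3867, 3380, 1669, 4057, 2946, 3390, 1526, 661, 1941, 2466]) (K' := [741, 1840, 4020, 3954, 634, 2794, 2004, 614, 2730, 346, 1178, 1950]) (cs := [false, false, false, false, true, false])
    e13_val (by decide +kernel) (by decide +kernel) (by decide +kernel) (by decide +kernel) (by decide +kernel)
    (by decide +kernel) (cnt_of_F (by decide +kernel) (by decide +kernel))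

/-! ### The element of order 11 -/

/-- rows and columns of `e33` -/
def l33 : List ℕ := [897, 1820, 206, 1864, 712, 32, 1095, 978, 413, 1803, 194, 2048]
def t33 : List ℕ := [833, 1732, 326, 798, 386, 32, 1244, 1429, 907, 667, 586, 2048]
/-- order 33 -/
def e33 : Sp12 := se l33 (by decide +kernel)

theorem e33_t : e33.1 = (sm t33)ᵀ := by
  change sm l33 = (sm t33)ᵀ
  decide +kernel

/-- rows of `e11` -/
def l11 : List ℕ := [787, 1034, 1359, 1029, 1243, 32, 655, 460, 784, 268, 1819, 2048]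

/-- order 11 -/
def e11 : Sp12 := e33 ^ 3

theorem e11_val : e11.1 = sm l11 := by
  rw [e11, pow_val e33_t (by decide +kernel), eq_of_beqL (l := iter t33 3) (m := l11) (by decide +kernel)]

theorem e33_pow : e33 ^ 33 = 1 := pow_eq_one e33_t (by decide +kernel) (by ((try (rewrite [Cfsg.Agent.LsF.f5531ef_6.2, Cfsg.Agent.LsF.f5531ef_14.2])); decide +kernel))

theorem e11_pow : e11 ^ 11 = 1 := by rw [e11, ← pow_mul, e33_pow]

theorem e11_ne : e11 ≠ 1 := by
  intro h
  have h1 : sm l11 = 1 := by rw [← e11_val, h]; rfl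
  revert h1
  decide +kernel

theorem e3_ne : e33 ^ 11 ≠ 1 := by
  intro h
  have h1 : sm (iter t33 11) = 1 := by rw [← pow_val e33_t (by decide +kernel), h]; rfl
  revert h1
  decide +kernel

theorem order11 : orderOf e11 = 11 := by
  have : Fact (Nat.Prime 11) := ⟨by norm_num⟩
  exact orderOf_eq_prime e11_pow e11_ne

theorem order33 : orderOf e33 = 33 := by
  have h1 : orderOf e33 ∣ 33 := orderOf_dvd_of_pow_eq_one e33_pow
  have h2 : ¬ orderOf e33 ∣ 11 := fun h => e3_ne (orderOf_dvd_iff_pow_eq_one.1 h)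
  have h3 : ¬ orderOf e33 ∣ 3 := fun h => e11_ne (orderOf_dvd_iff_pow_eq_one.1 h)
  have h4 : orderOf e33 ≤ 33 := Nat.le_of_dvd (by norm_num) h1
  generalize orderOf e33 = n at h1 h2 h3 h4
  interval_cases n <;> revert h1 h2 h3 <;> decide

theorem cent11_le : Nat.card (Subgroup.centralizer ({e11} : Set Sp12)) ≤ 198 :=
  card_cent_leF (Y := e11) (Yl := l11) (kc := [1, 1117, 476, 1738, 922, 1412, 391, 1427, 1616, 1242, 32, 2048]) (K' := [1093, 796, 1102, 584, 1754, 1228, 922, 1218, 1682, 968, 32, 2048]) (cs := [true, true, true, false, false]) (m := 33) (k0 := 1) (kk := 1626)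
    e11_val (by decide +kernel) (by decide +kernel) (by decide +kernel) (by decide +kernel) (by decide +kernel)
    (by decide +kernel) (by decide +kernel) rfl rfl rfl (fix_of_G (by decide +kernel) (by decide +kernel))
    (by decide +kernel) (by decide +kernel)
    (by norm_num) (by decide +kernel) (by decide +kernel) (tst_of_F (by decide +kernel) (by decide +kernel))

theorem cent11_gt : 11 < Nat.card (Subgroup.centralizer ({e11} : Set Sp12)) := by
  have h1 : Subgroup.zpowers e33 ≤ Subgroup.centralizer ({e11} : Set Sp12) := by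
    rw [Subgroup.zpowers_le, Subgroup.mem_centralizer_singleton_iff, e11, ← pow_succ, ← pow_succ']
  have h3 := Subgroup.card_le_of_le h1
  rw [Nat.card_zpowers, order33] at h3
  omega

end Cfsg.Agent.H890.OZ.SpW
end

-- part: H348/OZ/RowSpTwelve
section
/-!
# One vanishing class: `PSp₁₂(2)` (helper348, S4842; kernel data by helper890)

`d = χ(1)`, `c = |C(x)|`; Kawanaka: the sum of `χ` over the 2-elements is `e 2 ^ m d`.  helper477's congruences modulo
13, 11, 17 and `sum_mod` modulo 31 give `m = 12` (or `m = 72`, excluded), hence `2 ^ 24 ∣ d`.  `c ≥ 6` (no 2-element,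
not 5), `d ≡ ± 1` modulo 31 and 13; the sieve with T4 leaves `2 ^ 30` (central elements) and 9395240960, which is
`- 5` modulo 11, but `|C(e11)| ≤ 18 · 11` allows only `± 1, ± 2, ± 4`.
-/

set_option autoImplicit false
set_option maxRecDepth 100000

open Cfsg Cfsg.Agent.Characters Cfsg.Agent.H732.VZ Cfsg.Agent.H604.OZ

namespace Cfsg.Agent.H348.OZ

open H890.OZ.SpW

attribute [local instance 10000] H890.OZ.SpW.mulSp

universe u

theorem exps : ∀ m < 73, ∀ e ∈ ([1, -1] : List ℤ), (e * 2 ^ m - 1) % 13 = 0 →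
    ((e * 2 ^ m - 4) % 11 = 0 ∨ (e * 2 ^ m + 2) % 11 = 0) →
    ((e * 2 ^ m - 4) % 31 = 0 ∨ (e * 2 ^ m + 2) % 31 = 0) → e = 1 ∧ (m = 12 ∨ m = 72) := by decide +kernel

theorem degs : ∀ d ∈ [2016, 30720, 46656, 268800, 408240, 6220800, 7077888, 61931520, 943718400, 1073741824, 1433272320,
    9395240960, 12541132800, 14269022208], d % 2 ^ 24 = 0 → d = 2 ^ 30 ∨ d = 9395240960 := by decide +kernel

private def loopP (ok : ℕ → Bool) (p n : ℕ) (k : ℕ → Bool) : ℕ → Bool :=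
  Nat.rec (motive := fun _ => ℕ → Bool) (fun _ => true)
    (fun _ ih e => cond (ok e) (cond (k e) (force (Nat.mul p e) ih) false) true) n

private theorem loopP_spec {ok : ℕ → Bool} (hok : ∀ a e, 0 < a → ok (a * e) = true → ok e = true) {p : ℕ} (hp : 0 < p)
    {k : ℕ → Bool} (n : ℕ) : ∀ e, loopP ok p n k e = true →
    ∀ i < n, ok (p ^ i * e) = true → k (p ^ i * e) = true := by
  induction n with
  | zero => intro e _ i hi; omega
  | succ n ih =>
    intro e h i hi hB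
    change cond (ok e) (cond (k e) (force (Nat.mul p e) (loopP ok p n k)) false) true = true at h
    rw [hok _ _ (Nat.pow_pos hp) hB, cond_true, force_eq] at h
    cases hk : k e with
    | false => rw [hk] at h; exact absurd h (by simp)
    | true =>
      rw [hk, cond_true] at h
      cases i with
      | zero => rwa [pow_zero, one_mul]
      | succ i =>
        have e1 : p ^ (i + 1) * e = p ^ i * Nat.mul p e := by rw [pow_succ, mul_assoc]; rfl
        rw [e1] at hB ⊢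
        exact ih _ h i (by omega) hB

private def allD (ok : ℕ → Bool) (l : List (ℕ × ℕ)) : (ℕ → Bool) → Bool :=
  List.rec (motive := fun _ => (ℕ → Bool) → Bool) (fun k => k 1)
    (fun x _ ih k => ih (loopP ok x.1 (Nat.succ x.2) k)) l

private theorem allD_spec {ok : ℕ → Bool} (hok : ∀ a e, 0 < a → ok (a * e) = true → ok e = true)
    (l : List (ℕ × ℕ)) (hl : ∀ x ∈ l, 0 < x.1) : ∀ k : ℕ → Bool, allD ok l k = true →
    ∀ d ∈ Cfsg.Agent.H417.Divs.divs l, ok d = true → k d = true := by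
  induction l with
  | nil =>
    intro k h d hd _
    obtain rfl : d = 1 := List.mem_singleton.1 hd
    exact h
  | cons x l ih =>
    intro k h d hd hB
    obtain ⟨d', hd', h1⟩ := List.mem_flatMap.1 (show d ∈ (Cfsg.Agent.H417.Divs.divs l).flatMap fun d =>
      (List.range (x.2 + 1)).map fun i => x.1 ^ i * d from hd)
    obtain ⟨i, hi, rfl⟩ := List.mem_map.1 h1
    have hp := hl x List.mem_cons_self
    exact loopP_spec hok hp _ _ (ih (fun y hy => hl y (List.mem_cons_of_mem _ hy)) _ h d' hd'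
      (hok _ _ (Nat.pow_pos hp) hB)) i (List.mem_range.1 hi) hB

private theorem okd4_le {N c : ℕ} {l : List (ℕ × ℕ)} {iso : List ℕ} {d : ℕ} (h : H672.OZ.okd4 N c l iso d = true) :
    c * (d * d) ≤ N + c ∧ ∀ y ∈ l, H672.OZ.okFull N d y = true := by
  have h1 : (Nat.blt 1 d && (Nat.ble (c * (d * d)) (N + c) && (_ && (l.all (H672.OZ.okFull N d) && _))) && _) =
    true := h
  simp only [Bool.and_eq_true, Nat.ble_eq] at h1
  exact ⟨h1.1.2.1, List.all_eq_true.1 h1.1.2.2.2.1⟩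

private theorem not_dvd_of_full {N d p : ℕ} (h : H672.OZ.okFull N d (p, 1) = true)
    (hp : Nat.beq ((1 + N / p ^ 1) % p ^ 1) 0 = false) : ¬ p ∣ d := by
  intro hd
  have h1 : (!(Nat.beq (d % p ^ 1) 0) || (Nat.beq ((1 + N / p ^ 1) % p ^ 1) 0 && _)) = true := h
  rw [hp, pow_one, Nat.mod_eq_zero_of_dvd hd] at h1
  exact absurd h1 (by simp)

private def okB (e : ℕ) : Bool := cond (Nat.ble e 186241168800) (Nat.beq (Nat.gcd e 75361) 1) false

private theorem okB_iff (e : ℕ) : okB e = true ↔ e ≤ 186241168800 ∧ Nat.Coprime e 75361 := by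
  unfold okB
  by_cases h : e ≤ 186241168800
  · rw [Nat.ble_eq_true_of_le h, cond_true, Nat.beq_eq]; exact ⟨fun h1 => ⟨h, h1⟩, fun h1 => h1.2⟩
  · rw [show Nat.ble e 186241168800 = false by rw [← Bool.not_eq_true, Nat.ble_eq]; exact h]; simp [h]

private noncomputable def _root_.Cfsg.Agent.LsF.f5531ef_20 : {f // @Cfsg.Agent.H348.OZ.loopP = f} := ⟨_, by first | (delta Cfsg.Agent.H348.OZ.loopP; rewrite [Cfsg.Agent.LsF.cond_eq]; exact rfl) | exact rfl⟩
private noncomputable def _root_.Cfsg.Agent.LsF.f5531ef_21 : {f // @Cfsg.Agent.H348.OZ.allD = f} := ⟨_, by first | (delta Cfsg.Agent.H348.OZ.allD; rewrite [Cfsg.Agent.LsF.f5531ef_20.2]; exact rfl) | exact rfl⟩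
private noncomputable def _root_.Cfsg.Agent.LsF.f5531ef_22 : {f // @Cfsg.Agent.H348.OZ.okB = f} := ⟨_, by first | (delta Cfsg.Agent.H348.OZ.okB; rewrite [Cfsg.Agent.LsF.cond_eq]; exact rfl) | exact rfl⟩
private noncomputable def _root_.Cfsg.Agent.LsF.f5531ef_23 : {f // @Cfsg.Agent.H672.OZ.okMod = f} := ⟨_, by first | (delta Cfsg.Agent.H672.OZ.okMod; rewrite [Cfsg.Agent.LsF.nsub_pat, Cfsg.Agent.LsF.nmod_pat, Cfsg.Agent.LsF.or_eq]; exact rfl) | exact rfl⟩
private noncomputable def _root_.Cfsg.Agent.LsF.f5531ef_24 : {f // @Cfsg.Agent.H672.OZ.isFull = f} := ⟨_, by first | (delta Cfsg.Agent.H672.OZ.isFull; rewrite [Cfsg.Agent.LsF.nmod_pat, Cfsg.Agent.LsF.npow_pat]; exact rfl) | exact rfl⟩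
private noncomputable def _root_.Cfsg.Agent.LsF.f5531ef_25 : {f // @Cfsg.Agent.H672.OZ.okFull = f} := ⟨_, by first | (delta Cfsg.Agent.H672.OZ.okFull; rewrite [Cfsg.Agent.LsF.f5531ef_24.2, Cfsg.Agent.LsF.nadd_pat, Cfsg.Agent.LsF.nmul_pat, Cfsg.Agent.LsF.ndiv_pat, Cfsg.Agent.LsF.nmod_pat, Cfsg.Agent.LsF.npow_pat, Cfsg.Agent.LsF.and_eq, Cfsg.Agent.LsF.or_eq, Cfsg.Agent.LsF.not_eq]; exact rfl) | exact rfl⟩
private noncomputable def _root_.Cfsg.Agent.LsF.f5531ef_26 : {f // @Cfsg.Agent.H672.OZ.okd = f} := ⟨_, by first | (delta Cfsg.Agent.H672.OZ.okd; rewrite [Cfsg.Agent.LsF.f5531ef_23.2, Cfsg.Agent.LsF.f5531ef_25.2, Cfsg.Agent.LsF.f5531ef_24.2, Cfsg.Agent.LsF.nadd_pat, Cfsg.Agent.LsF.nmul_pat, Cfsg.Agent.LsF.npow_pat, Cfsg.Agent.LsF.and_eq, Cfsg.Agent.LsF.or_eq, Cfsg.Agent.LsF.not_eq, Cfsg.Agent.LsF.all_eq]; exact rfl) | exact rfl⟩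
private noncomputable def _root_.Cfsg.Agent.LsF.f5531ef_27 : {f // @Cfsg.Agent.H672.OZ.okT4 = f} := ⟨_, by first | (delta Cfsg.Agent.H672.OZ.okT4; rewrite [Cfsg.Agent.LsF.nmul_pat, Cfsg.Agent.LsF.nsub_pat, Cfsg.Agent.LsF.nmod_pat, Cfsg.Agent.LsF.npow_pat, Cfsg.Agent.LsF.or_eq]; exact rfl) | exact rfl⟩
private noncomputable def _root_.Cfsg.Agent.LsF.f5531ef_28 : {f // @Cfsg.Agent.H672.OZ.okd4 = f} := ⟨_, by first | (delta Cfsg.Agent.H672.OZ.okd4; rewrite [Cfsg.Agent.LsF.f5531ef_26.2, Cfsg.Agent.LsF.f5531ef_27.2, Cfsg.Agent.LsF.f5531ef_24.2, Cfsg.Agent.LsF.npow_pat, Cfsg.Agent.LsF.and_eq, Cfsg.Agent.LsF.or_eq, Cfsg.Agent.LsF.not_eq, Cfsg.Agent.LsF.all_eq]; exact rfl) | exact rfl⟩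
theorem sieve12 : ((Cfsg.Agent.H417.Divs.divs [(2,36),(3,8),(5,3),(7,2),(11,1),(13,1),(17,1),(31,1)]).all fun d =>
    !(H672.OZ.okd4 208114637736580743168000 6 [(2,36),(3,8),(5,3),(7,2),(11,1),(13,1),(17,1),(31,1)] [31, 13] d) ||
    [2016, 30720, 46656, 268800, 408240, 6220800, 7077888, 61931520, 943718400, 1073741824, 1433272320,
    9395240960, 12541132800, 14269022208].contains d) = true := by
  have h : allD okB [(2,36),(3,8),(5,3),(7,2),(11,1),(13,1),(17,1),(31,1)] (fun d =>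
    !(H672.OZ.okd4 208114637736580743168000 6 [(2,36),(3,8),(5,3),(7,2),(11,1),(13,1),(17,1),(31,1)] [31, 13] d) ||
    [2016, 30720, 46656, 268800, 408240, 6220800, 7077888, 61931520, 943718400, 1073741824, 1433272320,
    9395240960, 12541132800, 14269022208].contains d) = true := by ((try (rewrite [Cfsg.Agent.LsF.f5531ef_21.2, Cfsg.Agent.LsF.f5531ef_22.2, Cfsg.Agent.LsF.f5531ef_28.2, Cfsg.Agent.LsF.instNBEq_pat, Cfsg.Agent.LsF.or_eq, Cfsg.Agent.LsF.not_eq, Cfsg.Agent.LsF.contains_eq])); decide +kernel)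
  refine List.all_eq_true.2 fun d hd => ?_
  cases hok : H672.OZ.okd4 208114637736580743168000 6 [(2,36),(3,8),(5,3),(7,2),(11,1),(13,1),(17,1),(31,1)] [31, 13] d with
  | false => rfl
  | true =>
    obtain ⟨h1, h2⟩ := okd4_le hok
    have hB : d ≤ 186241168800 := by
      by_contra hc
      have h4 : 186241168801 * 186241168801 ≤ d * d := Nat.mul_le_mul (by omega) (by omega)
      omega
    have c : ∀ p, p.Prime → (p, 1) ∈ [(2,36),(3,8),(5,3),(7,2),(11,1),(13,1),(17,1),(31,1)] →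
        Nat.beq ((1 + 208114637736580743168000 / p ^ 1) % p ^ 1) 0 = false → Nat.Coprime d p := fun p hp h3 h4 =>
      ((Nat.Prime.coprime_iff_not_dvd hp).2 (not_dvd_of_full (h2 _ h3) h4)).symm
    have hc : Nat.Coprime d (11 * 13 * 17 * 31) :=
      (((c 11 (by norm_num) (by decide) (by decide +kernel)).mul_right (c 13 (by norm_num) (by decide) (by decide +kernel))).mul_right
        (c 17 (by norm_num) (by decide) (by decide +kernel))).mul_right (c 31 (by norm_num) (by decide) (by decide +kernel))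
    have h5 := allD_spec (fun a e ha h6 => by
      rw [okB_iff] at h6 ⊢
      exact ⟨le_trans (Nat.le_mul_of_pos_left e ha) h6.1, Nat.Coprime.coprime_mul_left h6.2⟩) _ (by decide) _ h d hd
      ((okB_iff d).2 ⟨hB, hc⟩)
    simp only [hok] at h5
    exact h5

theorem mod_of_frob {d m : ℕ} {e z : ℤ} (he : e = 1) (hm : m = 12)
    (h : (e : ℂ) * ((2 : ℕ) : ℂ) ^ m * ((d : ℕ) : ℂ) = ((2 ^ 36 : ℕ) : ℂ) * z) : d % 2 ^ 24 = 0 := by
  rw [he, hm] at h
  have h1 : (2 : ℤ) ^ 12 * (d : ℤ) = 2 ^ 36 * z := by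
    have h2 : (((2 : ℤ) ^ 12 * (d : ℤ) : ℤ) : ℂ) = ((2 ^ 36 * z : ℤ) : ℂ) := by
      push_cast at h ⊢
      linear_combination h
    exact_mod_cast h2
  have h3 : (d : ℤ) = 2 ^ 24 * z := by linarith
  omega

/-- the factorization of the order -/
abbrev L12 : List (ℕ × ℕ) := [(2,36),(3,8),(5,3),(7,2),(11,1),(13,1),(17,1),(31,1)]

set_option maxHeartbeats 2000000 in
/-- **`Sp₁₂(2)`.** -/
theorem row_sp12 [IsSimpleGroup Sp12] : H730.OZ.Row Sp12 := by
  classical
  have hN := card_sp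
  have hna : ¬ IsMulCommutative Sp12 := fun h => by
    have h1 : ea * eb = eb * ea := h.is_comm.comm ea eb
    exact absurd h1 (by (delta Cfsg.Agent.H890.OZ.SpW.ea Cfsg.Agent.H890.OZ.SpW.eb Cfsg.Agent.H890.OZ.SpW.se; set_option synthInstance.maxSize 20000 in open scoped Cfsg.Agent.Lib.MatDec in decide +kernel))
  refine row_of fun χ x ho => ?_
  have := Fintype.ofFinite Sp12
  have h4 : 4 ≤ cent x := four_le_cent ho (by rw [hN]; norm_num) (by rw [hN]; norm_num)
  set d := charDegree (χ : Sp12 → ℂ) with hd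
  -- Kawanaka
  let e' : Sp12 ≃* PSp 6 (ZMod 2) := (equiv (F := ZMod 2) (ZMod.card 2)).symm
  have hKaw : H730.OZ.Kaw 2 Sp12 := H366.OZ.kaw_psp e' (by norm_num)
  have hSp : H477.OZ.SpCong 2 6 (Fintype.card (ZMod 2)) Sp12 := H477.OZ.spCong_psp e' (by norm_num)
  rw [ZMod.card 2] at hSp
  have hv : (Nat.card Sp12).factorization 2 = 36 := by
    have h1 := H366.OZ.fact_psp e' (by norm_num) Nat.prime_two (a := 1) (by norm_num) (by rw [ZMod.card 2, pow_one])
    rw [h1]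
    norm_num
  have hM : (H730.OZ.pSet 2 Sp12).ncard = 2 ^ 72 := by rw [hKaw.card, hv]
  -- `6 ≤ c`
  have h6 : 6 ≤ cent x := by
    by_contra hlt
    have h1 : cent x = 4 ∨ cent x = 5 := by omega
    rcases h1 with h1 | h1
    · have h2 : orderOf x ∣ 2 ^ 2 := by
        have h3 := orderOf_dvd_centralizer (Commute.refl x)
        rw [show Nat.card (Subgroup.centralizer ({x} : Set Sp12)) = 4 from h1] at h3
        exact h3
      obtain ⟨k, -, hk⟩ := (Nat.dvd_prime_pow Nat.prime_two).1 h2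
      have h3 := card_le_of_two ho hM ⟨k, hk⟩
      rw [hN, show Nat.card (Subgroup.centralizer ({x} : Set Sp12)) = 4 from h1] at h3
      norm_num at h3
    · exact ho.ne_prime (r := 5) (by norm_num) (by rw [hN]; norm_num) h1
  -- `x` is regular
  have hx31 : ¬ 31 ∣ orderOf x := by
    rcases Nat.lt_or_ge 31 (cent x) with h1 | h1
    · exact H733.OZ.not_dvd_orderOf ho (r := 31) (n := 1) (by norm_num) (by rw [hN]; norm_num) (by rw [hN]; norm_num)
        (by rw [pow_one]; exact h1)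
    · exact H849.OZ.not_dvd_of_le (by norm_num) (by rw [hN]; norm_num) order31 (by rw [cent31]; norm_num) h1
  have hx13 : ¬ 13 ∣ orderOf x := by
    rcases Nat.lt_or_ge 13 (cent x) with h1 | h1
    · exact H733.OZ.not_dvd_orderOf ho (r := 13) (n := 1) (by norm_num) (by rw [hN]; norm_num) (by rw [hN]; norm_num)
        (by rw [pow_one]; exact h1)
    · have hz : orderOf (e65 ^ 5) = 13 := by
        rw [orderOf_pow_of_dvd (by norm_num) (by rw [order65]; norm_num), order65]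
      refine H849.OZ.not_dvd_of_le (by norm_num) (by rw [hN]; norm_num) hz ?_ h1
      have h2 : Subgroup.zpowers e65 ≤ Subgroup.centralizer ({e65 ^ 5} : Set Sp12) := by
        rw [Subgroup.zpowers_le, Subgroup.mem_centralizer_singleton_iff, ← pow_succ, ← pow_succ']
      have h3 := Subgroup.card_le_of_le h2
      rw [Nat.card_zpowers, order65] at h3
      omega
  have hx11 : ¬ 11 ∣ orderOf x := by
    rcases Nat.lt_or_ge 11 (cent x) with h1 | h1
    · exact H733.OZ.not_dvd_orderOf ho (r := 11) (n := 1) (by norm_num) (by rw [hN]; norm_num) (by rw [hN]; norm_num)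
        (by rw [pow_one]; exact h1)
    · exact H849.OZ.not_dvd_of_le (by norm_num) (by rw [hN]; norm_num) order11 cent11_gt h1
  -- the residues modulo 31, 13
  have h31 : d % 31 = 1 ∨ d % 31 = 31 - 1 := H849.OZ.mod_of_classes (p := 31) (by norm_num) (by norm_num)
    (by rw [hN]; norm_num) (by rw [hN]; norm_num) order31 cls31 ho hx31 h4
  have h13 : d % 13 = 1 ∨ d % 13 = 13 - 1 := mod_of_five (p := 13) (by norm_num) (by norm_num) (by rw [hN]; norm_num)
    (by rw [hN]; norm_num) order65 cent13_le en_conj ho hx13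
    (lt_of_lt_of_le (by norm_num) (Nat.mul_le_mul_left 3 h6)) h4
  have hiso : ∀ r ∈ [31, 13], charDegree (χ : Sp12 → ℂ) % r = 0 ∨
      charDegree (χ : Sp12 → ℂ) % r = 1 ∨ charDegree (χ : Sp12 → ℂ) % r = r - 1 := by
    intro r hr
    simp only [List.mem_cons, List.not_mem_nil, or_false] at hr
    rcases hr with rfl | rfl
    · exact Or.inr h31
    · exact Or.inr h13
  have hm := H672.OZ.mem_of_sieve4 ho hN (l := L12) (by decide +kernel)
    (by
      intro x hx
      simp only [L12, List.mem_cons, List.not_mem_nil, or_false] at hx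
      rcases hx with rfl | rfl | rfl | rfl | rfl | rfl | rfl | rfl <;> norm_num)
    (by decide +kernel) h6 hiso sieve12
  -- the sum over the 2-elements
  have ho' : H730.OZ.OneZero (χ : Sp12 → ℂ) := (oneZero_iff χ.2).2 ⟨x, ho⟩
  obtain ⟨m, e, he, hsum⟩ := hKaw.sum χ χ.2
  obtain ⟨hmle, hmtop⟩ := hKaw.top Nat.prime_two χ.2 he hsum
  rw [hv] at hmle hmtop
  have c13 : (e * 2 ^ m - 1) % 13 = 0 := by
    obtain ⟨c, hc, hdc⟩ := hSp 0 13 (by norm_num) (by norm_num) (by norm_num)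
      ((orderOf_eq_iff (by norm_num)).2 ⟨by decide, by decide⟩) χ χ.2 ho' m e he hsum
    have hc1 : c = 1 := by simpa [H477.OZ.cSet] using hc
    rw [hc1] at hdc
    exact Int.emod_eq_zero_of_dvd (by exact_mod_cast hdc)
  have c11 : (e * 2 ^ m - 4) % 11 = 0 ∨ (e * 2 ^ m + 2) % 11 = 0 := by
    obtain ⟨c, hc, hdc⟩ := hSp 1 11 (by norm_num) (by norm_num) (by norm_num)
      ((orderOf_eq_iff (by norm_num)).2 ⟨by decide, by decide⟩) χ χ.2 ho' m e he hsum
    have hc1 : c = 4 ∨ c = -2 := by simpa [H477.OZ.cSet] using hc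
    rcases hc1 with rfl | rfl
    · exact Or.inl (Int.emod_eq_zero_of_dvd (by exact_mod_cast hdc))
    · right
      rw [sub_neg_eq_add] at hdc
      exact Int.emod_eq_zero_of_dvd (by exact_mod_cast hdc)
  have c31 : (e * 2 ^ m - 4) % 31 = 0 ∨ (e * 2 ^ m + 2) % 31 = 0 := by
    have hnd : ¬ 31 ∣ charDegree (χ : Sp12 → ℂ) := fun hdd => by
      rw [← hd] at hdd
      omega
    rcases sum_mod (p := 31) (by norm_num) (by norm_num) (by rw [hN]; norm_num) (by rw [hN]; norm_num) order31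
      (by rw [cent31]) ea_sq ea_ne ea_comm eb_comm (by (delta Cfsg.Agent.H890.OZ.SpW.eb Cfsg.Agent.H890.OZ.SpW.ea Cfsg.Agent.H890.OZ.SpW.se Cfsg.Agent.H890.OZ.SpW.sm Cfsg.Agent.H890.OZ.SpW.bz; set_option synthInstance.maxSize 20000 in open scoped Cfsg.Agent.Lib.MatDec in decide +kernel)) cls31 ho hx31 h4 hnd
      (lam := e * 2 ^ m) (by rw [hsum]; push_cast; ring) with h1 | h1
    · exact Or.inl (Int.emod_eq_zero_of_dvd (by exact_mod_cast h1))
    · exact Or.inr (Int.emod_eq_zero_of_dvd (by exact_mod_cast h1))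
  obtain ⟨he1, hm2⟩ := exps m (by omega) e (by rcases he with rfl | rfl <;> simp) c13 c11 c31
  have hd0 : 0 < charDegree (χ : Sp12 → ℂ) := H686.CharKit.charDegree_pos χ
  have hdc := H686.CharKit.charDegree_irr χ
  rcases hm2 with hm2 | hm2
  · -- `m = 12`
    obtain ⟨z, hz⟩ := H730.OZ.frob Nat.prime_two χ.2
    rw [hsum, hv, ← hdc] at hz
    have h2 : d % 2 ^ 24 = 0 := mod_of_frob he1 hm2 hz
    rcases degs d hm h2 with h3 | h3
    · have h7 := le_cent_of_prime_pow hna ho Nat.prime_two (n := 36) (by norm_num)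
        (by rw [hN]; norm_num) (by rw [hN]; norm_num) (a := 30) (by rw [← hd]; exact h3)
      have h8 := H672.OZ.cent_le_of ho hN (r := 17) (n := 1) (d := 2 ^ 30) (by norm_num) (by rw [← hd]; exact h3)
        (by norm_num) (by norm_num) (by norm_num)
      norm_num at h7 h8
      omega
    · obtain ⟨ε, s, k, hε, hs, h5⟩ := mod_of_eighteen (p := 11) (by norm_num) (by norm_num) (by rw [hN]; norm_num)
        (by rw [hN]; norm_num) order11 (cent11_le.trans (by norm_num)) ho hx11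
        (lt_of_lt_of_le (by norm_num) (Nat.mul_le_mul_left 2 h6)) h4
      rw [← hd, h3] at h5
      rcases hε with rfl | rfl <;> rcases hs with rfl | rfl | rfl <;> push_cast at h5 <;> omega
  · -- `m = 72`
    have hall := hmtop (by rw [hm2])
    have hu2 : ea ∈ H730.OZ.pSet 2 Sp12 := ⟨1, by rw [order_ea, pow_one]⟩
    have hu1 := hall ea hu2
    set K := H686.CharKit.chKer χ with hKdef
    have huK : ea ∈ K := H686.CharKit.mem_chKer.2 hu1
    have hKtop : K = ⊤ := by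
      rcases (inferInstance : IsSimpleGroup Sp12).eq_bot_or_eq_top_of_normal K inferInstance with h | h
      · exfalso
        rw [h, Subgroup.mem_bot] at huK
        exact ea_ne huK
      · exact h
    have hxK : x ∈ K := by rw [hKtop]; exact Subgroup.mem_top _
    have hx1 : (χ : Sp12 → ℂ) x = (χ : Sp12 → ℂ) 1 := H686.CharKit.mem_chKer.1 hxK
    rw [ho.zero, ← hdc] at hx1
    have : (charDegree (χ : Sp12 → ℂ) : ℂ) ≠ 0 := by exact_mod_cast hd0.ne'
    exact this hx1.symm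

/-- **`PSp₁₂(2)`.** -/
theorem row_psp12_two {S : Type u} [Group S] [Finite S] (hs : IsSimpleGroup S) {F : Type*} [Field F] [Fintype F]
    (hF : Fintype.card F = 2) (h : Nonempty (S ≃* PSp 6 F)) : H730.OZ.Row S := by
  obtain ⟨e⟩ := h
  have e' : S ≃* Sp12 := e.trans (equiv hF)
  have : Nontrivial Sp12 := e'.symm.toEquiv.nontrivial
  have : IsSimpleGroup Sp12 := IsSimpleGroup.isSimpleGroup_of_surjective e'.toMonoidHom e'.surjective
  exact H730.OZ.Row.congr e' row_sp12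

end Cfsg.Agent.H348.OZ
end

private theorem dce_bf265c575bd1 : _root_.True := by
  try have : _root_.True := by simp only [_root_.Cfsg.Agent.H200.VZ.ex.eq_2]
  try have : _root_.True := by simp only [_root_.Cfsg.Agent.H890.OZ.SpW.chk.eq_def]
  try have : _root_.True := by simp only [_root_.Cfsg.Agent.H890.OZ.SpW.mapF.eq_1]
  try have : _root_.True := by simp only [_root_.Cfsg.Agent.H890.OZ.SpW.mapF.eq_def]
  try have : _root_.True := by simp only [_root_.Cfsg.Agent.H890.OZ.SpW.mapF.eq_2]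
  try have : _root_.True := by simp only [_root_.Cfsg.Agent.H477.OZ.cSet.eq_1]
  try have : _root_.True := by simp only [_root_.Cfsg.Agent.H890.OZ.SpW.mv.eq_def]
  try have : _root_.True := by simp only [_root_.Cfsg.Agent.H890.OZ.SpW.mv.eq_2]
  try have : _root_.True := by simp only [_root_.Cfsg.Agent.H890.OZ.SpW.e11.eq_1]
  try have : _root_.True := by simp only [_root_.Cfsg.Agent.H890.OZ.SpW.ix.eq_1]
  try have : _root_.True := by simp only [_root_.Cfsg.Agent.H200.VZ.ex.congr_simp]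
  try have : _root_.True := by simp only [_root_.Cfsg.Agent.H890.OZ.SpW.ix.eq_2]
  try have : _root_.True := by simp only [_root_.Cfsg.Agent.H890.OZ.SpW.isS.eq_1]
  try have : _root_.True := by simp only [_root_.Cfsg.Agent.H200.VZ.ex.eq_def]
  try have : _root_.True := by simp only [_root_.Cfsg.Agent.H890.OZ.SpW.chk.eq_2]
  try have : _root_.True := by simp only [_root_.Cfsg.Agent.H890.OZ.SpW.beqL.eq_1]
  try have : _root_.True := by simp only [_root_.Cfsg.Agent.H890.OZ.SpW.dec.eq_1]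
  try have : _root_.True := by simp only [_root_.Cfsg.Agent.H890.OZ.SpW.beqL.eq_def]
  try have : _root_.True := by simp only [_root_.Cfsg.Agent.H200.VZ.ex.eq_1]
  try have : _root_.True := by simp only [_root_.Cfsg.Agent.H890.OZ.SpW.beqL.eq_2]
  try have : _root_.True := by simp only [_root_.Cfsg.Agent.H890.OZ.SpW.chk.eq_1]
  try have : _root_.True := by simp only [_root_.Cfsg.Agent.H890.OZ.SpW.tstF.eq_1]
  try have : _root_.True := by simp only [_root_.Cfsg.Agent.H200.VZ.dl.eq_1]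
  try have : _root_.True := by simp only [_root_.Cfsg.Agent.H890.OZ.SpW.beqL._sparseCasesOn_1.else_eq]
  try have : _root_.True := by simp only [_root_.Cfsg.Agent.H890.OZ.SpW.beqL.eq_3]
  try have : _root_.True := by simp only [_root_.Cfsg.Agent.H200.VZ.dl.congr_simp]
  try have : _root_.True := by simp only [_root_.Cfsg.Agent.H200.VZ.cc.congr_simp]
  try have : _root_.True := by simp only [_root_.Cfsg.Agent.H890.OZ.SpW.bz.eq_1]
  try have : _root_.True := by simp only [_root_.Cfsg.Agent.H890.OZ.SpW.wf.eq_1]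
  try have : _root_.True := by simp only [_root_.Cfsg.Agent.H890.OZ.SpW.mv.eq_1]
  try have : _root_.True := by simp only [_root_.Cfsg.Agent.Nodes.Bruhat.GG.congr_simp]
  try have : _root_.True := by simp only [_root_.Cfsg.Agent.H985.VZ.Ell.congr_simp]
  try have : _root_.True := by simp only [_root_.Cfsg.Agent.H890.OZ.SpW.beqL._sparseCasesOn_2.else_eq]
  exact _root_.True.intro
end

-- part: H366/OZ/SpFin_mg
section
prune_inst 0x200400000002200000000000220000200000000000000040044020004010000200080200000000100020000090004004000000020000000000a000000000504010800040081080000800000000000000000000000000000000000000000000000200000000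
set_option linter.all false
open scoped Cfsg.Agent.FastGrp

-- part: H366/OZ/SpDisp
section
/-!
# S4842: the family `IsPSp` (helper366)
-/

set_option autoImplicit false

open Cfsg Cfsg.Agent.H730.OZ Cfsg.Agent.H477.OZ

namespace Cfsg.Agent.H366.OZ

universe u

/-- the rows used for the family `IsPSp` -/
structure PspRows : Prop where
  /-- `PSp_4(q)`, `q ≥ 4`, `q ≠ 5` -/
  two : ∀ (F : Type) [Field F] [Fintype F], 4 ≤ Fintype.card F → Fintype.card F ≠ 5 → IsSimpleGroup (PSp 2 F) → Row (PSp 2 F)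
  two_three : ∀ (F : Type) [Field F] [Fintype F], Fintype.card F = 3 → IsSimpleGroup (PSp 2 F) → Row (PSp 2 F)
  two_five : ∀ (F : Type) [Field F] [Fintype F], Fintype.card F = 5 → IsSimpleGroup (PSp 2 F) → Row (PSp 2 F)
  /-- `PSp_6(q)`, `q ≥ 4` -/
  three : ∀ (F : Type) [Field F] [Fintype F], 4 ≤ Fintype.card F → IsSimpleGroup (PSp 3 F) → Row (PSp 3 F)
  three_two : ∀ (F : Type) [Field F] [Fintype F], Fintype.card F = 2 → IsSimpleGroup (PSp 3 F) → Row (PSp 3 F)
  three_three : ∀ (F : Type) [Field F] [Fintype F], Fintype.card F = 3 → IsSimpleGroup (PSp 3 F) → Row (PSp 3 F)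
  /-- `PSp_8(q)`, `q ≥ 3` -/
  four : ∀ (F : Type) [Field F] [Fintype F], 3 ≤ Fintype.card F → IsSimpleGroup (PSp 4 F) → Row (PSp 4 F)
  four_two : ∀ (F : Type) [Field F] [Fintype F], Fintype.card F = 2 → IsSimpleGroup (PSp 4 F) → Row (PSp 4 F)
  five_two : ∀ (F : Type) [Field F] [Fintype F], Fintype.card F = 2 → IsSimpleGroup (PSp 5 F) → Row (PSp 5 F)
  six_two : ∀ (F : Type) [Field F] [Fintype F], Fintype.card F = 2 → IsSimpleGroup (PSp 6 F) → Row (PSp 6 F)
  /-- `n ≥ 5` -/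
  cong : ∀ (F : Type) [Field F] [Fintype F] (n p : ℕ) [CharP F p], 5 ≤ n → ¬ ((n = 5 ∨ n = 6) ∧ Fintype.card F = 2) →
    IsSimpleGroup (PSp n F) → SpCong p n (Fintype.card F) (PSp n F)

/-- **The family `IsPSp`.** -/
theorem row_isPSp_of (R : PspRows) {S : Type u} [Group S] [Finite S] (hs : IsSimpleGroup S) (h : IsPSp S) : Row S := by
  obtain ⟨F, iF, iT, n, hn, hn2, ⟨e⟩⟩ := h
  obtain ⟨p, hp⟩ := CharP.exists F
  have hfin : Finite (PSp n F) := Finite.of_equiv S e.toEquiv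
  have hsi : IsSimpleGroup (PSp n F) := e.symm.isSimpleGroup
  have hq : 2 ≤ Fintype.card F := Fintype.one_lt_card
  refine Row.congr e ?_
  rcases Nat.lt_or_ge n 5 with h5 | h5
  · have h3 : n = 2 ∨ n = 3 ∨ n = 4 := by omega
    rcases h3 with rfl | rfl | rfl
    · have h4 := hn2 rfl
      rcases Nat.lt_or_ge (Fintype.card F) 4 with h6 | h6
      · exact R.two_three F (by omega) hsi
      · by_cases h7 : Fintype.card F = 5
        · exact R.two_five F h7 hsi
        · exact R.two F h6 h7 hsi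
    · rcases Nat.lt_or_ge (Fintype.card F) 4 with h6 | h6
      · rcases (by omega : Fintype.card F = 2 ∨ Fintype.card F = 3) with h7 | h7
        · exact R.three_two F h7 hsi
        · exact R.three_three F h7 hsi
      · exact R.three F h6 hsi
    · rcases Nat.lt_or_ge (Fintype.card F) 3 with h6 | h6
      · exact R.four_two F (by omega) hsi
      · exact R.four F h6 hsi
  · by_cases hex : (n = 5 ∨ n = 6) ∧ Fintype.card F = 2
    · obtain ⟨rfl | rfl, h2⟩ := hex
      · exact R.five_two F h2 hsi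
      · exact R.six_two F h2 hsi
    · exact row_psp (MulEquiv.refl _) hsi h5 hex (p := p) (R.cong F n p h5 hex hsi)

end Cfsg.Agent.H366.OZ
end

-- part: H245/OZ/SpFive
section
/-!
# Elements of `PSp₄(5)` (helper245, for S4842)

* an element `z` of order 13, `|C(z)| ≤ 13`, and `g` of order 4 with `g z g⁻¹ = z ^ 5`;
* an element `y` of order 5, conjugate to its inverse, `|C(y)| ≤ 25`.
-/

set_option autoImplicit false

namespace Cfsg.Agent.H245.OZ.SpFive

open Matrix Subgroup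

/-- the symplectic group -/
abbrev Sp := symplecticGroup (Fin 2) (ZMod 5)

instance factFiveSp : Fact (Nat.Prime 5) := ⟨Nat.prime_five⟩

/-- a block matrix from a list of rows -/
def mat (a b c d e f g h i j k l m n o p : ZMod 5) : Matrix (Fin 2 ⊕ Fin 2) (Fin 2 ⊕ Fin 2) (ZMod 5) :=
  fromBlocks !![a, b; e, f] !![c, d; g, h] !![i, j; m, n] !![k, l; o, p]

/-- order 13 -/
def zM := mat 3 2 4 0 3 0 0 1 1 0 0 0 0 4 0 0
/-- acting on `⟨z⟩` -/
def gM := mat 0 0 3 2 0 0 1 3 1 3 2 2 1 1 0 3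
/-- regular unipotent -/
def yM := mat 2 3 4 0 0 1 0 0 1 0 0 0 2 4 0 1
/-- inverting `y` -/
def bM := mat 0 0 2 0 0 2 0 0 2 0 0 0 0 0 0 3

theorem z_mem : zM * J (Fin 2) (ZMod 5) * zMᵀ = J (Fin 2) (ZMod 5) := by decide +kernel
theorem g_mem : gM * J (Fin 2) (ZMod 5) * gMᵀ = J (Fin 2) (ZMod 5) := by decide +kernel
theorem y_mem : yM * J (Fin 2) (ZMod 5) * yMᵀ = J (Fin 2) (ZMod 5) := by decide +kernel
theorem b_mem : bM * J (Fin 2) (ZMod 5) * bMᵀ = J (Fin 2) (ZMod 5) := by decide +kernel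

private noncomputable def _root_.Cfsg.Agent.LsF.f1cb3ae_0 : {f // @Cfsg.Agent.H245.OZ.SpFive.mat = f} := ⟨_, by first | (delta Cfsg.Agent.H245.OZ.SpFive.mat; rewrite [Cfsg.Agent.LsF.mof_pat, Cfsg.Agent.LsF.vecCons_eq]; exact rfl) | exact rfl⟩
private noncomputable def _root_.Cfsg.Agent.LsF.f1cb3ae_1 : {f // @Cfsg.Agent.H245.OZ.SpFive.zM = f} := ⟨_, by first | (delta Cfsg.Agent.H245.OZ.SpFive.zM; rewrite [Cfsg.Agent.LsF.f1cb3ae_0.2]; exact rfl) | exact rfl⟩
theorem z13 : zM ^ 13 = 1 := by (refine of_decide_eq_true ?_; (try (rewrite [Cfsg.Agent.LsF.f1cb3ae_1.2, Cfsg.Agent.LsF.mpow_pat, Cfsg.Agent.LsF.zdecEq_eq, Cfsg.Agent.LsF.finFintype_eq, Cfsg.Agent.LsF.dMat_eq, Cfsg.Agent.LsF.instMOne_eq, Cfsg.Agent.LsF.instZMul_pat, Cfsg.Agent.LsF.zACM_pat, Cfsg.Agent.LsF.dFinEq_eq, Cfsg.Agent.LsF.decide_eq])); decide +kernel)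
theorem y5 : yM ^ 5 = 1 := by decide +kernel
theorem g4 : gM ^ 4 = -1 := by decide +kernel
theorem gz : gM * zM = zM ^ 5 * gM := by decide +kernel
theorem by' : bM * yM = yM ^ 4 * bM := by decide +kernel

theorem z1 : zM * yM ≠ yM * zM := by decide +kernel
theorem g2 : gM ^ 2 * yM ≠ yM * gM ^ 2 := by decide +kernel

/-! ### the projective group -/

/-- the projection -/
abbrev pr (a : Sp) : Cfsg.PSp 2 (ZMod 5) := QuotientGroup.mk a

theorem pr_eq {a b : Sp} (h : pr a = pr b) :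
    (b : Matrix (Fin 2 ⊕ Fin 2) (Fin 2 ⊕ Fin 2) (ZMod 5)) = a ∨
      (b : Matrix (Fin 2 ⊕ Fin 2) (Fin 2 ⊕ Fin 2) (ZMod 5)) = -a := by
  have h1 : a⁻¹ * b ∈ Subgroup.center Sp := QuotientGroup.eq.1 h
  have h2 : b = a * (a⁻¹ * b) := by group
  rcases ClassicalGeometry.SympInvolutions.center_eq h1 with h3 | h3
  · left
    rw [h2, Submonoid.coe_mul, h3, mul_one]
  · right
    rw [h2, Submonoid.coe_mul, h3, mul_neg, mul_one]

theorem pr_comm {a b : Sp} (h : pr a * pr b = pr b * pr a) {n : ℕ} (hn : Odd n) (ha : a ^ n = 1) :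
    (b : Matrix (Fin 2 ⊕ Fin 2) (Fin 2 ⊕ Fin 2) (ZMod 5)) * a = a * b := by
  have h1 : pr (a * b) = pr (b * a) := h
  rcases pr_eq h1 with h2 | h2
  · exact h2
  · exfalso
    -- `b a b⁻¹ = - a`
    obtain ⟨c, hc⟩ : ∃ c : Sp, (c : Matrix (Fin 2 ⊕ Fin 2) (Fin 2 ⊕ Fin 2) (ZMod 5)) = -1 :=
      ⟨⟨-1, SymplecticGroup.mem_iff.2 (by simp)⟩, rfl⟩
    have h3 : b * a * b⁻¹ = c * a := by
      rw [mul_inv_eq_iff_eq_mul]
      apply Subtype.ext
      rw [Submonoid.coe_mul, Submonoid.coe_mul, Submonoid.coe_mul, hc, neg_one_mul, neg_mul]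
      exact h2
    have hca : Commute c a := by
      apply Subtype.ext
      change (c : Matrix (Fin 2 ⊕ Fin 2) (Fin 2 ⊕ Fin 2) (ZMod 5)) * a = a * c
      rw [hc]
      simp
    have h4 := congrArg (fun t : Sp => t ^ n) h3
    simp only [conj_pow, hca.mul_pow, ha, mul_one, mul_inv_cancel] at h4
    have h5 := congrArg (fun t : Sp => (t : Matrix (Fin 2 ⊕ Fin 2) (Fin 2 ⊕ Fin 2) (ZMod 5))) h4
    simp only [SubmonoidClass.coe_pow, OneMemClass.coe_one, hc, hn.neg_one_pow] at h5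
    have h6 := congrFun (congrFun h5 (Sum.inl 0)) (Sum.inl 0)
    rw [Matrix.neg_apply, Matrix.one_apply_eq] at h6
    exact absurd h6 (by decide)

/-- **The order of a centralizer**: `e` a cyclic vector. -/
theorem cent_le {a : Sp} {n : ℕ} (hn : Odd n) (ha : a ^ n = 1) (e : Fin 2 ⊕ Fin 2 → ZMod 5)
    (c : (Fin 2 ⊕ Fin 2) → Fin 4 → ZMod 5)
    (hc : ∀ j, (∑ i : Fin 4, c j i • (a : Matrix (Fin 2 ⊕ Fin 2) (Fin 2 ⊕ Fin 2) (ZMod 5)) ^ (i : ℕ)) *ᵥ e = Pi.single j 1)
    {N : ℕ} (hN : Fintype.card {w : Fin 2 ⊕ Fin 2 → ZMod 5 //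
      w ⬝ᵥ ((J (Fin 2) (ZMod 5) * (a : Matrix (Fin 2 ⊕ Fin 2) (Fin 2 ⊕ Fin 2) (ZMod 5))) *ᵥ w) =
        e ⬝ᵥ ((J (Fin 2) (ZMod 5) * (a : Matrix (Fin 2 ⊕ Fin 2) (Fin 2 ⊕ Fin 2) (ZMod 5))) *ᵥ e) ∧
      w ⬝ᵥ ((J (Fin 2) (ZMod 5) * (a : Matrix (Fin 2 ⊕ Fin 2) (Fin 2 ⊕ Fin 2) (ZMod 5)) ^ 2) *ᵥ w) =
        e ⬝ᵥ ((J (Fin 2) (ZMod 5) * (a : Matrix (Fin 2 ⊕ Fin 2) (Fin 2 ⊕ Fin 2) (ZMod 5)) ^ 2) *ᵥ e)} ≤ 2 * N) :
    Nat.card (centralizer ({pr a} : Set (Cfsg.PSp 2 (ZMod 5)))) ≤ N := by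
  classical
  -- representatives
  have hrep : ∀ x : centralizer ({pr a} : Set (Cfsg.PSp 2 (ZMod 5))), ∃ b : Sp, pr b = x ∧
      (b : Matrix (Fin 2 ⊕ Fin 2) (Fin 2 ⊕ Fin 2) (ZMod 5)) * a = a * b := by
    intro x
    obtain ⟨b, hb⟩ := QuotientGroup.mk_surjective (x : Cfsg.PSp 2 (ZMod 5))
    refine ⟨b, hb, pr_comm ?_ hn ha⟩
    have h1 := mem_centralizer_singleton_iff.1 x.2
    rw [← hb] at h1
    exact h1.symm
  choose B hB hBa using hrep
  -- commuting matrices are determined by the image of `e`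
  have hinj : ∀ b b' : Matrix (Fin 2 ⊕ Fin 2) (Fin 2 ⊕ Fin 2) (ZMod 5), Commute b a → Commute b' a →
      b *ᵥ e = b' *ᵥ e → b = b' := by
    intro b b' hb hb' hbb
    have key : ∀ d : Matrix (Fin 2 ⊕ Fin 2) (Fin 2 ⊕ Fin 2) (ZMod 5), Commute d a → ∀ j,
        d *ᵥ Pi.single j 1 = (∑ i : Fin 4, c j i • (a : Matrix (Fin 2 ⊕ Fin 2) (Fin 2 ⊕ Fin 2) (ZMod 5)) ^ (i : ℕ)) *ᵥ
          (d *ᵥ e) := by
      intro d hd j
      have hd' : Commute d (∑ i : Fin 4, c j i • (a : Matrix (Fin 2 ⊕ Fin 2) (Fin 2 ⊕ Fin 2) (ZMod 5)) ^ (i : ℕ)) :=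
        Commute.sum_right _ _ _ fun i _ => (hd.pow_right _).smul_right _
      rw [← hc j, Matrix.mulVec_mulVec, Matrix.mulVec_mulVec, hd'.eq]
    ext i j
    have h1 := congrFun ((key b hb j).trans ((congrArg _ hbb).trans (key b' hb' j).symm)) i
    rw [Matrix.mulVec_single_one, Matrix.mulVec_single_one] at h1
    exact h1
  have hcond : ∀ (b : Sp) (k : ℕ), Commute (b : Matrix (Fin 2 ⊕ Fin 2) (Fin 2 ⊕ Fin 2) (ZMod 5)) a →
      ((b : Matrix (Fin 2 ⊕ Fin 2) (Fin 2 ⊕ Fin 2) (ZMod 5)) *ᵥ e) ⬝ᵥ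
        ((J (Fin 2) (ZMod 5) * (a : Matrix (Fin 2 ⊕ Fin 2) (Fin 2 ⊕ Fin 2) (ZMod 5)) ^ k) *ᵥ
          ((b : Matrix (Fin 2 ⊕ Fin 2) (Fin 2 ⊕ Fin 2) (ZMod 5)) *ᵥ e)) =
        e ⬝ᵥ ((J (Fin 2) (ZMod 5) * (a : Matrix (Fin 2 ⊕ Fin 2) (Fin 2 ⊕ Fin 2) (ZMod 5)) ^ k) *ᵥ e) := by
    intro b k hb
    have h1 : (b : Matrix (Fin 2 ⊕ Fin 2) (Fin 2 ⊕ Fin 2) (ZMod 5))ᵀ * J (Fin 2) (ZMod 5) * b = J (Fin 2) (ZMod 5) :=
      SymplecticGroup.mem_iff'.1 b.2
    have h2 : (b : Matrix (Fin 2 ⊕ Fin 2) (Fin 2 ⊕ Fin 2) (ZMod 5))ᵀ *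
        (J (Fin 2) (ZMod 5) * (a : Matrix (Fin 2 ⊕ Fin 2) (Fin 2 ⊕ Fin 2) (ZMod 5)) ^ k) * b =
        J (Fin 2) (ZMod 5) * (a : Matrix (Fin 2 ⊕ Fin 2) (Fin 2 ⊕ Fin 2) (ZMod 5)) ^ k := by
      rw [mul_assoc, mul_assoc, ← (hb.pow_right k).eq, ← mul_assoc, ← mul_assoc, h1]
    conv_rhs => rw [← h2, ← Matrix.mulVec_mulVec, ← Matrix.mulVec_mulVec, Matrix.dotProduct_mulVec,
      Matrix.vecMul_transpose]
  -- the signs
  obtain ⟨s, hs⟩ : ∃ s : Bool → Sp, ∀ t, (s t : Matrix (Fin 2 ⊕ Fin 2) (Fin 2 ⊕ Fin 2) (ZMod 5)) =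
      if t then 1 else -1 := by
    refine ⟨fun t => if t then 1 else ⟨-1, SymplecticGroup.mem_iff.2 (by simp)⟩, fun t => ?_⟩
    cases t <;> simp only [_root_.Bool.false_eq_true, ↓ _root_.reduceIte, _root_.OneMemClass.coe_one]
  have hsB : ∀ t x, Commute ((s t * B x : Sp) : Matrix (Fin 2 ⊕ Fin 2) (Fin 2 ⊕ Fin 2) (ZMod 5)) a := by
    intro t x
    have h1 : Commute (B x : Matrix (Fin 2 ⊕ Fin 2) (Fin 2 ⊕ Fin 2) (ZMod 5)) a := hBa x
    rw [Submonoid.coe_mul, hs]
    cases t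
    · simpa using h1.neg_left
    · simpa using h1
  have h1 : ∀ z : centralizer ({pr a} : Set (Cfsg.PSp 2 (ZMod 5))) × Bool, _ := fun z =>
    And.intro (by simpa only [pow_one] using hcond _ 1 (hsB z.2 z.1)) (hcond _ 2 (hsB z.2 z.1))
  have h2 := Nat.card_le_card_of_injective (β := {w : Fin 2 ⊕ Fin 2 → ZMod 5 //
      w ⬝ᵥ ((J (Fin 2) (ZMod 5) * (a : Matrix (Fin 2 ⊕ Fin 2) (Fin 2 ⊕ Fin 2) (ZMod 5))) *ᵥ w) =
        e ⬝ᵥ ((J (Fin 2) (ZMod 5) * (a : Matrix (Fin 2 ⊕ Fin 2) (Fin 2 ⊕ Fin 2) (ZMod 5))) *ᵥ e) ∧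
      w ⬝ᵥ ((J (Fin 2) (ZMod 5) * (a : Matrix (Fin 2 ⊕ Fin 2) (Fin 2 ⊕ Fin 2) (ZMod 5)) ^ 2) *ᵥ w) =
        e ⬝ᵥ ((J (Fin 2) (ZMod 5) * (a : Matrix (Fin 2 ⊕ Fin 2) (Fin 2 ⊕ Fin 2) (ZMod 5)) ^ 2) *ᵥ e)})
    (fun z : centralizer ({pr a} : Set (Cfsg.PSp 2 (ZMod 5))) × Bool =>
    ⟨((s z.2 * B z.1 : Sp) : Matrix (Fin 2 ⊕ Fin 2) (Fin 2 ⊕ Fin 2) (ZMod 5)) *ᵥ e, h1 z⟩) ?_
  · rw [Nat.card_prod, Nat.card_eq_fintype_card (α := Bool), Fintype.card_bool, Nat.card_eq_fintype_card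
      (α := {w : Fin 2 ⊕ Fin 2 → ZMod 5 // _})] at h2
    have h3 := h2.trans hN
    omega
  · intro z z' hzz
    have h3 : s z.2 * B z.1 = s z'.2 * B z'.1 :=
      Subtype.ext (hinj _ _ (hsB _ _) (hsB _ _) (congrArg Subtype.val hzz))
    have hsc : ∀ t, pr (s t) = 1 := by
      intro t
      rw [QuotientGroup.eq_one_iff, Subgroup.mem_center_iff]
      intro g
      apply Subtype.ext
      rw [Submonoid.coe_mul, Submonoid.coe_mul, hs]
      cases t <;> simp
    have h4 : (z.1 : Cfsg.PSp 2 (ZMod 5)) = z'.1 := by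
      have h5 : pr (s z.2) * pr (B z.1) = pr (s z'.2) * pr (B z'.1) := congrArg pr h3
      rw [hsc, hsc, one_mul, one_mul] at h5
      rw [← hB, ← hB]
      exact h5
    have h5 : z.1 = z'.1 := Subtype.ext h4
    rw [h5, mul_left_inj] at h3
    refine Prod.ext h5 ?_
    generalize z.2 = t at h3 ⊢
    generalize z'.2 = t' at h3 ⊢
    have h6 : (s t : Matrix (Fin 2 ⊕ Fin 2) (Fin 2 ⊕ Fin 2) (ZMod 5)) (Sum.inl 0) (Sum.inl 0) =
      (s t' : Matrix (Fin 2 ⊕ Fin 2) (Fin 2 ⊕ Fin 2) (ZMod 5)) (Sum.inl 0) (Sum.inl 0) := by rw [h3]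
    rw [hs, hs] at h6
    cases t <;> cases t'
    · rfl
    · exact absurd h6 (by decide)
    · exact absurd h6 (by decide)
    · rfl

/-! ### the elements -/

/-- order 13 -/
def z : Sp := ⟨zM, SymplecticGroup.mem_iff.2 z_mem⟩
/-- acting on `⟨z⟩` -/
def g : Sp := ⟨gM, SymplecticGroup.mem_iff.2 g_mem⟩
/-- regular unipotent -/
def y : Sp := ⟨yM, SymplecticGroup.mem_iff.2 y_mem⟩
/-- inverting `y` -/
def b : Sp := ⟨bM, SymplecticGroup.mem_iff.2 b_mem⟩

theorem ez : ∀ j, (∑ i : Fin 4, (Sum.elim ![![1, 0, 0, 0], ![0, 0, 1, 3]] ![![2, 1, 2, 1], ![0, 1, 3, 0]] : Fin 2 ⊕ Fin 2 → Fin 4 → ZMod 5) j i • zM ^ (i : ℕ)) *ᵥ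
    Sum.elim ![1, 0] ![0, 0] = Pi.single j 1 := by decide +kernel

theorem ey : ∀ j, (∑ i : Fin 4, (Sum.elim ![![1, 3, 4, 2], ![1, 0, 0, 0]] ![![3, 2, 4, 1], ![4, 3, 2, 1]] : Fin 2 ⊕ Fin 2 → Fin 4 → ZMod 5) j i • yM ^ (i : ℕ)) *ᵥ
    Sum.elim ![0, 1] ![0, 0] = Pi.single j 1 := by decide +kernel

theorem nz : Fintype.card {w : Fin 2 ⊕ Fin 2 → ZMod 5 //
      w ⬝ᵥ ((J (Fin 2) (ZMod 5) * zM) *ᵥ w) =
        (Sum.elim ![1, 0] ![0, 0] : Fin 2 ⊕ Fin 2 → ZMod 5) ⬝ᵥ ((J (Fin 2) (ZMod 5) * zM) *ᵥ Sum.elim ![1, 0] ![0, 0]) ∧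
      w ⬝ᵥ ((J (Fin 2) (ZMod 5) * zM ^ 2) *ᵥ w) =
        (Sum.elim ![1, 0] ![0, 0] : Fin 2 ⊕ Fin 2 → ZMod 5) ⬝ᵥ
          ((J (Fin 2) (ZMod 5) * zM ^ 2) *ᵥ Sum.elim ![1, 0] ![0, 0])} ≤ 2 * 13 := by
  (refine of_decide_eq_true ?_; (try (rewrite [Cfsg.Agent.LsF.f1cb3ae_1.2, Cfsg.Agent.LsF.mpow_pat, Cfsg.Agent.LsF.nmul_pat, Cfsg.Agent.LsF.vecCons_eq, Cfsg.Agent.LsF.zdecEq_eq, Cfsg.Agent.LsF.finFintype_eq, Cfsg.Agent.LsF.zFintype_eq, Cfsg.Agent.LsF.tcard_eq, Cfsg.Agent.LsF.dot_eq, Cfsg.Agent.LsF.instMHMul_eq, Cfsg.Agent.LsF.mulVec_eq, Cfsg.Agent.LsF.instZMul_pat, Cfsg.Agent.LsF.zACM_pat, Cfsg.Agent.LsF.decLe_eq, Cfsg.Agent.LsF.dAnd_eq, Cfsg.Agent.LsF.dFinEq_eq, Cfsg.Agent.LsF.decide_eq])); decide +kernel)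

private noncomputable def _root_.Cfsg.Agent.LsF.f1cb3ae_2 : {f // @Cfsg.Agent.H245.OZ.SpFive.yM = f} := ⟨_, by first | (delta Cfsg.Agent.H245.OZ.SpFive.yM; rewrite [Cfsg.Agent.LsF.f1cb3ae_0.2]; exact rfl) | exact rfl⟩
theorem ny : Fintype.card {w : Fin 2 ⊕ Fin 2 → ZMod 5 //
      w ⬝ᵥ ((J (Fin 2) (ZMod 5) * yM) *ᵥ w) =
        (Sum.elim ![0, 1] ![0, 0] : Fin 2 ⊕ Fin 2 → ZMod 5) ⬝ᵥ ((J (Fin 2) (ZMod 5) * yM) *ᵥ Sum.elim ![0, 1] ![0, 0]) ∧
      w ⬝ᵥ ((J (Fin 2) (ZMod 5) * yM ^ 2) *ᵥ w) =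
        (Sum.elim ![0, 1] ![0, 0] : Fin 2 ⊕ Fin 2 → ZMod 5) ⬝ᵥ
          ((J (Fin 2) (ZMod 5) * yM ^ 2) *ᵥ Sum.elim ![0, 1] ![0, 0])} ≤ 2 * 25 := by
  (refine of_decide_eq_true ?_; (try (rewrite [Cfsg.Agent.LsF.f1cb3ae_2.2, Cfsg.Agent.LsF.mpow_pat, Cfsg.Agent.LsF.nmul_pat, Cfsg.Agent.LsF.vecCons_eq, Cfsg.Agent.LsF.zdecEq_eq, Cfsg.Agent.LsF.finFintype_eq, Cfsg.Agent.LsF.zFintype_eq, Cfsg.Agent.LsF.tcard_eq, Cfsg.Agent.LsF.dot_eq, Cfsg.Agent.LsF.instMHMul_eq, Cfsg.Agent.LsF.mulVec_eq, Cfsg.Agent.LsF.instZMul_pat, Cfsg.Agent.LsF.zACM_pat, Cfsg.Agent.LsF.decLe_eq, Cfsg.Agent.LsF.dAnd_eq, Cfsg.Agent.LsF.dFinEq_eq, Cfsg.Agent.LsF.decide_eq])); decide +kernel)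

theorem pr_pow (a : Sp) (n : ℕ) : pr a ^ n = pr (a ^ n) := rfl

theorem z_pow : z ^ 13 = 1 := Subtype.ext z13
theorem y_pow : y ^ 5 = 1 := Subtype.ext y5

theorem pr_z_ne : pr z ≠ 1 := by
  intro h
  rw [QuotientGroup.eq_one_iff] at h
  exact z1 (congrArg Subtype.val (Subgroup.mem_center_iff.1 h y)).symm

theorem pr_y_ne : pr y ≠ 1 := by
  intro h
  rw [QuotientGroup.eq_one_iff] at h
  exact z1 (congrArg Subtype.val (Subgroup.mem_center_iff.1 h z))

theorem pr_g_ne : pr g ^ 2 ≠ 1 := by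
  intro h
  rw [pr_pow, QuotientGroup.eq_one_iff] at h
  exact g2 (congrArg Subtype.val (Subgroup.mem_center_iff.1 h y)).symm

theorem pr_g_pow : pr g ^ 4 = 1 := by
  rw [pr_pow, QuotientGroup.eq_one_iff, Subgroup.mem_center_iff]
  intro t
  apply Subtype.ext
  rw [Submonoid.coe_mul, Submonoid.coe_mul, SubmonoidClass.coe_pow,
    show (g : Matrix (Fin 2 ⊕ Fin 2) (Fin 2 ⊕ Fin 2) (ZMod 5)) ^ 4 = -1 from g4]
  simp

theorem orderOf_z : orderOf (pr z) = 13 :=
  haveI : Fact (Nat.Prime 13) := ⟨by norm_num⟩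
  orderOf_eq_prime (by rw [pr_pow, z_pow]; rfl) pr_z_ne

theorem orderOf_y : orderOf (pr y) = 5 :=
  orderOf_eq_prime (by rw [pr_pow, y_pow]; rfl) pr_y_ne

theorem orderOf_g : orderOf (pr g) = 4 :=
  orderOf_eq_prime_pow (p := 2) (n := 1) (by simpa only [_root_.pow_one, _root_.ne_eq] using pr_g_ne) (by simpa only [_root_.Nat.reduceAdd, _root_.Nat.reducePow] using pr_g_pow)

theorem orderOf_g2 : orderOf (pr g ^ 2) = 2 :=
  orderOf_eq_prime (by rw [← pow_mul]; exact pr_g_pow) pr_g_ne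

theorem conj_z : pr g * pr z * (pr g)⁻¹ = pr z ^ 5 := by
  rw [mul_inv_eq_iff_eq_mul, pr_pow]
  exact congrArg pr (Subtype.ext (a1 := g * z) (a2 := z ^ 5 * g) gz)

theorem conj_z2 : pr g ^ 2 * pr z * (pr g ^ 2)⁻¹ = pr z ^ 25 := by
  rw [pow_two, _root_.mul_inv_rev]
  calc pr g * pr g * pr z * ((pr g)⁻¹ * (pr g)⁻¹) = pr g * (pr g * pr z * (pr g)⁻¹) * (pr g)⁻¹ := by group
    _ = pr g * pr z ^ 5 * (pr g)⁻¹ := by rw [conj_z]
    _ = (pr g * pr z * (pr g)⁻¹) ^ 5 := conj_pow.symm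
    _ = pr z ^ 25 := by rw [conj_z, ← pow_mul]

theorem conj_y : IsConj (pr y) (pr y ^ 4) := by
  refine isConj_iff.2 ⟨pr b, ?_⟩
  rw [mul_inv_eq_iff_eq_mul, pr_pow]
  exact congrArg pr (Subtype.ext (a1 := b * y) (a2 := y ^ 4 * b) by')

theorem cent_z : Nat.card (centralizer ({pr z} : Set (Cfsg.PSp 2 (ZMod 5)))) ≤ 13 :=
  cent_le (n := 13) (by decide) z_pow _ _ ez nz

theorem cent_y : Nat.card (centralizer ({pr y} : Set (Cfsg.PSp 2 (ZMod 5)))) ≤ 25 :=
  cent_le (n := 5) (by decide) y_pow _ _ ey ny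

end Cfsg.Agent.H245.OZ.SpFive
end

-- part: H245/OZ/Norm
section
/-!
# S4842: degrees smaller than an isolated prime (helper245)

`z` of prime order `p ≥ 7`, `p ∥ |G|`, `|C(z)| = p`, `χ` with exactly one class of zeros (the class of `x`).

* `iso_val` : `χ (z ^ i) = ε = ± 1` for all `z ^ i ≠ 1`;
* `apply_eq_zero` : if the sum of `χ` over `⟨z⟩` vanishes, then `χ g = 0` for all `g` with `g z g⁻¹ = z ^ k ≠ z`;
* `deg_ne` : the degree `p - 1` is impossible if `N(⟨z⟩)` contains non conjugate elements `g`, `g'` outside `C(z)`.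
-/

set_option autoImplicit false
set_option linter.unusedSectionVars false

namespace Cfsg.Agent.H245.OZ

open Cfsg Subgroup
open Cfsg.Agent.Characters.Core Cfsg.Agent.Characters.Linear
open Cfsg.Agent.SmallSimple.ThetaSetup Cfsg.Agent.SmallSimple.ThetaOrtho Cfsg.Agent.SmallSimple.ThetaCount
open Cfsg.Agent.SmallSimple.TheoremC Cfsg.Agent.SmallSimple.TheoremCCor
open Cfsg.Agent.H732.VZ (One)
open Cfsg.Agent.H849.OZ

universe u

variable {G : Type u} [Group G] [Finite G]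

/-- an idempotent up to a scalar, of trace zero, vanishes -/
theorem eq_zero_of_trace {V : Type*} [AddCommGroup V] [Module ℂ V] [FiniteDimensional ℂ V] {T : V →ₗ[ℂ] V} {p : ℂ}
    (hp : p ≠ 0) (hT : T * T = p • T) (h0 : LinearMap.trace ℂ V T = 0) : T = 0 := by
  have h1 : IsIdempotentElem (p⁻¹ • T) := by
    unfold IsIdempotentElem
    rw [smul_mul_smul_comm, hT, smul_smul]
    congr 1
    field_simp
  have h2 := (LinearMap.IsIdempotentElem.isProj_range _ h1).trace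
  rw [map_smul, h0, smul_zero] at h2
  have h3 : Module.finrank ℂ (LinearMap.range (p⁻¹ • T)) = 0 := by exact_mod_cast h2.symm
  rw [Submodule.finrank_eq_zero, LinearMap.range_eq_bot] at h3
  rcases smul_eq_zero.1 h3 with h4 | h4
  · exact absurd h4 (inv_ne_zero hp)
  · exact h4

/-- the values at the elements normalising `⟨z⟩` -/
theorem apply_eq_zero (χ : IrrCharacter G) {z g : G} {p k : ℕ} (hp : p.Prime) (hz : orderOf z = p)
    (hg : g * z * g⁻¹ = z ^ k) (hk : ¬ k ≡ 1 [MOD p]) (h0 : ∑ i ∈ Finset.range p, (χ : G → ℂ) (z ^ i) = 0) :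
    (χ : G → ℂ) g = 0 := by
  classical
  have hF : Fact p.Prime := ⟨hp⟩
  have hcf := isIrr_isClassFunction χ.2
  obtain ⟨n, ρ, hρ, hχ⟩ := χ.2
  obtain ⟨T, hT⟩ : ∃ T, T = ∑ i ∈ Finset.range p, ρ (z ^ i) := ⟨_, rfl⟩
  have hzT : ρ z * T = T := by
    rw [hT, Finset.mul_sum]
    have h1 : ∀ i ∈ Finset.range p, ρ z * ρ (z ^ i) = ρ (z ^ (i + 1)) := fun i _ => by rw [← map_mul, pow_succ']
    rw [Finset.sum_congr rfl h1]
    have h2 := Finset.sum_range_succ (fun i => ρ (z ^ i)) p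
    have h3 := Finset.sum_range_succ' (fun i => ρ (z ^ i)) p
    have h4 : z ^ p = 1 := by rw [← hz, pow_orderOf_eq_one]
    rw [h2, h4, pow_zero] at h3
    exact (add_right_cancel h3).symm
  have hzTi : ∀ i : ℕ, ρ (z ^ i) * T = T := by
    intro i
    induction i with
    | zero => rw [pow_zero, map_one, one_mul]
    | succ i ih => rw [pow_succ, map_mul, mul_assoc, hzT, ih]
  have hTT : T * T = (p : ℂ) • T := by
    conv_lhs => rw [hT, Finset.sum_mul]
    rw [← hT, Finset.sum_congr rfl fun i _ => hzTi i, Finset.sum_const, Finset.card_range, Nat.cast_smul_eq_nsmul]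
  have htr : LinearMap.trace ℂ _ T = 0 := by
    rw [hT, map_sum, ← h0, ← hχ]
    rfl
  have hT0 := eq_zero_of_trace (by exact_mod_cast hp.ne_zero) hTT htr
  -- the translates
  have hconj : ∀ i : ℕ, (χ : G → ℂ) (z ^ i * g) = (χ : G → ℂ) g := by
    intro i
    have hk1 : (1 - k : ZMod p) ≠ 0 := by
      intro h1
      apply hk
      rw [← ZMod.natCast_eq_natCast_iff, Nat.cast_one]
      exact (sub_eq_zero.1 h1).symm
    obtain ⟨j, hj⟩ : ∃ j : ℕ, (j : ZMod p) = (i : ZMod p) * (1 - k : ZMod p)⁻¹ :=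
      ⟨((i : ZMod p) * (1 - k : ZMod p)⁻¹).val, ZMod.natCast_zmod_val _⟩
    have h1 : z ^ j = z ^ (i + k * j) := by
      rw [pow_eq_pow_iff_modEq, hz, ← ZMod.natCast_eq_natCast_iff]
      push_cast
      have h2 : (i : ZMod p) = j * (1 - k) := by rw [hj, mul_assoc, inv_mul_cancel₀ hk1, mul_one]
      rw [h2]
      ring
    have h2 : g * (z ^ j) * g⁻¹ = z ^ (k * j) := by rw [← conj_pow, hg, pow_mul]
    have h3 : g * (z ^ j)⁻¹ = (z ^ (k * j))⁻¹ * g := by
      rw [← h2]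
      group
    have h4 : z ^ j * g * (z ^ j)⁻¹ = z ^ i * g := by
      rw [mul_assoc, h3, ← mul_assoc]
      congr 1
      rw [h1, pow_add, mul_inv_cancel_right]
    rw [← h4]
    exact hcf g (z ^ j)
  have h1 : ∑ i ∈ Finset.range p, (χ : G → ℂ) (z ^ i * g) = 0 := by
    have h2 : ∑ i ∈ Finset.range p, (χ : G → ℂ) (z ^ i * g) = LinearMap.trace ℂ _ (T * ρ g) := by
      rw [hT, Finset.sum_mul, map_sum, ← hχ]
      refine Finset.sum_congr rfl fun i _ => ?_
      rw [← map_mul]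
      rfl
    rw [h2, hT0, zero_mul, map_zero]
  rw [Finset.sum_congr rfl fun i _ => hconj i, Finset.sum_const, Finset.card_range, nsmul_eq_mul] at h1
  exact (mul_eq_zero.1 h1).resolve_left (by exact_mod_cast hp.ne_zero)

/-- **The values at the elements of an isolated prime order.** -/
theorem iso_val [IsSimpleGroup G] {p : ℕ} (hp : p.Prime) (h7 : 7 ≤ p) (hsq : ¬ p ^ 2 ∣ Nat.card G)
    (hG : Nat.card G ≠ p) {z : G} (hz : orderOf z = p)
    (hC : Nat.card (centralizer ({z} : Set G)) = p) {χ : IrrCharacter G} {x : G} (h : _root_.Cfsg.Agent.H732.VZ.One χ x)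
    (h4 : 4 ≤ Nat.card (centralizer ({x} : Set G))) (hx : ¬ p ∣ orderOf x) :
    ∃ ε : ℤ, (ε = 1 ∨ ε = -1) ∧ (∀ i : ℕ, ¬ p ∣ i → (χ : G → ℂ) (z ^ i) = ε) ∧
      ∃ k : ℤ, (charDegree (χ : G → ℂ) : ℤ) = ε + p * k := by
  classical
  have hF : Fact p.Prime := ⟨hp⟩
  obtain ⟨P, hPz, hP⟩ := exists_sylow hp hsq hz
  obtain ⟨K, hK⟩ := exists_isComp P hP
  have hzP : z ∈ (P : Subgroup G) := by rw [hPz]; exact mem_zpowers z
  have hz1 : z ≠ 1 := by
    rintro rfl
    rw [orderOf_one] at hz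
    exact hp.one_lt.ne hz
  have hK1 : Nat.card K = 1 := by
    have h1 := Cfsg.Agent.H849.OZ.card_centralizer hK hP
    rw [← Blocks.CyclicOrtho.centralizer_eq P hP hzP hz1, hC] at h1
    have h2 := hp.pos
    nlinarith only [h7, h1]
  have hsub : Subsingleton K := (Nat.card_eq_one_iff_unique.1 hK1).1
  have hd : p ∣ Nat.card G := hz ▸ _root_.orderOf_dvd_natCard z
  have hw2 := normalizer_ne hd hG (P := P) rfl
  obtain ⟨θ, ε, hε, hval, ⟨k, hk⟩, hc⟩ := five hK hP h hx rfl (fun e t het ht he => arith h4 h7 hw2 het ht he)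
  have h1 : orb P K (θ : K → ℂ) = {θ} := by
    have hmem : θ ∈ orb P K (θ : K → ℂ) := mem_orb.2 ⟨1, one_mem _, tw_one _⟩
    have h2 := card_orb_of_conj hK (fun y y' _ => by rw [Subsingleton.elim y y']) θ
    exact Finset.eq_singleton_iff_unique_mem.2 ⟨hmem, fun θ' hθ' => Finset.card_le_one.1 h2 _ hθ' _ hmem⟩
  have h3 : (θ : K → ℂ) 1 = 1 := by
    refine deg_one_of_no_zero θ fun a ha => ?_
    rw [Subsingleton.elim a 1, ← Cfsg.Agent.H686.CharKit.charDegree_irr θ] at ha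
    exact (Cfsg.Agent.H604.OZ.deg_pos θ).ne' (by exact_mod_cast ha)
  refine ⟨ε, hε, fun i hi => ?_, k, ?_⟩
  · have h5 : z ^ i ∈ (P : Subgroup G) := Subgroup.pow_mem _ hzP i
    have h6 : z ^ i ≠ 1 := by
      intro h6
      exact hi (hz ▸ orderOf_dvd_of_pow_eq_one h6)
    have h7 := hval _ h5 h6 1
    rw [OneMemClass.coe_one, mul_one, h1, Finset.sum_singleton, h3, mul_one] at h7
    exact h7
  · rw [h1, Finset.sum_singleton, h3, mul_one] at hk
    have h8 := Cfsg.Agent.H686.CharKit.charDegree_irr χ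
    rw [hk] at h8
    exact_mod_cast h8

/-- **The degree `p - 1`**, `p` an isolated prime: it is impossible if two non conjugate elements act nontrivially
on `⟨z⟩`. -/
theorem deg_ne [IsSimpleGroup G] {p : ℕ} (hp : p.Prime) (h7 : 7 ≤ p) (hsq : ¬ p ^ 2 ∣ Nat.card G)
    (hG : Nat.card G ≠ p) {z : G} (hz : orderOf z = p)
    (hC : Nat.card (centralizer ({z} : Set G)) = p) {χ : IrrCharacter G} {x : G} (h : _root_.Cfsg.Agent.H732.VZ.One χ x)
    (h4 : 4 ≤ Nat.card (centralizer ({x} : Set G))) {g g' : G} {k k' : ℕ} (hg : g * z * g⁻¹ = z ^ k)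
    (hk : ¬ k ≡ 1 [MOD p]) (hg' : g' * z * g'⁻¹ = z ^ k') (hk' : ¬ k' ≡ 1 [MOD p]) (hgg : ¬ IsConj g g') :
    charDegree (χ : G → ℂ) + 1 ≠ p := by
  intro hdeg
  have hx : ¬ p ∣ orderOf x := by
    intro hx
    have h1 := (iso_sing hp hsq hz hC h hx).1
    have h2 := Cfsg.Agent.H604.OZ.deg_pos χ
    have h3 := Nat.le_of_dvd h2 h1
    omega
  obtain ⟨ε, hε, hval, k₀, hk₀⟩ := iso_val hp h7 hsq hG hz hC h h4 hx
  have hε1 : ε = -1 := by
    rcases hε with rfl | rfl
    · exfalso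
      have h1 : (p : ℤ) ∣ 2 := by
        refine ⟨1 - k₀, ?_⟩
        have h2 : ((charDegree (χ : G → ℂ) : ℤ)) + 1 = p := by exact_mod_cast hdeg
        linarith only [hdeg, hk₀]
      have h2 := Int.le_of_dvd (by norm_num) h1
      have h3 : (7 : ℤ) ≤ p := by exact_mod_cast h7
      linarith only [h7, h2]
    · rfl
  have h0 : ∑ i ∈ Finset.range p, (χ : G → ℂ) (z ^ i) = 0 := by
    obtain ⟨m, rfl⟩ : ∃ m, p = m + 1 := ⟨p - 1, by omega⟩
    rw [Finset.sum_range_succ', pow_zero]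
    rw [Finset.sum_congr rfl (g := fun _ => (-1 : ℂ)) fun i hi => ?_]
    · rw [Finset.sum_const, Finset.card_range, nsmul_eq_mul]
      have h1 := Cfsg.Agent.H686.CharKit.charDegree_irr χ
      rw [← h1]
      have h2 : charDegree (χ : G → ℂ) = m := by omega
      rw [h2]
      ring
    · rw [hval (i + 1) (fun h1 => ?_), hε1]
      · simp
      · have h2 := Nat.le_of_dvd (Nat.succ_pos i) h1
        have h3 := Finset.mem_range.1 hi
        omega
  have h1 := apply_eq_zero χ hp hz hg hk h0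
  have h2 := apply_eq_zero χ hp hz hg' hk' h0
  exact hgg ((h.uniq g h1).symm.trans (h.uniq g' h2))

end Cfsg.Agent.H245.OZ
end

-- part: H245/OZ/SpFiveRow
section
/-!
# S4842: `PSp₄(5)` (helper245)

`|G| = 2⁶ 3² 5⁴ 13`, `c = |C(x)| ≥ 4`, `d = χ(1)`. The prime 13 is isolated: `d = ± 1` modulo 13. If `5 ∣ d`, the two
Galois conjugate classes of regular unipotent elements (`|C(y)| = 25`) give `8 c ≤ 25`. The only degree prime to 5 left
is `12 = 13 - 1`; but a character of degree 12 vanishes at the elements of order 4 and 2 normalising `⟨z⟩`, `z` of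
order 13.
-/

set_option autoImplicit false
set_option maxRecDepth 100000

open Cfsg Cfsg.Agent.Characters Cfsg.Agent.H732.VZ Cfsg.Agent.H604.OZ

namespace Cfsg.Agent.H245.OZ

open SpFive

universe u

theorem card_sp5 : Nat.card (PSp 2 (ZMod 5)) = 4680000 := by
  have h1 := S0245.result (F := ZMod 5) (q := 5) (ZMod.card 5) 2
  have h2 := S0246.result (F := ZMod 5) (q := 5) (ZMod.card 5) 2 (by norm_num)
  have h3 := Subgroup.card_eq_card_quotient_mul_card_subgroup
    (Subgroup.center (Matrix.symplecticGroup (Fin 2) (ZMod 5)))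
  rw [h1, h2, Finset.prod_range_succ, Finset.prod_range_succ, Finset.prod_range_zero] at h3
  norm_num at h3
  change 9360000 = Nat.card (PSp 2 (ZMod 5)) * 2 at h3
  omega

/-- the row from the class facts -/
theorem row_of_facts {G : Type u} [Group G] [Finite G] [IsSimpleGroup G] (hN : Nat.card G = 4680000) {z g y : G}
    (hz : orderOf z = 13) (hCz : Nat.card (Subgroup.centralizer ({z} : Set G)) ≤ 13) (hg : orderOf g = 4)
    (hg2 : orderOf (g ^ 2) = 2) (hgz : g * z * g⁻¹ = z ^ 5) (hgz2 : g ^ 2 * z * (g ^ 2)⁻¹ = z ^ 25)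
    (hy : orderOf y = 5) (hCy : Nat.card (Subgroup.centralizer ({y} : Set G)) ≤ 25) (hy4 : IsConj y (y ^ 4)) :
    H730.OZ.Row G := by
  refine row_of fun χ x h => ?_
  have h4 : 4 ≤ cent x := four_le_cent h (by rw [hN]; norm_num) (by rw [hN]; norm_num)
  have hiso : ∀ r ∈ [13], charDegree (χ : G → ℂ) % r = 0 ∨
      charDegree (χ : G → ℂ) % r = 1 ∨ charDegree (χ : G → ℂ) % r = r - 1 := by
    intro r hr
    rw [List.mem_singleton] at hr
    subst hr
    exact H672.OZ.iso_mod_of h (by norm_num) (by norm_num) (by rw [hN]; norm_num) (by rw [hN]; norm_num)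
      hz hCz h4
  have hm := H672.OZ.mem_of_sieve4 h hN (l := [(2,6),(3,2),(5,4),(13,1)]) (by decide +kernel)
    (by
      intro x hx
      simp only [List.mem_cons, List.not_mem_nil, or_false] at hx
      rcases hx with rfl | rfl | rfl | rfl <;> norm_num)
    (by decide +kernel) h4 hiso (D := [12, 25, 40, 300, 480, 1000]) (by decide +kernel)
  -- the multiples of 5
  have key5 : 5 ∣ charDegree (χ : G → ℂ) → (cent x ≤ 9) → False := by
    intro h5 hc9
    have hxy : ¬ IsConj x y := by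
      intro hxy
      have h6 : orderOf x = 5 := (orderOf_eq_of_conj hxy).trans hy
      have h7 : 5 ∣ cent x := h6 ▸ Subgroup.orderOf_dvd_natCard _ (H672.OZ.mem_cent.2 rfl)
      have h8 : cent x = 5 := by
        obtain ⟨k, hk⟩ := h7
        omega
      refine cent_prime (ne_one h) (by rw [h8]; norm_num) ?_
      rw [h8, hN]
      norm_num
    have hcop : ∀ m : ℕ, m.Coprime (Nat.card G) → ¬ 5 ∣ m := by
      intro m hm h6
      have h7 : 5 ∣ Nat.card G := by rw [hN]; norm_num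
      exact absurd (Nat.dvd_gcd h6 h7) (by rw [hm]; norm_num)
    have hmod : ∀ m : ℕ, y ^ m = y ^ (m % 5) := fun m => by
      rw [← hy, pow_mod_orderOf]
    have h1or : ∀ m : ℕ, m.Coprime (Nat.card G) → IsConj (y ^ m) y ∨
        IsConj (y ^ m) (y ^ 7) := by
      intro m hm
      have h6 := hcop m hm
      have h7 : m % 5 = 1 ∨ m % 5 = 2 ∨ m % 5 = 3 ∨ m % 5 = 4 := by (clear * - h6; omega)
      rw [hmod m, hmod 7]
      rcases h7 with h7 | h7 | h7 | h7 <;> rw [h7]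
      · left; rw [pow_one]
      · right; rfl
      · right
        have h8 := H849.OZ.isConj_pow hy4 2
        rw [← pow_mul, hmod 8] at h8
        exact h8.symm
      · left; exact hy4.symm
    by_cases hyy : IsConj y (y ^ 7)
    · have h6 := H849.OZ.one_orb h (T := {1}) (y := y) (H849.OZ.galOrb_one fun m hm =>
        (h1or m hm).elim id fun h7 => h7.trans hyy.symm) (r := 5) (by norm_num) h5 ⟨1, by rw [hy, pow_one]⟩
        hxy (b := 25) (by norm_num) (by norm_num)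
      have h7 : (cent y : ℝ) ≤ 25 := by exact_mod_cast hCy
      have h8 : (4 : ℝ) ≤ cent x := by exact_mod_cast h4
      rw [Finset.card_singleton] at h6
      norm_num only [] at h6
      linarith only [h7, h8, h6]
    · have h6 := H849.OZ.one_orb h (T := {1, 7}) (y := y) (H849.OZ.galOrb_two (by rw [hN]; norm_num) hyy h1or)
        (r := 5) (by norm_num) h5 ⟨1, by rw [hy, pow_one]⟩ hxy (b := 5) (by norm_num) (by norm_num)
      have h7 : (cent y : ℝ) ≤ 25 := by exact_mod_cast hCy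
      have h8 : (4 : ℝ) ≤ cent x := by exact_mod_cast h4
      rw [show (({1, 7} : Finset ℕ).card) = 2 from rfl] at h6
      norm_num only [] at h6
      linarith only [h7, h8, h6]
  have h9 : ∀ d : ℕ, charDegree (χ : G → ℂ) = d → ¬ 9 ∣ d ^ 2 - 1 → cent x ≤ 9 := fun d hd h3 =>
    H672.OZ.cent_le_of h hN (r := 3) (n := 2) (by norm_num) hd (by norm_num) (by norm_num) h3
  simp only [List.mem_cons, List.not_mem_nil, or_false] at hm
  rcases hm with hd | hd | hd | hd | hd | hd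
  · refine deg_ne (p := 13) (by norm_num) (by norm_num) (by rw [hN]; norm_num) (by rw [hN]; norm_num) hz
      (H672.OZ.card_cent_eq hz hCz) h h4 (g := g) (g' := g ^ 2) hgz (by decide) hgz2 (by decide) ?_
      (by rw [hd])
    intro hc
    have := orderOf_eq_of_conj hc
    rw [hg, hg2] at this
    omega
  · exact key5 (by rw [hd]; norm_num) (h9 _ hd (by norm_num))
  · exact key5 (by rw [hd]; norm_num) (h9 _ hd (by norm_num))
  · exact key5 (by rw [hd]; norm_num) (h9 _ hd (by norm_num))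
  · exact key5 (by rw [hd]; norm_num) (h9 _ hd (by norm_num))
  · refine key5 (by rw [hd]; norm_num) ?_
    have h10 := cent_mul_le h
    rw [hd, hN] at h10
    omega

/-- **`PSp₄(5)`.** -/
theorem row_psp45 {S : Type u} [Group S] [Finite S] (hs : IsSimpleGroup S) {F : Type} [Field F] [Fintype F]
    (hF : Fintype.card F = 5) (e : S ≃* PSp 2 F) : H730.OZ.Row S := by
  let f : S ≃* PSp 2 (ZMod 5) := e.trans (Cfsg.Agent.LieClassical.FieldTransfer.pspCongr 2
    (FiniteField.ringEquivOfCardEq (K := F) (K' := ZMod 5) (by rw [hF, ZMod.card])))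
  have : IsSimpleGroup (PSp 2 (ZMod 5)) := MulEquiv.isSimpleGroup f.symm
  have : Finite (PSp 2 (ZMod 5)) := Finite.of_equiv _ f.toEquiv
  exact H730.OZ.Row.congr f (row_of_facts card_sp5 orderOf_z cent_z orderOf_g orderOf_g2 conj_z conj_z2 orderOf_y
    cent_y conj_y)

end Cfsg.Agent.H245.OZ
end

-- part: H933/OZ/Psp43
section
/-!
# S4842: the row `PSp_4(3)` (helper933)
-/

set_option autoImplicit false

namespace Cfsg.Agent.H933.OZ.U42

open Cfsg

universe u

/-- **`PSp_4(3)`** -/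
theorem row_psp43 {S : Type u} [Group S] [Finite S] {F : Type} [Field F] [Fintype F]
    (hF : Fintype.card F = 3) (e : S ≃* PSp 2 F) : H730.OZ.Row S := by
  obtain ⟨f⟩ := S0822.result (F := SporadicA.FieldFour.F4) (K := F) rfl hF
  exact row_u42 (F := SporadicA.FieldFour.F4) rfl (e.trans f.symm)

end Cfsg.Agent.H933.OZ.U42
end

-- part: H890/OZ/SpTen
section
/-!
# `Sp₁₀(2)`: elements of order 31, 11, 17 and their centralizers (helper890, for the row `PSp₁₀(2)` of S4842)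

Vectors of `F₂¹⁰` are coded by natural numbers below 1024, matrices by the list of the codes of their rows; `par` is the
parity of the number of the bits (a table).  `mulVec_dec`, `mul_tr` : products by codes; `chk` : the forms `J Y ^ i`.

* `card_sp` : `|Sp₁₀(2)|`;  `equiv` : `PSp₁₀(F) ≃* Sp₁₀(2)`, `|F| = 2`;
* `cent31` : `|C(e31)| ≤ 31`;  `cent11` : `|C(e11)| = 33`;  `cent17` : `|C(e17)| = 102`;
* `cls17` : elements of the same order prime to 17 of `C(e17)` are conjugate in `C(e17)`.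
-/

set_option autoImplicit false
set_option maxRecDepth 100000

namespace Cfsg.Agent.H890.OZ.SpT

open Matrix Cfsg.Agent.SporadicA.PermTab

/-- the index set -/
abbrev I10 : Type := Fin 5 ⊕ Fin 5

/-- index -/
def ix : I10 → ℕ
  | .inl i => i
  | .inr i => 5 + i

theorem ix_lt (i : I10) : ix i < 10 := by
  rcases i with i | i <;> simp [ix] <;> omega

theorem ix_surj {k : ℕ} (hk : k < 10) : ∃ i : I10, ix i = k := by
  rcases Nat.lt_or_ge k 5 with h | h
  · exact ⟨.inl ⟨k, h⟩, rfl⟩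
  · exact ⟨.inr ⟨k - 5, by omega⟩, by simp only [ix]; omega⟩

/-- evaluate the argument before going on -/
def force {α : Type} (n : ℕ) (k : ℕ → α) : α :=
  Nat.rec (motive := fun _ => α) (k 0) (fun m _ => k (Nat.succ m)) n

theorem force_eq {α : Type} (n : ℕ) (k : ℕ → α) : force n k = k n := by
  cases n <;> rfl

/-- the table of the parities -/
def T10 : ℕ := 0x6996966996696996966969966996966996696996699696696996966996696996966969966996966969969669966969966996966996696996966969966996966996696996699696696996966996696996699696699669699696696996699696696996966996696996966969966996966996696996699696696996966996696996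

/-- the parity of the number of the bits of `x < 1024` -/
def par (x : ℕ) : Bool := T10.testBit x

/-- a Boolean as an element of `F₂` -/
def bz (b : Bool) : ZMod 2 := cond b 1 0

theorem bz_inj : Function.Injective bz := by decide

theorem bz_and (a b : Bool) : bz (a && b) = bz a * bz b := by cases a <;> cases b <;> rfl

theorem par_zero : par 0 = false := by decide +kernel

private noncomputable def _root_.Cfsg.Agent.LsF.f1cb3ae_3 : {f // @Cfsg.Agent.H890.OZ.SpT.bz = f} := ⟨_, by first | (delta Cfsg.Agent.H890.OZ.SpT.bz; rewrite [Cfsg.Agent.LsF.cond_eq]; exact rfl) | exact rfl⟩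
private noncomputable def _root_.Cfsg.Agent.LsF.f1cb3ae_4 : {f // @Cfsg.Agent.H890.OZ.SpT.par = f} := ⟨_, by first | (delta Cfsg.Agent.H890.OZ.SpT.par; rewrite [Cfsg.Agent.LsF.testBit_eq]; exact rfl) | exact rfl⟩
private noncomputable def _root_.Cfsg.Agent.LsF.f1cb3ae_5 : {f // @Cfsg.Agent.H890.OZ.SpT.ix = f} := ⟨_, by first | (delta Cfsg.Agent.H890.OZ.SpT.ix; rewrite [Cfsg.Agent.LsF.nadd_pat]; (try delta Cfsg.Agent.H890.OZ.SpT.ix.match_1); (try delta Sum.casesOn); exact rfl) | exact rfl⟩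
theorem par_spec {x : ℕ} (hx : x < 1024) : bz (par x) = ∑ i : I10, bz (x.testBit (ix i)) := by
  have h : allB (fun x => decide (bz (par x) = ∑ i : I10, bz (x.testBit (ix i)))) 1024 = true := by ((try (rewrite [Cfsg.Agent.LsF.f1cb3ae_3.2, Cfsg.Agent.LsF.f1cb3ae_4.2, Cfsg.Agent.LsF.f1cb3ae_5.2, Cfsg.Agent.LsF.zdecEq_eq, Cfsg.Agent.LsF.finFintype_eq, Cfsg.Agent.LsF.fsum_eq, Cfsg.Agent.LsF.zACM_pat, Cfsg.Agent.LsF.testBit_eq, Cfsg.Agent.LsF.decide_eq])); decide +kernel)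
  exact of_decide_eq_true ((allB_iff _ _).1 h x hx)

/-- a vector from its code -/
def dec (a : ℕ) : I10 → ZMod 2 := fun i => bz (a.testBit (ix i))

theorem dot_dec {a : ℕ} (ha : a < 1024) (b : ℕ) : dec a ⬝ᵥ dec b = bz (par (a &&& b)) := by
  rw [par_spec (lt_of_le_of_lt Nat.and_le_left ha)]
  simp only [dotProduct, dec, Nat.testBit_and, bz_and]

/-- a matrix (list of rows) times a vector, codes -/
def mv : List ℕ → ℕ → ℕ
  | [], _ => 0
  | r :: l, a => Nat.add (cond (par (Nat.land r a)) 1 0) (Nat.mul 2 (mv l a))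

theorem mv_cons (r : ℕ) (l : List ℕ) (a : ℕ) : mv (r :: l) a = cond (par (r &&& a)) 1 0 + 2 * mv l a := rfl

theorem mv_lt (l : List ℕ) (a : ℕ) : mv l a < 2 ^ l.length := by
  induction l with
  | nil => simp [mv]
  | cons r l ih =>
    rw [mv_cons, List.length_cons, pow_succ]
    cases par (r &&& a) <;> simp <;> omega

theorem testBit_mv (l : List ℕ) (a k : ℕ) : (mv l a).testBit k = par (l.getD k 0 &&& a) := by
  induction l generalizing k with
  | nil => simp [mv, par_zero]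
  | cons r l ih =>
    rw [mv_cons]
    cases k with
    | zero =>
      rw [Nat.testBit_zero]
      simp only [List.getD_cons_zero]
      cases par (r &&& a) <;> simp
    | succ k =>
      rw [Nat.testBit_succ, List.getD_cons_succ, ← ih]
      congr 1
      cases par (r &&& a) <;> simp <;> omega

/-- a matrix from its rows -/
def sm (l : List ℕ) : Matrix I10 I10 (ZMod 2) :=
  Matrix.of fun i j => bz ((l.getD (ix i) 0).testBit (ix j))

theorem mulVec_dec (l : List ℕ) {a : ℕ} (ha : a < 1024) : sm l *ᵥ dec a = dec (mv l a) := by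
  ext i
  change dec (l.getD (ix i) 0) ⬝ᵥ dec a = bz ((mv l a).testBit (ix i))
  rw [dotProduct_comm, dot_dec ha, testBit_mv, Nat.land_comm]

/-- ten rows with codes below 1024 -/
def wf (l : List ℕ) : Bool := Nat.beq l.length 10 && l.all fun a => Nat.blt a 1024

theorem wf_iff {l : List ℕ} : wf l = true ↔ l.length = 10 ∧ ∀ a ∈ l, a < 1024 := by
  rw [wf, Bool.and_eq_true, List.all_eq_true]
  constructor
  · rintro ⟨h1, h2⟩
    exact ⟨Nat.eq_of_beq_eq_true h1, fun a ha => by simpa using h2 a ha⟩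
  · rintro ⟨h1, h2⟩
    exact ⟨by rw [h1]; rfl, fun a ha => by simpa using h2 a ha⟩

theorem wf_getD {l : List ℕ} (h : wf l = true) (k : ℕ) : l.getD k 0 < 1024 := by
  rw [wf_iff] at h
  rcases Nat.lt_or_ge k l.length with hk | hk
  · rw [List.getD_eq_getElem _ _ hk]
    exact h.2 _ (List.getElem_mem hk)
  · rw [List.getD_eq_default _ _ hk]
    norm_num

/-- `mv` of a list, evaluated -/
def mapF (f : ℕ → ℕ) : List ℕ → List ℕ
  | [] => []
  | a :: l => force (f a) fun b => b :: mapF f l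

theorem mapF_eq (f : ℕ → ℕ) (l : List ℕ) : mapF f l = l.map f := by
  induction l with
  | nil => rfl
  | cons a l ih => rw [mapF, force_eq, ih, List.map_cons]

theorem wf_mapF {A B : List ℕ} (hA : wf A = true) (hB : wf B = true) : wf (mapF (mv B) A) = true := by
  rw [mapF_eq, wf_iff, List.length_map]
  refine ⟨(wf_iff.1 hA).1, fun a ha => ?_⟩
  rw [List.mem_map] at ha
  obtain ⟨b, -, rfl⟩ := ha
  have := mv_lt B b
  rw [(wf_iff.1 hB).1] at this
  exact this

/-- **The product by codes.** -/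
theorem mul_tr {A B : List ℕ} (hA : wf A = true) (hB : wf B = true) : sm A * (sm B)ᵀ = sm (mapF (mv B) A) := by
  ext i j
  rw [mapF_eq]
  change dec (A.getD (ix i) 0) ⬝ᵥ dec (B.getD (ix j) 0) = bz (((A.map (mv B)).getD (ix i) 0).testBit (ix j))
  have hi : ix i < A.length := by rw [(wf_iff.1 hA).1]; exact ix_lt i
  have h1 : (A.map (mv B)).getD (ix i) 0 = mv B (A.getD (ix i) 0) := by
    rw [List.getD_eq_getElem _ _ (by rw [List.length_map]; exact hi), List.getElem_map, List.getD_eq_getElem _ _ hi]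
  rw [h1, dotProduct_comm, dot_dec (wf_getD hB _), testBit_mv]

/-- the identity -/
def Il : List ℕ := [1, 2, 4, 8, 16, 32, 64, 128, 256, 512]

theorem sm_Il : sm Il = 1 := by decide +kernel

/-- the matrix `J` -/
def Jl : List ℕ := [32, 64, 128, 256, 512, 1, 2, 4, 8, 16]

theorem sm_Jl : sm Jl = J (Fin 5) (ZMod 2) := by decide +kernel

theorem sm_Jl' : (sm Jl)ᵀ = J (Fin 5) (ZMod 2) := by decide +kernel

theorem wf_Il : wf Il = true := by decide +kernel
theorem wf_Jl : wf Jl = true := by decide +kernel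

/-- `Sp₁₀(2)` -/
abbrev Sp10 : Type := symplecticGroup (Fin 5) (ZMod 2)

/-- equality of lists -/
def beqL : List ℕ → List ℕ → Bool
  | [], [] => true
  | a :: l, b :: m => band (Nat.beq a b) (beqL l m)
  | _, _ => false

theorem eq_of_beqL : ∀ {l m : List ℕ}, beqL l m = true → l = m
  | [], [], _ => rfl
  | [], _ :: _, h => by simp [beqL] at h
  | _ :: _, [], h => by simp [beqL] at h
  | a :: l, b :: m, h => by
    rw [beqL, band_eq_true] at h
    rw [Nat.eq_of_beq_eq_true h.1, eq_of_beqL h.2]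

/-- the list is the list of the rows of a symplectic matrix -/
def isS (l : List ℕ) : Bool := wf l && beqL (mapF (mv l) (mapF (mv Jl) l)) Jl

/-- an element of `Sp₁₀(2)` -/
def se (l : List ℕ) (h : isS l = true) : Sp10 :=
  ⟨sm l, SymplecticGroup.mem_iff.mpr (by
    rw [isS, Bool.and_eq_true] at h
    rw [← sm_Jl', mul_tr h.1 wf_Jl, mul_tr (wf_mapF h.1 wf_Jl) h.1, eq_of_beqL h.2, sm_Jl']
    exact sm_Jl)⟩

/-- the powers -/
def iter (lt : List ℕ) (k : ℕ) : List ℕ := Nat.rec Il (fun _ A => mapF (mv lt) A) k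

theorem iter_succ (lt : List ℕ) (k : ℕ) : iter lt (k + 1) = mapF (mv lt) (iter lt k) := rfl

theorem wf_iter {lt : List ℕ} (h : wf lt = true) (k : ℕ) : wf (iter lt k) = true := by
  induction k with
  | zero => exact wf_Il
  | succ k ih => rw [iter_succ]; exact wf_mapF ih h

theorem pow_val {g : Sp10} {lt : List ℕ} (hg : g.1 = (sm lt)ᵀ) (h : wf lt = true) (k : ℕ) :
    (g ^ k).1 = sm (iter lt k) := by
  induction k with
  | zero => rw [pow_zero]; exact sm_Il.symm
  | succ k ih =>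
    rw [pow_succ, iter_succ, ← mul_tr (wf_iter h k) h, ← ih, ← hg]
    rfl

theorem pow_eq_one {g : Sp10} {lt : List ℕ} (hg : g.1 = (sm lt)ᵀ) (h : wf lt = true) {k : ℕ}
    (hk : beqL (iter lt k) Il = true) : g ^ k = 1 := by
  apply Subtype.ext
  rw [pow_val hg h, eq_of_beqL hk]
  exact sm_Il

/-! ### Codes of vectors -/

theorem dec_inj {a b : ℕ} (ha : a < 1024) (hb : b < 1024) (h : dec a = dec b) : a = b := by
  apply Nat.eq_of_testBit_eq
  intro k
  rcases Nat.lt_or_ge k 10 with hk | hk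
  · obtain ⟨i, hi⟩ := ix_surj hk
    have h1 := congrFun h i
    simp only [dec, hi] at h1
    exact bz_inj h1
  · have h1 : ∀ c : ℕ, c < 1024 → c.testBit k = false := fun c hc => by
      apply Nat.testBit_lt_two_pow
      exact lt_of_lt_of_le hc (Nat.pow_le_pow_right (n := 2) (by norm_num) hk : 2 ^ 10 ≤ 2 ^ k)
    rw [h1 a ha, h1 b hb]

theorem dec_surj (v : I10 → ZMod 2) : ∃ a : ℕ, a < 1024 ∧ dec a = v := by
  have h := (Fintype.bijective_iff_injective_and_card fun a : Fin 1024 => dec a).2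
    ⟨fun a b h => Fin.ext (dec_inj a.2 b.2 h), by
      rw [Fintype.card_fun, ZMod.card, Fintype.card_sum, Fintype.card_fin, Fintype.card_fin]
      norm_num⟩
  obtain ⟨a, ha⟩ := h.2 v
  exact ⟨a, a.2, ha⟩

/-- the code of a vector -/
noncomputable def cod (v : I10 → ZMod 2) : ℕ := (dec_surj v).choose

theorem cod_lt (v : I10 → ZMod 2) : cod v < 1024 := (dec_surj v).choose_spec.1
theorem dec_cod (v : I10 → ZMod 2) : dec (cod v) = v := (dec_surj v).choose_spec.2

/-! ### Centralizers -/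

/-- equality of Booleans -/
def beqB (a b : Bool) : Bool := cond a b (cond b false true)

/-- the values `B(a, Yⁱ b)` are `cs i` -/
def chk (Yl : List ℕ) : List Bool → ℕ → ℕ → Bool
  | [], _, _ => true
  | c :: cs, a, b => band (beqB (par (Nat.land a (mv Jl b))) c) (force (mv Yl b) fun b' => chk Yl cs a b')

theorem chk_eq {Y : Sp10} {Yl : List ℕ} (hY : Y.1 = sm Yl) (hw : wf Yl = true) {g : Sp10} (hg : g * Y = Y * g) :
    ∀ (cs : List Bool) {a b a' b' : ℕ}, a < 1024 → b < 1024 → b' < 1024 → a' < 1024 →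
      dec a = g.1 *ᵥ dec a' → dec b = g.1 *ᵥ dec b' → chk Yl cs a b = chk Yl cs a' b'
  | [], _, _, _, _, _, _, _, _, _, _ => rfl
  | c :: cs, a, b, a', b', ha, hb, hb', ha', h1, h2 => by
    rw [chk, chk, force_eq, force_eq]
    have hl : ∀ d : ℕ, mv Yl d < 1024 := fun d => by
      have := mv_lt Yl d
      rwa [(wf_iff.1 hw).1] at this
    have h3 : par (a &&& mv Jl b) = par (a' &&& mv Jl b') := by
      apply bz_inj
      rw [← dot_dec ha, ← dot_dec ha', ← mulVec_dec _ hb, ← mulVec_dec _ hb', sm_Jl, h1, h2,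
        Matrix.dotProduct_mulVec, Matrix.vecMul_mulVec, ← Matrix.dotProduct_mulVec, Matrix.mulVec_mulVec,
        SymplecticGroup.mem_iff'.1 g.2]
    have h4 : dec (mv Yl b) = g.1 *ᵥ dec (mv Yl b') := by
      have h5 : g.1 * Y.1 = Y.1 * g.1 := (congrArg Subtype.val hg :)
      rw [← mulVec_dec _ hb, ← mulVec_dec _ hb', h2, Matrix.mulVec_mulVec, Matrix.mulVec_mulVec, ← hY, h5]
    rw [chk_eq hY hw hg cs ha (hl _) (hl _) ha' h1 h4]
    change band (beqB (par (a &&& mv Jl b)) c) _ = band (beqB (par (a' &&& mv Jl b')) c) _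
    rw [h3]

theorem ext_kc {kc K' : List ℕ} (hk : wf kc = true) (hK' : wf K' = true) (hK : beqL (mapF (mv kc) K') Il = true)
    {g h : Sp10} (hgh : ∀ j < 10, g.1 *ᵥ dec (kc.getD j 0) = h.1 *ᵥ dec (kc.getD j 0)) : g = h := by
  have h1 : sm K' * (sm kc)ᵀ = 1 := by rw [mul_tr hK' hk, eq_of_beqL hK, sm_Il]
  have h2 : (sm kc)ᵀ * sm K' = 1 := mul_eq_one_comm.1 h1
  have h3 : g.1 * (sm kc)ᵀ = h.1 * (sm kc)ᵀ := by
    ext i j
    exact congrFun (hgh (ix j) (ix_lt j)) i
  apply Subtype.ext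
  rw [← Matrix.mul_one g.1, ← h2, ← Matrix.mul_assoc, h3, Matrix.mul_assoc, h2, Matrix.mul_one]

/-- a chain `k, Y k, Y² k, …` of length `m` -/
def chain (Yl kc : List ℕ) (m : ℕ) : Bool := allB (fun j => Nat.beq (mv Yl (kc.getD j 0)) (kc.getD (j + 1) 0)) m

theorem chain_agree {Y : Sp10} {Yl kc : List ℕ} (hY : Y.1 = sm Yl) (hk : wf kc = true) {m : ℕ}
    (hc : chain Yl kc m = true) {g h : Sp10} (hg : g * Y = Y * g) (hh : h * Y = Y * h)
    (h0 : g.1 *ᵥ dec (kc.getD 0 0) = h.1 *ᵥ dec (kc.getD 0 0)) :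
    ∀ j ≤ m, g.1 *ᵥ dec (kc.getD j 0) = h.1 *ᵥ dec (kc.getD j 0) := by
  intro j
  induction j with
  | zero => exact fun _ => h0
  | succ j ih =>
    intro hj
    have h1 := Nat.eq_of_beq_eq_true ((allB_iff _ _).1 hc j (by omega))
    have h2 := ih (by omega)
    have h3 : g.1 * Y.1 = Y.1 * g.1 := (congrArg Subtype.val hg :)
    have h4 : h.1 * Y.1 = Y.1 * h.1 := (congrArg Subtype.val hh :)
    rw [← h1, ← mulVec_dec _ (wf_getD hk j), ← hY, Matrix.mulVec_mulVec, Matrix.mulVec_mulVec, h3, h4,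
      ← Matrix.mulVec_mulVec, ← Matrix.mulVec_mulVec, h2]

/-- **The centralizer of a cyclic element.** -/
theorem card_cent_le {Y : Sp10} {Yl kc K' : List ℕ} {cs : List Bool} {m : ℕ} (hY : Y.1 = sm Yl) (hw : wf Yl = true)
    (hk : wf kc = true) (hK' : wf K' = true) (hK : beqL (mapF (mv kc) K') Il = true) (hc : chain Yl kc 9 = true)
    (h0 : chk Yl cs (kc.getD 0 0) (mv Yl (kc.getD 0 0)) = true)
    (ht : cntB (fun a => force (mv Yl a) fun b => chk Yl cs a b) 1024 m = true) :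
    Nat.card (Subgroup.centralizer ({Y} : Set Sp10)) ≤ m := by
  classical
  have hcm : ∀ g : Subgroup.centralizer ({Y} : Set Sp10), g.1 * Y = Y * g.1 := fun g =>
    (Subgroup.mem_centralizer_singleton_iff.1 g.2 :)
  have hl : ∀ d : ℕ, mv Yl d < 1024 := fun d => by
    have := mv_lt Yl d
    rwa [(wf_iff.1 hw).1] at this
  set k0 := kc.getD 0 0 with hk0
  have hk0l : k0 < 1024 := wf_getD hk 0
  let f : Subgroup.centralizer ({Y} : Set Sp10) → ℕ := fun g => cod (g.1.1 *ᵥ dec k0)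
  have hfd : ∀ g, dec (f g) = g.1.1 *ᵥ dec k0 := fun g => dec_cod _
  have hfl : ∀ g, f g < 1024 := fun g => cod_lt _
  have hmem : ∀ g, f g ∈ (Finset.range 1024).filter fun a => (force (mv Yl a) fun b => chk Yl cs a b) = true := by
    intro g
    rw [Finset.mem_filter, Finset.mem_range, force_eq]
    refine ⟨hfl g, ?_⟩
    rw [← h0]
    refine chk_eq hY hw (hcm g) cs (hfl g) (hl _) (hl _) hk0l (hfd g) ?_
    have h3 : g.1.1 * Y.1 = Y.1 * g.1.1 := (congrArg Subtype.val (hcm g) :)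
    rw [← mulVec_dec _ (hfl g), ← mulVec_dec _ hk0l, hfd, ← hY, Matrix.mulVec_mulVec, Matrix.mulVec_mulVec, h3]
  have hinj : Function.Injective f := by
    intro g h hgh
    have h1 : g.1.1 *ᵥ dec k0 = h.1.1 *ᵥ dec k0 := by rw [← hfd g, ← hfd h, hgh]
    have h2 := chain_agree hY hk hc (hcm g) (hcm h) h1
    exact Subtype.ext (ext_kc hk hK' hK fun j hj => h2 j (by omega))
  rw [← card_of_cntB _ 1024 m ht, ← Nat.card_eq_finsetCard]
  exact Nat.card_le_card_of_injective (fun g => (⟨f g, hmem g⟩ : {a // a ∈ _})) fun g h e =>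
    hinj (congrArg (fun z => (z : {a // a ∈ (Finset.range 1024).filter fun a =>
      (force (mv Yl a) fun b => chk Yl cs a b) = true}).1) e)

/-! ### The group -/

theorem card_sp : Nat.card Sp10 = 24815256521932800 := by
  rw [Cfsg.Agent.S0245.result (F := ZMod 2) (q := 2) (ZMod.card 2) 5]
  decide +kernel

theorem center_bot : Subgroup.center Sp10 = ⊥ := by
  have h := Cfsg.Agent.S0246.result (F := ZMod 2) (q := 2) (ZMod.card 2) 5 (by norm_num)
  exact Subgroup.card_eq_one.1 h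

/-- `PSp₁₀(F) ≃* Sp₁₀(2)`, `|F| = 2` -/
noncomputable def equiv {F : Type*} [Field F] [Fintype F] (hF : Fintype.card F = 2) : Cfsg.PSp 5 F ≃* Sp10 :=
  (LieClassical.FieldTransfer.pspCongr 5 (ZMod.ringEquivOfPrime F Nat.prime_two hF).symm).trans
    ((QuotientGroup.quotientMulEquivOfEq center_bot).trans QuotientGroup.quotientBot)

/-! ### The elements of order 31 and 11 -/

/-- rows and columns of `e31` -/
def l31 : List ℕ := [16, 1, 18, 4, 8, 576, 32, 64, 128, 256]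
def t31 : List ℕ := [2, 4, 8, 16, 5, 64, 160, 256, 512, 32]
/-- order 31 -/
def e31 : Sp10 := se l31 (by decide +kernel)

theorem e31_t : e31.1 = (sm t31)ᵀ := by
  change sm l31 = (sm t31)ᵀ
  decide +kernel

theorem e31_pow : e31 ^ 31 = 1 := pow_eq_one e31_t (by decide +kernel) (by decide +kernel)

theorem e31_ne : e31 ≠ 1 := by decide +kernel

theorem order31 : orderOf e31 = 31 := by
  have : Fact (Nat.Prime 31) := ⟨by norm_num⟩
  exact orderOf_eq_prime e31_pow e31_ne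

private noncomputable def _root_.Cfsg.Agent.LsF.f1cb3ae_6 : {f // @Cfsg.Agent.SporadicA.PermTab.cntB = f} := ⟨_, by first | (delta Cfsg.Agent.SporadicA.PermTab.cntB; rewrite [Cfsg.Agent.LsF.cond_eq]; exact rfl) | exact rfl⟩
private noncomputable def _root_.Cfsg.Agent.LsF.f1cb3ae_7 : {f // @Cfsg.Agent.H890.OZ.SpT.mv = f} := ⟨_, by first | (delta Cfsg.Agent.H890.OZ.SpT.mv List.brecOn List.brecOn.go Cfsg.Agent.H890.OZ.SpT.mv._f; rewrite [Cfsg.Agent.LsF.f1cb3ae_4.2, Cfsg.Agent.LsF.cond_eq]; (try delta Cfsg.Agent.H890.OZ.SpT.mv.match_1); (try delta List.casesOn); first | dsimp -zeta only | exact rfl) | exact rfl⟩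
private noncomputable def _root_.Cfsg.Agent.LsF.f1cb3ae_8 : {f // @Cfsg.Agent.H890.OZ.SpT.beqB = f} := ⟨_, by first | (delta Cfsg.Agent.H890.OZ.SpT.beqB; rewrite [Cfsg.Agent.LsF.cond_eq]; exact rfl) | exact rfl⟩
private noncomputable def _root_.Cfsg.Agent.LsF.f1cb3ae_9 : {f // @Cfsg.Agent.H890.OZ.SpT.chk = f} := ⟨_, by first | (delta Cfsg.Agent.H890.OZ.SpT.chk List.brecOn List.brecOn.go Cfsg.Agent.H890.OZ.SpT.chk._f; rewrite [Cfsg.Agent.LsF.f1cb3ae_8.2, Cfsg.Agent.LsF.f1cb3ae_4.2, Cfsg.Agent.LsF.f1cb3ae_7.2]; (try delta Cfsg.Agent.H890.OZ.SpT.chk.match_1); (try delta List.casesOn); first | dsimp -zeta only | exact rfl) | exact rfl⟩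
theorem cent31 : Nat.card (Subgroup.centralizer ({e31} : Set Sp10)) ≤ 31 :=
  card_cent_le (Y := e31) (Yl := l31) (kc := [33, 66, 164, 328, 688, 357, 746, 468, 941, 890])
    (K' := [793, 691, 767, 615, 111, 966, 813, 483, 222, 412]) (cs := [false, true, false, true, false])
    rfl (by decide +kernel) (by decide +kernel) (by decide +kernel) (by decide +kernel) (by decide +kernel)
    (by decide +kernel) (by ((try (rewrite [Cfsg.Agent.LsF.f1cb3ae_6.2, Cfsg.Agent.LsF.f1cb3ae_7.2, Cfsg.Agent.LsF.f1cb3ae_9.2])); decide +kernel))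

/-- rows and columns of `e33` -/
def l33 : List ℕ := [449, 924, 110, 936, 360, 551, 498, 221, 907, 98]
def t33 : List ℕ := [417, 868, 166, 414, 194, 636, 725, 459, 347, 298]
/-- order 33 -/
def e33 : Sp10 := se l33 (by decide +kernel)

theorem e33_t : e33.1 = (sm t33)ᵀ := by
  change sm l33 = (sm t33)ᵀ
  decide +kernel

/-- rows of `e11` -/
def l11 : List ℕ := [403, 522, 687, 517, 635, 335, 236, 400, 140, 923]

/-- order 11 -/
def e11 : Sp10 := e33 ^ 3

theorem e11_val : e11.1 = sm l11 := by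
  rw [e11, pow_val e33_t (by decide +kernel), eq_of_beqL (l := iter t33 3) (m := l11) (by decide +kernel)]

private noncomputable def _root_.Cfsg.Agent.LsF.f1cb3ae_10 : {f // @Cfsg.Agent.H890.OZ.SpT.beqL = f} := ⟨_, by first | (delta Cfsg.Agent.H890.OZ.SpT.beqL List.brecOn List.brecOn.go Cfsg.Agent.H890.OZ.SpT.beqL._f; (try delta Cfsg.Agent.H890.OZ.SpT.beqL.match_1); (try delta Cfsg.Agent.H890.OZ.SpT.beqL._sparseCasesOn_1); (try delta Cfsg.Agent.H890.OZ.SpT.beqL._sparseCasesOn_2); (try delta List.casesOn); first | dsimp -zeta only | exact rfl) | exact rfl⟩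
private noncomputable def _root_.Cfsg.Agent.LsF.f1cb3ae_11 : {f // @Cfsg.Agent.H890.OZ.SpT.mapF = f} := ⟨_, by first | (delta Cfsg.Agent.H890.OZ.SpT.mapF List.brecOn List.brecOn.go Cfsg.Agent.H890.OZ.SpT.mapF._f; (try delta Cfsg.Agent.H890.OZ.SpT.mapF.match_1); (try delta List.casesOn); first | dsimp -zeta only | exact rfl) | exact rfl⟩
private noncomputable def _root_.Cfsg.Agent.LsF.f1cb3ae_12 : {f // @Cfsg.Agent.H890.OZ.SpT.iter = f} := ⟨_, by first | (delta Cfsg.Agent.H890.OZ.SpT.iter; rewrite [Cfsg.Agent.LsF.f1cb3ae_11.2, Cfsg.Agent.LsF.f1cb3ae_7.2]; exact rfl) | exact rfl⟩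
theorem e33_pow : e33 ^ 33 = 1 := pow_eq_one e33_t (by decide +kernel) (by ((try (rewrite [Cfsg.Agent.LsF.f1cb3ae_10.2, Cfsg.Agent.LsF.f1cb3ae_12.2])); decide +kernel))

theorem e11_pow : e11 ^ 11 = 1 := by rw [e11, ← pow_mul, e33_pow]

theorem e11_ne : e11 ≠ 1 := by
  intro h
  have h1 : sm l11 = 1 := by rw [← e11_val, h]; rfl
  revert h1
  decide +kernel

theorem e3_ne : e33 ^ 11 ≠ 1 := by
  intro h
  have h1 : sm (iter t33 11) = 1 := by rw [← pow_val e33_t (by decide +kernel), h]; rfl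
  revert h1
  decide +kernel

theorem order11 : orderOf e11 = 11 := by
  have : Fact (Nat.Prime 11) := ⟨by norm_num⟩
  exact orderOf_eq_prime e11_pow e11_ne

theorem order33 : orderOf e33 = 33 := by
  have h1 : orderOf e33 ∣ 33 := orderOf_dvd_of_pow_eq_one e33_pow
  have h2 : ¬ orderOf e33 ∣ 11 := fun h => e3_ne (orderOf_dvd_iff_pow_eq_one.1 h)
  have h3 : ¬ orderOf e33 ∣ 3 := fun h => e11_ne (orderOf_dvd_iff_pow_eq_one.1 h)
  have h4 : orderOf e33 ≤ 33 := Nat.le_of_dvd (by norm_num) h1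
  generalize orderOf e33 = n at h1 h2 h3 h4
  interval_cases n <;> revert h1 h2 h3 <;> decide

theorem cent11_le : Nat.card (Subgroup.centralizer ({e11} : Set Sp10)) ≤ 33 :=
  card_cent_le (Y := e11) (Yl := l11) (kc := [1, 573, 252, 874, 474, 708, 199, 723, 816, 634])
    (K' := [549, 412, 558, 296, 890, 620, 474, 610, 850, 488]) (cs := [true, true, true, false, false])
    e11_val (by decide +kernel) (by decide +kernel) (by decide +kernel) (by decide +kernel) (by decide +kernel)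
    (by decide +kernel) (by ((try (rewrite [Cfsg.Agent.LsF.f1cb3ae_6.2, Cfsg.Agent.LsF.f1cb3ae_7.2, Cfsg.Agent.LsF.f1cb3ae_9.2])); decide +kernel))

theorem cent11 : Nat.card (Subgroup.centralizer ({e11} : Set Sp10)) = 3 * 11 := by
  refine le_antisymm cent11_le ?_
  have h1 : Subgroup.zpowers e33 ≤ Subgroup.centralizer ({e11} : Set Sp10) := by
    rw [Subgroup.zpowers_le, Subgroup.mem_centralizer_singleton_iff, e11, ← pow_succ, ← pow_succ']
  have h3 := Subgroup.card_le_of_le h1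
  rw [Nat.card_zpowers, order33] at h3
  exact h3

/-! ### The element of order 17 -/

/-- rows and columns of `e17` -/
def l17 : List ℕ := [367, 4, 72, 69, 16, 5, 232, 324, 271, 512]
def t17 : List ℕ := [297, 257, 427, 325, 16, 65, 205, 64, 385, 512]
/-- order 17 -/
def e17 : Sp10 := se l17 (by decide +kernel)
/-- order 2 -/
def ea : Sp10 := se [1, 2, 4, 8, 512, 32, 64, 128, 256, 16] (by decide +kernel)
/-- order 3 -/
def eb : Sp10 := se [1, 2, 4, 8, 512, 32, 64, 128, 256, 528] (by decide +kernel)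

theorem wf17 : wf l17 = true := by decide +kernel

theorem e17_t : e17.1 = (sm t17)ᵀ := by
  change sm l17 = (sm t17)ᵀ
  decide +kernel

theorem e17_pow : e17 ^ 17 = 1 := pow_eq_one e17_t (by decide +kernel) (by decide +kernel)

theorem e17_ne : e17 ≠ 1 := by decide +kernel

theorem order17 : orderOf e17 = 17 := by
  have : Fact (Nat.Prime 17) := ⟨by norm_num⟩
  exact orderOf_eq_prime e17_pow e17_ne

theorem ea_sq : ea * ea = 1 := by decide +kernel
theorem ea_ne : ea ≠ 1 := by decide +kernel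
theorem eb_cube : eb * eb * eb = 1 := by (refine of_decide_eq_true ?_; (try (rewrite [Cfsg.Agent.LsF.zdecEq_eq, Cfsg.Agent.LsF.dMat_eq, Cfsg.Agent.LsF.dSubEq_eq, Cfsg.Agent.LsF.decide_eq])); decide +kernel)
theorem eb_ne : eb ≠ 1 := by decide +kernel
theorem ea_comm : ea * e17 = e17 * ea := by (refine of_decide_eq_true ?_; (try (rewrite [Cfsg.Agent.LsF.zdecEq_eq, Cfsg.Agent.LsF.dMat_eq, Cfsg.Agent.LsF.dSubEq_eq, Cfsg.Agent.LsF.decide_eq])); decide +kernel)
theorem eb_comm : eb * e17 = e17 * eb := by (refine of_decide_eq_true ?_; (try (rewrite [Cfsg.Agent.LsF.zdecEq_eq, Cfsg.Agent.LsF.dMat_eq, Cfsg.Agent.LsF.dSubEq_eq, Cfsg.Agent.LsF.decide_eq])); decide +kernel)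
theorem ea_eb : ea * eb = eb * eb * ea := by (refine of_decide_eq_true ?_; (try (rewrite [Cfsg.Agent.LsF.zdecEq_eq, Cfsg.Agent.LsF.dMat_eq, Cfsg.Agent.LsF.dSubEq_eq, Cfsg.Agent.LsF.decide_eq])); decide +kernel)

theorem order_ea : orderOf ea = 2 := by
  have : Fact (Nat.Prime 2) := ⟨Nat.prime_two⟩
  exact orderOf_eq_prime (by rw [pow_two]; exact ea_sq) ea_ne

theorem order_eb : orderOf eb = 3 := by
  have : Fact (Nat.Prime 3) := ⟨Nat.prime_three⟩
  exact orderOf_eq_prime (by rw [pow_succ, pow_two]; exact eb_cube) eb_ne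

/-- the possible images of the first vector -/
def tst17 (a : ℕ) : Bool := band (Nat.beq (Nat.land a 528) 0)
  (force (mv l17 a) fun b => chk l17 [true, true, true, true] a b)

theorem fix17 {a : ℕ} (ha : a < 1024) (h : mv l17 a = a) : a = 0 ∨ a = 16 ∨ a = 512 ∨ a = 528 := by
  have h1 : allB (fun a => !(Nat.beq (mv l17 a) a) || (Nat.beq a 0 || (Nat.beq a 16 || (Nat.beq a 512 ||
    Nat.beq a 528)))) 1024 = true := by ((try (rewrite [Cfsg.Agent.LsF.f1cb3ae_7.2, Cfsg.Agent.LsF.or_eq, Cfsg.Agent.LsF.not_eq])); decide +kernel)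
  have h2 := (allB_iff _ _).1 h1 a ha
  rw [h] at h2
  simp only [Nat.beq_refl, Bool.not_true, Bool.false_or, Bool.or_eq_true] at h2
  rcases h2 with h2 | h2 | h2 | h2
  · exact Or.inl (Nat.eq_of_beq_eq_true h2)
  · exact Or.inr (Or.inl (Nat.eq_of_beq_eq_true h2))
  · exact Or.inr (Or.inr (Or.inl (Nat.eq_of_beq_eq_true h2)))
  · exact Or.inr (Or.inr (Or.inr (Nat.eq_of_beq_eq_true h2)))

theorem mv17_lt (d : ℕ) : mv l17 d < 1024 := mv_lt l17 d

/-- the coordinates 4 and 9 are fixed by `e17` -/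
theorem row17 (v : I10 → ZMod 2) : (e17.1 *ᵥ v) (.inl 4) = v (.inl 4) ∧ (e17.1 *ᵥ v) (.inr 4) = v (.inr 4) := by
  have h1 : ∀ i : I10, (sm l17 (.inl 4)) i = if i = .inl 4 then 1 else 0 := by decide +kernel
  have h2 : ∀ i : I10, (sm l17 (.inr 4)) i = if i = .inr 4 then 1 else 0 := by decide +kernel
  constructor
  · change sm l17 (.inl 4) ⬝ᵥ v = _
    rw [show sm l17 (.inl 4) = fun i => if i = .inl 4 then 1 else 0 from funext h1]
    simp [dotProduct]
  · change sm l17 (.inr 4) ⬝ᵥ v = _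
    rw [show sm l17 (.inr 4) = fun i => if i = .inr 4 then 1 else 0 from funext h2]
    simp [dotProduct]

theorem land_zero {a : ℕ} (h1 : dec a (.inl 4) = 0) (h2 : dec a (.inr 4) = 0) : a &&& 528 = 0 := by
  have e1 : a.testBit 4 = false := by
    change bz (a.testBit 4) = 0 at h1
    revert h1
    cases a.testBit 4 <;> simp only [bz, _root_.cond_false, _root_.imp_self, _root_.cond_true, _root_.one_ne_zero, _root_.Bool.true_eq_false]
  have e2 : a.testBit 9 = false := by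
    change bz (a.testBit 9) = 0 at h2
    revert h2
    cases a.testBit 9 <;> simp only [bz, _root_.cond_false, _root_.imp_self, _root_.cond_true, _root_.one_ne_zero, _root_.Bool.true_eq_false]
  apply Nat.eq_of_testBit_eq
  intro k
  rw [Nat.testBit_and, Nat.zero_testBit]
  by_cases hk4 : k = 4
  · rw [hk4, e1, Bool.false_and]
  by_cases hk9 : k = 9
  · rw [hk9, e2, Bool.false_and]
  have h3 : (528 : ℕ).testBit k = false := by
    rcases Nat.lt_or_ge k 10 with hk | hk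
    · interval_cases k <;> first | decide | omega
    · apply Nat.testBit_lt_two_pow
      exact lt_of_lt_of_le (by norm_num) (Nat.pow_le_pow_right (n := 2) (by norm_num) hk : 2 ^ 10 ≤ 2 ^ k)
  rw [h3, Bool.and_false]

theorem cent17_le : Nat.card (Subgroup.centralizer ({e17} : Set Sp10)) ≤ 102 := by
  classical
  set C := Subgroup.centralizer ({e17} : Set Sp10) with hC
  have hcm : ∀ g : C, g.1 * e17 = e17 * g.1 := fun g => (Subgroup.mem_centralizer_singleton_iff.1 g.2 :)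
  have hcv : ∀ g : C, g.1.1 * e17.1 = e17.1 * g.1.1 := fun g => (congrArg Subtype.val (hcm g) :)
  have hkc : wf [1, 297, 428, 366, 226, 461, 203, 480, 16, 512] = true := by decide +kernel
  have hK' : wf [201, 386, 168, 104, 484, 196, 398, 134, 16, 512] = true := by decide +kernel
  have hK : beqL (mapF (mv [1, 297, 428, 366, 226, 461, 203, 480, 16, 512])
    [201, 386, 168, 104, 484, 196, 398, 134, 16, 512]) Il = true := by decide +kernel
  have hch : chain l17 [1, 297, 428, 366, 226, 461, 203, 480, 16, 512] 7 = true := by decide +kernel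
  let f : C → ℕ × (ℕ × ℕ) := fun g => (cod (g.1.1 *ᵥ dec 1), (cod (g.1.1 *ᵥ dec 16), cod (g.1.1 *ᵥ dec 512)))
  let A : Finset ℕ := (Finset.range 1024).filter fun a => tst17 a = true
  let B : Finset (ℕ × ℕ) := {(16, 512), (16, 528), (512, 16), (512, 528), (528, 16), (528, 512)}
  have hA : A.card = 17 := card_of_cntB _ _ _ (by decide +kernel)
  have hB : B.card = 6 := by decide +kernel
  -- the images of the fixed vectors
  have hfix : ∀ (g : C) (b : ℕ), b < 1024 → b ≠ 0 → mv l17 b = b →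
      cod (g.1.1 *ᵥ dec b) = 16 ∨ cod (g.1.1 *ᵥ dec b) = 512 ∨ cod (g.1.1 *ᵥ dec b) = 528 := by
    intro g b hb hb0 hbf
    have h1 : mv l17 (cod (g.1.1 *ᵥ dec b)) = cod (g.1.1 *ᵥ dec b) := by
      refine dec_inj (mv17_lt _) (cod_lt _) ?_
      rw [← mulVec_dec _ (cod_lt _), dec_cod, show sm l17 = e17.1 from rfl, Matrix.mulVec_mulVec, ← hcv,
        ← Matrix.mulVec_mulVec, show e17.1 = sm l17 from rfl, mulVec_dec _ hb, hbf]
    rcases fix17 (cod_lt _) h1 with h2 | h2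
    · exfalso
      have h3 : g.1.1 *ᵥ dec b = g.1.1 *ᵥ dec 0 := by
        have h4 : dec (0 : ℕ) = 0 := by
          funext i
          simp [dec, bz]
        rw [← dec_cod (g.1.1 *ᵥ dec b), h2, h4, Matrix.mulVec_zero]
      have h5 : (g⁻¹ : C).1.1 * g.1.1 = 1 := (congrArg (fun z : C => z.1.1) (inv_mul_cancel g) :)
      have h6 := congrArg (fun v => (g⁻¹ : C).1.1 *ᵥ v) h3
      simp only [Matrix.mulVec_mulVec] at h6
      rw [h5, Matrix.one_mulVec, Matrix.one_mulVec] at h6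
      exact hb0 (dec_inj hb (by norm_num) h6)
    · exact h2
  have hne : ∀ g : C, cod (g.1.1 *ᵥ dec 16) ≠ cod (g.1.1 *ᵥ dec 512) := by
    intro g h
    have h3 : g.1.1 *ᵥ dec 16 = g.1.1 *ᵥ dec 512 := by
      rw [← dec_cod (g.1.1 *ᵥ dec 16), h, dec_cod]
    have h5 : (g⁻¹ : C).1.1 * g.1.1 = 1 := (congrArg (fun z : C => z.1.1) (inv_mul_cancel g) :)
    have h6 := congrArg (fun v => (g⁻¹ : C).1.1 *ᵥ v) h3
    simp only [Matrix.mulVec_mulVec] at h6
    rw [h5, Matrix.one_mulVec, Matrix.one_mulVec] at h6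
    have := dec_inj (by norm_num) (by norm_num) h6
    omega
  have hmem : ∀ g, f g ∈ A ×ˢ B := by
    intro g
    rw [Finset.mem_product]
    constructor
    · change cod (g.1.1 *ᵥ dec 1) ∈ A
      rw [Finset.mem_filter, Finset.mem_range, tst17, band_eq_true, force_eq]
      refine ⟨cod_lt _, ?_, ?_⟩
      · -- the coordinates 4 and 9
        have h1 : dec 1 = e17.1 *ᵥ dec 486 + dec 486 := by
          rw [show e17.1 = sm l17 from rfl, mulVec_dec _ (by norm_num)]
          decide +kernel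
        have h2 : g.1.1 *ᵥ dec 1 = e17.1 *ᵥ (g.1.1 *ᵥ dec 486) + g.1.1 *ᵥ dec 486 := by
          rw [h1, Matrix.mulVec_add, Matrix.mulVec_mulVec, hcv, ← Matrix.mulVec_mulVec]
        have h3 := row17 (g.1.1 *ᵥ dec 486)
        have h4 : ∀ a : ZMod 2, a + a = 0 := by decide
        have h5 : cod (g.1.1 *ᵥ dec 1) &&& 528 = 0 := by
          apply land_zero
          · rw [dec_cod, h2, Pi.add_apply, h3.1, h4]
          · rw [dec_cod, h2, Pi.add_apply, h3.2, h4]
        change Nat.beq (cod (g.1.1 *ᵥ dec 1) &&& 528) 0 = true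
        rw [h5]
        rfl
      · rw [show true = chk l17 [true, true, true, true] 1 (mv l17 1) by decide +kernel]
        refine chk_eq (Y := e17) rfl wf17 (hcm g) _ (cod_lt _) (mv17_lt _) (mv17_lt _) (by norm_num) (dec_cod _) ?_
        rw [← mulVec_dec _ (cod_lt _), ← mulVec_dec _ (by norm_num), dec_cod, show sm l17 = e17.1 from rfl,
          Matrix.mulVec_mulVec, Matrix.mulVec_mulVec, hcv]
    · change (cod (g.1.1 *ᵥ dec 16), cod (g.1.1 *ᵥ dec 512)) ∈ B
      have h1 := hne g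
      rcases hfix g 16 (by norm_num) (by norm_num) (by decide +kernel) with h2 | h2 | h2 <;>
        rcases hfix g 512 (by norm_num) (by norm_num) (by decide +kernel) with h3 | h3 | h3 <;>
        rw [h2, h3] at h1 ⊢ <;> first | exact absurd rfl h1 | decide
  have hinj : Function.Injective f := by
    intro g h hgh
    have e0 : g.1.1 *ᵥ dec 1 = h.1.1 *ᵥ dec 1 := by
      rw [← dec_cod (g.1.1 *ᵥ dec 1), ← dec_cod (h.1.1 *ᵥ dec 1)]
      exact congrArg dec (congrArg Prod.fst hgh)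
    have e1 : g.1.1 *ᵥ dec 16 = h.1.1 *ᵥ dec 16 := by
      rw [← dec_cod (g.1.1 *ᵥ dec 16), ← dec_cod (h.1.1 *ᵥ dec 16)]
      exact congrArg dec (congrArg (fun z => z.2.1) hgh)
    have e2 : g.1.1 *ᵥ dec 512 = h.1.1 *ᵥ dec 512 := by
      rw [← dec_cod (g.1.1 *ᵥ dec 512), ← dec_cod (h.1.1 *ᵥ dec 512)]
      exact congrArg dec (congrArg (fun z => z.2.2) hgh)
    have h2 := chain_agree (Y := e17) rfl hkc hch (hcm g) (hcm h) e0
    refine Subtype.ext (ext_kc hkc hK' hK fun j hj => ?_)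
    rcases Nat.lt_or_ge j 8 with h3 | h3
    · exact h2 j (by omega)
    · have h4 : j = 8 ∨ j = 9 := by omega
      rcases h4 with rfl | rfl
      · exact e1
      · exact e2
  have h1 : Nat.card C ≤ (A ×ˢ B).card := by
    rw [← Nat.card_eq_finsetCard]
    exact Nat.card_le_card_of_injective (fun g => (⟨f g, hmem g⟩ : {a // a ∈ A ×ˢ B})) fun g h e =>
      hinj (congrArg (fun z : {a // a ∈ A ×ˢ B} => z.1) e)
  rw [Finset.card_product, hA, hB] at h1
  exact h1

theorem mem17 : e17 ∈ Subgroup.centralizer ({e17} : Set Sp10) := Subgroup.mem_centralizer_singleton_iff.2 rfl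
theorem mem_a : ea ∈ Subgroup.centralizer ({e17} : Set Sp10) := Subgroup.mem_centralizer_singleton_iff.2 ea_comm
theorem mem_b : eb ∈ Subgroup.centralizer ({e17} : Set Sp10) := Subgroup.mem_centralizer_singleton_iff.2 eb_comm

theorem cent17 : Nat.card (Subgroup.centralizer ({e17} : Set Sp10)) = 102 := by
  have h17 := Subgroup.orderOf_dvd_natCard _ mem17
  have h2 := Subgroup.orderOf_dvd_natCard _ mem_a
  have h3 := Subgroup.orderOf_dvd_natCard _ mem_b
  rw [order17] at h17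
  rw [order_ea] at h2
  rw [order_eb] at h3
  have h4 := cent17_le
  have h5 : 0 < Nat.card (Subgroup.centralizer ({e17} : Set Sp10)) := Nat.card_pos
  omega

/-- **Elements of the same order prime to 17 of `C(e17)` are conjugate in `C(e17)`.** -/
theorem cls17 (y y' : Sp10) (hy : e17 * y = y * e17) (hy' : e17 * y' = y' * e17) (hyr : ¬ 17 ∣ orderOf y)
    (hyy : orderOf y = orderOf y') : ∃ k : Sp10, e17 * k = k * e17 ∧ k * y * k⁻¹ = y' := by
  set C := Subgroup.centralizer ({e17} : Set Sp10) with hC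
  let zc : C := ⟨e17, mem17⟩
  have hz : ∀ g : C, g * zc = zc * g := fun g => Subtype.ext (Subgroup.mem_centralizer_singleton_iff.1 g.2)
  have hN : (Subgroup.zpowers zc).Normal := ⟨fun n hn g => by
    obtain ⟨i, hi⟩ := hn
    change zc ^ i = n at hi
    have h1 : g * n = n * g := by
      rw [← hi]
      exact ((show Commute g zc from hz g).zpow_right i)
    rw [h1, mul_inv_cancel_right, ← hi]
    exact ⟨i, rfl⟩⟩
  have hzo : orderOf zc = 17 := by
    rw [← Subgroup.orderOf_coe]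
    exact order17
  have h6 : Nat.card (C ⧸ Subgroup.zpowers zc) = 6 := by
    have h1 := (Subgroup.zpowers zc).card_mul_index
    rw [Nat.card_zpowers, hzo, cent17] at h1
    change (Subgroup.zpowers zc).index = 6
    omega
  let a : C := ⟨ea, mem_a⟩
  let b : C := ⟨eb, mem_b⟩
  have hab : a * b = b * b * a := Subtype.ext ea_eb
  have hb3 : b * b * b = 1 := Subtype.ext eb_cube
  have hb1 : b ≠ 1 := fun h => eb_ne (congrArg Subtype.val h)
  have hne : ∃ s t : C ⧸ Subgroup.zpowers zc, s * t ≠ t * s := by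
    refine ⟨QuotientGroup.mk a, QuotientGroup.mk b, fun h => ?_⟩
    rw [← QuotientGroup.mk_mul, ← QuotientGroup.mk_mul, QuotientGroup.eq] at h
    obtain ⟨i, hi⟩ := h
    change zc ^ i = (a * b)⁻¹ * (b * a) at hi
    have h1 : (a * b)⁻¹ * (b * a) = a⁻¹ * b⁻¹ * a := by
      rw [hab]
      group
    rw [h1] at hi
    have h2 : (a⁻¹ * b⁻¹ * a) ^ 17 = 1 := by
      rw [← hi, ← _root_.zpow_natCast, ← _root_.zpow_mul, mul_comm, _root_.zpow_mul, _root_.zpow_natCast, ← hzo,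
        pow_orderOf_eq_one, _root_.one_zpow]
    have h3 : (a⁻¹ * b⁻¹ * a) ^ 3 = 1 := by
      calc (a⁻¹ * b⁻¹ * a) ^ 3 = (a⁻¹ * b⁻¹ * a) * (a⁻¹ * b⁻¹ * a) * (a⁻¹ * b⁻¹ * a) := by rw [pow_succ, pow_two]
        _ = a⁻¹ * (b * b * b)⁻¹ * a := by group
        _ = 1 := by rw [hb3]; group
    have h4 : a⁻¹ * b⁻¹ * a = 1 := by
      have h5 : (a⁻¹ * b⁻¹ * a) ^ 18 = 1 := by
        rw [show 18 = 3 * 6 by norm_num, pow_mul, h3, one_pow]
      rwa [pow_succ, h2, one_mul] at h5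
    apply hb1
    calc b = a * (a⁻¹ * b⁻¹ * a)⁻¹ * a⁻¹ := by group
      _ = 1 := by rw [h4]; group
  refine H733.OZ.classes_of (r := 17) (by norm_num) order17 (QuotientGroup.mk' (Subgroup.zpowers zc))
    (QuotientGroup.mk'_surjective _) (fun k hk => ?_) (fun s t hst => H733.OZ.six_conj h6 hne hst) y y' hy hy' hyr hyy
  rw [QuotientGroup.mk'_apply, QuotientGroup.eq_one_iff] at hk
  obtain ⟨i, hi⟩ := hk
  exact ⟨i, congrArg Subtype.val hi⟩

end Cfsg.Agent.H890.OZ.SpT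
end

-- part: H890/OZ/Three
section
/-!
# S4842: the degree modulo a prime `p` with `|C(z)| = 3 p` (helper890, for the row `PSp₁₀(2)`)

* `card_orb_le_two` : `|K| = 3`: an orbit of the normalizer on the characters of `K` has at most two elements;
* `mod_of_three`    : `p ≥ 7`, `p ∥ |G|`, `|C(z)| = 3 p`, `x` `p`-regular: `χ(1) ≡ ± 1, ± 2 (mod p)`.
-/

set_option autoImplicit false
set_option linter.unusedSectionVars false

namespace Cfsg.Agent.H890.OZ

open Cfsg Subgroup Finset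
open Cfsg.Agent.Characters.Core
open Cfsg.Agent.SmallSimple.ThetaSetup Cfsg.Agent.SmallSimple.ThetaOrtho Cfsg.Agent.SmallSimple.ThetaCount
open Cfsg.Agent.SmallSimple.TheoremC Cfsg.Agent.SmallSimple.TheoremCCor
open Cfsg.Agent.H732.VZ (One)
open Cfsg.Agent.H849.OZ

universe u

section orb

variable {G : Type u} [Group G] [Finite G] {p : ℕ} [Fact p.Prime] {P : Sylow p G} {K : Subgroup G}

/-- The orbit of the trivial character. -/
theorem card_orb_le_two (hK : IsComp p (P : Subgroup G) K) (h3 : Nat.card K = 3) (θ : IrrCharacter K) :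
    (orb P K (θ : K → ℂ)).card ≤ 2 := by
  classical
  have : Finite (IrrCharacter K) := finite_irr
  have := Fintype.ofFinite (IrrCharacter K)
  have hF : Fact (Nat.Prime 3) := ⟨Nat.prime_three⟩
  have hcyc : IsCyclic K := isCyclic_of_prime_card h3
  have hc : ∀ a b : K, a * b = b * a := fun a b => (IsCyclic.isMulCommutative (α := K)).is_comm.comm a b
  have hcard : Fintype.card (IrrCharacter K) = 3 := by
    rw [← Nat.card_eq_fintype_card, Characters.CCBasic.card_irr_of_comm hc, h3]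
  by_contra hlt
  have h1 : orb P K (θ : K → ℂ) = univ := by
    apply Finset.eq_univ_of_card
    have h2 := Finset.card_le_univ (orb P K (θ : K → ℂ))
    omega
  -- the trivial character
  have h1irr : IsIrrCharacter K (1 : K → ℂ) := Cfsg.Agent.Characters.Core.isIrr_one
  have h2 : (⟨1, h1irr⟩ : IrrCharacter K) ∈ orb P K (θ : K → ℂ) := by rw [h1]; exact mem_univ _
  obtain ⟨n, hn, h3⟩ := mem_orb.1 h2
  -- `θ` is trivial
  have h4 : (θ : K → ℂ) = 1 := by
    have h5 := congrArg (fun f : K → ℂ => tw f n⁻¹) h3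
    change tw (tw (θ : K → ℂ) n) n⁻¹ = tw (1 : K → ℂ) n⁻¹ at h5
    rw [← tw_mul hK _ hn (inv_mem hn), mul_inv_cancel, tw_one, tw_one_char hK (inv_mem hn)] at h5
    exact h5
  have h6 : (orb P K (θ : K → ℂ)).card ≤ 1 := by
    rw [Finset.card_le_one]
    intro a ha b hb
    obtain ⟨m, hm, hma⟩ := mem_orb.1 ha
    obtain ⟨m', hm', hmb⟩ := mem_orb.1 hb
    rw [h4, tw_one_char hK hm] at hma
    rw [h4, tw_one_char hK hm'] at hmb
    exact Subtype.ext (hma.symm.trans hmb)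
  omega

end orb

variable {G : Type u} [Group G] [Finite G] [IsSimpleGroup G] {p : ℕ}

/-- **The degree modulo a prime `p ≥ 7`, `p ∥ |G|`, `|C(z)| = 3 p`**, `x` `p`-regular. -/
theorem mod_of_three (hp : p.Prime) (h7 : 7 ≤ p) (hsq : ¬ p ^ 2 ∣ Nat.card G) (hG : Nat.card G ≠ p) {z : G}
    (hz : orderOf z = p) (hC : Nat.card (centralizer ({z} : Set G)) = 3 * p)
    {χ : IrrCharacter G} {x : G} (h : _root_.Cfsg.Agent.H732.VZ.One χ x) (hx : ¬ p ∣ orderOf x)
    (h4 : 4 ≤ Nat.card (centralizer ({x} : Set G))) :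
    ∃ ε m k : ℤ, (ε = 1 ∨ ε = -1) ∧ (m = 1 ∨ m = 2) ∧ (charDegree (χ : G → ℂ) : ℤ) = ε * m + p * k := by
  classical
  have hF : Fact p.Prime := ⟨hp⟩
  obtain ⟨P, hPz, hP⟩ := exists_sylow hp hsq hz
  obtain ⟨K, hK⟩ := exists_isComp P hP
  have hzP : z ∈ (P : Subgroup G) := by rw [hPz]; exact mem_zpowers z
  have hz1 : z ≠ 1 := by
    rintro rfl
    rw [orderOf_one] at hz
    exact hp.one_lt.ne hz
  have hd : p ∣ Nat.card G := hz ▸ _root_.orderOf_dvd_natCard z
  have hw2 := normalizer_ne hd hG (P := P) rfl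
  have hK3 : Nat.card K = 3 := by
    have h1 := H849.OZ.card_centralizer hK hP
    rw [← Blocks.CyclicOrtho.centralizer_eq P hP hzP hz1, hC] at h1
    have h2 := hp.pos
    nlinarith only [h7, h1]
  obtain ⟨θ, ε, hε, -, ⟨k, hk⟩, -⟩ := five hK hP h hx rfl (fun e t het ht he => arith h4 h7 hw2 het ht he)
  have hF3 : Fact (Nat.Prime 3) := ⟨Nat.prime_three⟩
  have hcyc : IsCyclic K := isCyclic_of_prime_card hK3
  have hc : ∀ a b : K, a * b = b * a := fun a b => (IsCyclic.isMulCommutative (α := K)).is_comm.comm a b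
  have h1 : ∀ θ' : IrrCharacter K, (θ' : K → ℂ) 1 = 1 := fun θ' => Characters.CCBasic.irr_apply_one_of_comm hc θ'.2
  have hm0 : 0 < (orb P K (θ : K → ℂ)).card := Finset.card_pos.2 ⟨θ, mem_orb.2 ⟨1, one_mem _, tw_one _⟩⟩
  have hm2 := card_orb_le_two hK hK3 θ
  rw [Finset.sum_congr rfl fun θ' _ => h1 θ', Finset.sum_const, nsmul_eq_mul, mul_one] at hk
  refine ⟨ε, ((orb P K (θ : K → ℂ)).card : ℤ), k, hε, by omega, ?_⟩
  have h8 := Cfsg.Agent.H686.CharKit.charDegree_irr χ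
  rw [hk] at h8
  exact_mod_cast h8

end Cfsg.Agent.H890.OZ
end

-- part: H890/OZ/RowSpTen
section
/-!
# One vanishing class: `PSp₁₀(2)` (helper890, S4842)

The sieve with T4 and the residues modulo 31 (isolated) and 17 (`C(e17) = 17 × S₃`) leaves the degrees 30720 and `2 ^ 20`;
T4 gives `c ≤ 7`.  `2 ^ 20`: a central element of a Sylow 2-subgroup gives `2 ^ 25 ≤ c`.  30720: the residue modulo 11 is
8, but `|C(e11)| = 33` allows only `± 1, ± 2`.
-/

set_option autoImplicit false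
set_option maxRecDepth 100000

open Cfsg Cfsg.Agent.Characters Cfsg.Agent.H732.VZ Cfsg.Agent.H604.OZ

namespace Cfsg.Agent.H890.OZ

open SpT

universe u

private noncomputable def _root_.Cfsg.Agent.LsF.f1cb3ae_17 : {f // @Cfsg.Agent.H672.OZ.isFull = f} := ⟨_, by first | (delta Cfsg.Agent.H672.OZ.isFull; rewrite [Cfsg.Agent.LsF.nmod_pat, Cfsg.Agent.LsF.npow_pat]; exact rfl) | exact rfl⟩
private noncomputable def _root_.Cfsg.Agent.LsF.f1cb3ae_18 : {f // @Cfsg.Agent.H417.Divs.divs = f} := ⟨_, by first | (delta Cfsg.Agent.H417.Divs.divs List.brecOn List.brecOn.go Cfsg.Agent.H417.Divs.divs._f; rewrite [Cfsg.Agent.LsF.nadd_pat, Cfsg.Agent.LsF.nmul_pat, Cfsg.Agent.LsF.npow_pat, Cfsg.Agent.LsF.map_eq, Cfsg.Agent.LsF.flatMap_eq, Cfsg.Agent.LsF.range_eq]; (try delta Cfsg.Agent.H417.Divs.divs.match_1); (try delta List.casesOn); first | dsimp -zeta only | exact rfl) | exact rfl⟩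
/-- **`Sp₁₀(2)`.** -/
theorem row_sp10 [IsSimpleGroup Sp10] : H730.OZ.Row Sp10 := by
  have hN := card_sp
  have hna : ¬ IsMulCommutative Sp10 := fun h => by
    have h1 : ea * eb = eb * ea := h.is_comm.comm ea eb
    exact absurd h1 (by (refine of_decide_eq_true ?_; (try (rewrite [Cfsg.Agent.LsF.zdecEq_eq, Cfsg.Agent.LsF.dMat_eq, Cfsg.Agent.LsF.dNot_eq, Cfsg.Agent.LsF.dSubEq_eq, Cfsg.Agent.LsF.decide_eq])); decide +kernel))
  refine row_of fun χ x ho => ?_
  have h4 : 4 ≤ cent x := four_le_cent ho (by rw [hN]; norm_num) (by rw [hN]; norm_num)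
  -- the residue modulo 17
  have hx17 : ¬ 17 ∣ orderOf x := by
    rcases Nat.lt_or_ge 17 (cent x) with h1 | h1
    · exact H733.OZ.not_dvd_orderOf ho (r := 17) (n := 1) (by norm_num) (by rw [hN]; norm_num) (by rw [hN]; norm_num)
        (by rw [pow_one]; exact h1)
    · exact H849.OZ.not_dvd_of_le (by norm_num) (by rw [hN]; norm_num) order17 (by rw [cent17]; norm_num) h1
  have h17 := H849.OZ.mod_of_classes (p := 17) (by norm_num) (by norm_num) (by rw [hN]; norm_num)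
    (by rw [hN]; norm_num) order17 cls17 ho hx17 h4
  have hiso : ∀ r ∈ [17, 31], charDegree (χ : Sp10 → ℂ) % r = 0 ∨
      charDegree (χ : Sp10 → ℂ) % r = 1 ∨ charDegree (χ : Sp10 → ℂ) % r = r - 1 := by
    intro r hr
    simp only [List.mem_cons, List.not_mem_nil, or_false] at hr
    rcases hr with rfl | rfl
    · exact Or.inr h17
    · exact H672.OZ.iso_mod_of ho (by norm_num) (by norm_num) (by rw [hN]; norm_num) (by rw [hN]; norm_num) order31
        cent31 h4
  have hm := H672.OZ.mem_of_sieve4 ho hN (l := [(2,25),(3,6),(5,2),(7,1),(11,1),(17,1),(31,1)]) (by decide +kernel)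
    (by
      intro x hx
      simp only [List.mem_cons, List.not_mem_nil, or_false] at hx
      rcases hx with rfl | rfl | rfl | rfl | rfl | rfl | rfl <;> norm_num)
    (by decide +kernel) h4 hiso (D := [30720, 1048576]) (by (delta Cfsg.Agent.H672.OZ.okd4 Cfsg.Agent.H672.OZ.okd Cfsg.Agent.H672.OZ.okT4 Cfsg.Agent.H672.OZ.okMod Cfsg.Agent.H672.OZ.okFull; set_option synthInstance.maxSize 100000 in exact Cfsg.Agent.Lib.Refl.of (by ((try (rewrite [Cfsg.Agent.LsF.f1cb3ae_17.2, Cfsg.Agent.LsF.f1cb3ae_18.2])); decide +kernel))))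
  set d := charDegree (χ : Sp10 → ℂ) with hd
  have hd2 : d = 30720 ∨ d = 1048576 := by simpa only [List.mem_cons, List.not_mem_nil, or_false] using hm
  -- `c ≤ 7`
  have hc : cent x ≤ 7 := by
    have := H672.OZ.cent_le_of ho hN (r := 7) (n := 1) (d := d) (by norm_num) hd.symm (by norm_num) (by norm_num)
      (by rcases hd2 with h | h <;> rw [h] <;> norm_num)
    omega
  rcases hd2 with hd2 | hd2
  · -- the residue modulo 11
    have hx11 : ¬ 11 ∣ orderOf x :=
      H849.OZ.not_dvd_of_le (by norm_num) (by rw [hN]; norm_num) order11 (by rw [cent11]; norm_num)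
        (show cent x ≤ 11 by omega)
    obtain ⟨ε, m, k, hε, hm, h⟩ := mod_of_three (p := 11) (by norm_num) (by norm_num) (by rw [hN]; norm_num)
      (by rw [hN]; norm_num) order11 cent11 ho hx11 h4
    rw [← hd, hd2] at h
    rcases hε with rfl | rfl <;> rcases hm with rfl | rfl <;> push_cast at h <;> (clear * - h; omega)
  · have h7 := H348.OZ.le_cent_of_prime_pow hna ho Nat.prime_two (n := 25) (a := 20) (by norm_num)
      (by rw [hN]; norm_num) (by rw [hN]; norm_num) (by rw [← hd, hd2]; norm_num)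
    norm_num only [] at h7
    omega

/-- **`PSp₁₀(2)`.** -/
theorem row_psp10_two {S : Type u} [Group S] [Finite S] (hs : IsSimpleGroup S) {F : Type*} [Field F] [Fintype F]
    (hF : Fintype.card F = 2) (h : Nonempty (S ≃* PSp 5 F)) : H730.OZ.Row S := by
  obtain ⟨e⟩ := h
  have e' : S ≃* Sp10 := e.trans (equiv hF)
  have : Nontrivial Sp10 := e'.symm.toEquiv.nontrivial
  have : IsSimpleGroup Sp10 := IsSimpleGroup.isSimpleGroup_of_surjective e'.toMonoidHom e'.surjective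
  exact H730.OZ.Row.congr e' row_sp10

end Cfsg.Agent.H890.OZ
end

-- part: H366/OZ/SpFin
section
/-!
# S4842: the family `IsPSp`, modulo `PSp_6(q)` (`q ≠ 3`), `PSp_8(q)` (`q ≥ 3`), `PSp_12(2)` (helper366)
-/

set_option autoImplicit false

open Cfsg Cfsg.Agent.H730.OZ Cfsg.Agent.H477.OZ

namespace Cfsg.Agent.H366.OZ

/-- the remaining rows -/
theorem pspRows_of
    (three : ∀ (F : Type) [Field F] [Fintype F], 4 ≤ Fintype.card F → IsSimpleGroup (PSp 3 F) → Row (PSp 3 F))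
    (three_two : ∀ (F : Type) [Field F] [Fintype F], Fintype.card F = 2 → IsSimpleGroup (PSp 3 F) → Row (PSp 3 F))
    (four : ∀ (F : Type) [Field F] [Fintype F], 3 ≤ Fintype.card F → IsSimpleGroup (PSp 4 F) → Row (PSp 4 F))
    (six_two : ∀ (F : Type) [Field F] [Fintype F], Fintype.card F = 2 → IsSimpleGroup (PSp 6 F) → Row (PSp 6 F)) :
    PspRows where
  two F _ _ h4 h5 hs := Cfsg.Agent.H769.OZ.row_psp4 F h4 h5 hs
  two_three F _ _ hF hs := Cfsg.Agent.H933.OZ.U42.row_psp43 hF (MulEquiv.refl _)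
  two_five F _ _ hF hs := Cfsg.Agent.H245.OZ.row_psp45 hs hF (MulEquiv.refl _)
  three := three
  three_two := three_two
  three_three F _ _ hF hs := Cfsg.Agent.H333.OZ.row_psp6_3 F hF hs
  four := four
  four_two F _ _ hF hs := Cfsg.Agent.H348.OZ.row_psp8_two hs hF ⟨MulEquiv.refl _⟩
  five_two F _ _ hF hs := Cfsg.Agent.H890.OZ.row_psp10_two hs hF ⟨MulEquiv.refl _⟩
  six_two := six_two
  cong F _ _ n p _ hn hex hs := spCong_psp (MulEquiv.refl _) (by omega)

end Cfsg.Agent.H366.OZ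
end

-- part: H769/OZ/SpTD
section
/-!
# `PSp_2m(q)`: the coroots and the diagonal automorphisms (helper769, S4842)

* `tt : (Fin m → Fˣ) →* PSp m F` : the torus, `T_eq`;
* `hc j : Fˣ →* PSp m F` : the coroots, `td_sp : TD T n (Ap false m) hc`;
* `dP a c : PSp m F ≃* PSp m F` : conjugation by a diagonal similitude, `dP_apply`, `dia_dP`, `dP_n`;
* `dI j x` : the fundamental coweights, `dia_dI`, `dI_self`, `dI_ne`.
-/

set_option autoImplicit false
set_option linter.unusedSectionVars false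

namespace Cfsg.Agent.H769.OZ

open CoxeterSystem Cfsg Cfsg.Agent.ChevalleyStructure.CoxeterGeom Cfsg.Agent.Tits.Roots
open Cfsg.Agent.Tits.Core Cfsg.Agent.Tits.RootComb Cfsg.Agent.Nodes.TypeC
open Cfsg.Agent.Nodes Cfsg.Agent.Nodes.Comb Cfsg.Agent.Nodes.Reps Cfsg.Agent.Nodes.WittRoot Cfsg.Agent.Nodes.BNOf
open Cfsg.Agent.Nodes.WittRGD Cfsg.Agent.Nodes.WittAll Cfsg.Agent.Nodes.OppDec
open Cfsg.Agent.TitsThree Cfsg.Agent.TitsThree.Siegel Cfsg.Agent.TitsThree.WittFrame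
  Cfsg.Agent.TitsThree.WittWeyl Cfsg.Agent.TitsThree.FrameCN Cfsg.Agent.TitsThree.SpIdent
open Cfsg.Agent.ChevalleyStructure.SL2Hom Cfsg.Agent.H985.VZ Cfsg.Agent.H62.FrameSL
open Cfsg.Agent.ClassicalGeometry Cfsg.Agent.ClassicalGeometry.SympBasic Cfsg.Agent.H200.VZ
open Matrix

variable {F : Type*} [Field F] {m : ℕ}

/-! ### Diagonal maps -/

/-- the index of a frame vector -/
def ix (x : Fin m × Bool) : Fin m ⊕ Fin m := if x.2 then Sum.inr x.1 else Sum.inl x.1

theorem b_eq (x : Fin m × Bool) : (frame m F).b x = Pi.single (ix x) 1 := by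
  obtain ⟨k, s⟩ := x
  cases s <;> rfl

/-- maps agreeing on the frame are equal -/
theorem lin_ext {g k : (Fin m ⊕ Fin m → F) ≃ₗ[F] (Fin m ⊕ Fin m → F)}
    (h : ∀ x, g ((frame m F).b x) = k ((frame m F).b x)) : g = k := by
  apply LinearEquiv.toLinearMap_injective
  apply LinearMap.pi_ext'
  intro i
  apply LinearMap.ext_ring
  rcases i with i | i
  · exact h (i, false)
  · exact h (i, true)

/-- the diagonal map -/
def dm (u : Fin m ⊕ Fin m → Fˣ) : (Fin m ⊕ Fin m → F) ≃ₗ[F] (Fin m ⊕ Fin m → F) where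
  toFun v s := (u s : F) * v s
  invFun v s := ((u s)⁻¹ : Fˣ) * v s
  map_add' v w := by funext s; simp [mul_add]
  map_smul' c v := by funext s; simp [mul_left_comm]
  left_inv v := by funext s; simp
  right_inv v := by funext s; simp

theorem dm_apply (u : Fin m ⊕ Fin m → Fˣ) (v : Fin m ⊕ Fin m → F) (s : Fin m ⊕ Fin m) : dm u v s = (u s : F) * v s := rfl

theorem dm_mul (u u' : Fin m ⊕ Fin m → Fˣ) : (dm (u * u') : (Fin m ⊕ Fin m → F) ≃ₗ[F] _) = dm u * dm u' := by
  ext1 v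
  funext s
  change _ = (u s : F) * ((u' s : F) * v s)
  rw [dm_apply, Pi.mul_apply, Units.val_mul, mul_assoc]

theorem dm_one : (dm 1 : (Fin m ⊕ Fin m → F) ≃ₗ[F] _) = 1 := by
  ext1 v
  funext s
  change _ = v s
  rw [dm_apply, Pi.one_apply, Units.val_one, one_mul]

/-- the homomorphism -/
def dmH : (Fin m ⊕ Fin m → Fˣ) →* ((Fin m ⊕ Fin m → F) ≃ₗ[F] (Fin m ⊕ Fin m → F)) where
  toFun := dm
  map_one' := dm_one
  map_mul' := dm_mul

theorem dm_inv (u : Fin m ⊕ Fin m → Fˣ) : (dm u)⁻¹ = (dm u⁻¹ : (Fin m ⊕ Fin m → F) ≃ₗ[F] _) := (map_inv dmH u).symm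

theorem dm_comm (u u' : Fin m ⊕ Fin m → Fˣ) : dm u * dm u' = (dm u' * dm u : (Fin m ⊕ Fin m → F) ≃ₗ[F] _) := by
  rw [← dm_mul, mul_comm, dm_mul]

theorem dm_b (u : Fin m ⊕ Fin m → Fˣ) (x : Fin m × Bool) :
    dm u ((frame m F).b x) = (u (ix x) : F) • (frame m F).b x := by
  funext s
  rw [dm_apply, b_eq, Pi.smul_apply, smul_eq_mul]
  by_cases h : s = ix x
  · rw [h]
  · rw [Pi.single_eq_of_ne h, mul_zero, mul_zero]

/-- the weights of a similitude -/
def w2 (a : Fin m → Fˣ) (c : Fˣ) : Fin m ⊕ Fin m → Fˣ := Sum.elim (fun k => c * (a k)⁻¹) a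

/-- the weights on the frame -/
def wf (a : Fin m → Fˣ) (c : Fˣ) (x : Fin m × Bool) : Fˣ := if x.2 then a x.1 else c * (a x.1)⁻¹

theorem w2_ix (a : Fin m → Fˣ) (c : Fˣ) (x : Fin m × Bool) : w2 a c (ix x) = wf a c x := by
  obtain ⟨k, s⟩ := x
  cases s <;> rfl

theorem w2_mul (a a' : Fin m → Fˣ) (c c' : Fˣ) : w2 (a * a') (c * c') = w2 a c * w2 a' c' := by
  funext s
  rcases s with k | k
  · simp only [w2, Sum.elim_inl, Pi.mul_apply]
    rw [_root_.mul_inv, mul_mul_mul_comm]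
  · rfl

theorem w2_one : w2 (1 : Fin m → Fˣ) 1 = 1 := by
  funext s
  rcases s with k | k
  · simp [w2]
  · rfl

theorem w2_inv (a : Fin m → Fˣ) (c : Fˣ) : (w2 a c)⁻¹ = w2 a⁻¹ c⁻¹ := by
  rw [inv_eq_iff_mul_eq_one, ← w2_mul, mul_inv_cancel, mul_inv_cancel, w2_one]

theorem wf_ng (a : Fin m → Fˣ) (c : Fˣ) (x : Fin m × Bool) : wf a c (ng x) = c * (wf a c x)⁻¹ := by
  obtain ⟨k, s⟩ := x
  cases s
  · simp [wf, ng]
  · simp [wf, ng]

theorem h_dm (a : Fin m → Fˣ) (c : Fˣ) (v w : Fin m ⊕ Fin m → F) :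
    (_root_.Cfsg.Agent.TitsThree.SpIdent.form m F).h (dm (w2 a c) v) (dm (w2 a c) w) = c * (_root_.Cfsg.Agent.TitsThree.SpIdent.form m F).h v w := by
  rw [form_h, form_h, sympForm_eq_sum, sympForm_eq_sum, Finset.mul_sum]
  refine Finset.sum_congr rfl fun k _ => ?_
  simp only [dm_apply, w2, Sum.elim_inl, Sum.elim_inr, Units.val_mul, Units.val_inv_eq_inv_val]
  have := (a k).ne_zero
  field_simp

/-- conjugation by a similitude preserves the isometries -/
theorem conj_mem (a : Fin m → Fˣ) (c : Fˣ) {g : (Fin m ⊕ Fin m → F) ≃ₗ[F] (Fin m ⊕ Fin m → F)}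
    (hg : g ∈ isos (_root_.Cfsg.Agent.TitsThree.SpIdent.form m F)) : dm (w2 a c) * g * (dm (w2 a c))⁻¹ ∈ isos (_root_.Cfsg.Agent.TitsThree.SpIdent.form m F) := by
  intro v w
  change (_root_.Cfsg.Agent.TitsThree.SpIdent.form m F).h (dm (w2 a c) (g ((dm (w2 a c))⁻¹ v))) (dm (w2 a c) (g ((dm (w2 a c))⁻¹ w))) = _
  rw [h_dm, hg, dm_inv, w2_inv, h_dm, ← mul_assoc, ← Units.val_mul, mul_inv_cancel, Units.val_one, one_mul]

/-- the diagonal isometries -/
def da : (Fin m → Fˣ) →* isos (_root_.Cfsg.Agent.TitsThree.SpIdent.form m F) where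
  toFun a := ⟨dm (w2 a 1), fun v w => by
    have := h_dm a 1 v w
    rwa [Units.val_one, one_mul] at this⟩
  map_one' := Subtype.ext (by change dm (w2 1 1) = 1; rw [w2_one, dm_one])
  map_mul' a a' := Subtype.ext (by
    change dm (w2 (a * a') 1) = dm (w2 a 1) * dm (w2 a' 1)
    rw [← dm_mul, ← w2_mul, mul_one])

theorem coe_da (a : Fin m → Fˣ) : ((da a : isos (_root_.Cfsg.Agent.TitsThree.SpIdent.form m F)) : (Fin m ⊕ Fin m → F) ≃ₗ[F] _) = dm (w2 a 1) := rfl

/-- the torus -/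
noncomputable def tt : (Fin m → Fˣ) →* PSp m F := toPSp.comp da

theorem tt_apply (a : Fin m → Fˣ) : (tt a : PSp m F) = toPSp (da a) := rfl

theorem tt_mem (a : Fin m → Fˣ) : (tt a : PSp m F) ∈ WittModel.T (KInstSp.model m F) := by
  refine Subgroup.mem_map_of_mem _ (Subgroup.mem_subgroupOf.2
    ⟨(da a).2, fun x => ⟨(w2 a 1 (ix x) : Fˣ), Units.ne_zero _, ?_⟩⟩)
  exact dm_b _ x

theorem T_eq : WittModel.T (KInstSp.model m F) = (tt (m := m) (F := F)).range := by
  apply le_antisymm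
  · rintro _ ⟨⟨g, hg⟩, hg', rfl⟩
    obtain ⟨-, hm⟩ := Subgroup.mem_subgroupOf.1 hg'
    change Mono (frame m F) g id at hm
    choose l hl0 hl using hm
    refine ⟨fun k => Units.mk0 (l (k, true)) (hl0 _), ?_⟩
    change toPSp _ = toPSp _
    congr 1
    apply Subtype.ext
    change dm _ = g
    apply lin_ext
    intro x
    rw [dm_b, w2_ix, hl]
    congr 1
    obtain ⟨k, s⟩ := x
    cases s
    · have h1 := hg ((frame m F).b (k, true)) ((frame m F).b (k, false))
      change (_root_.Cfsg.Agent.TitsThree.SpIdent.form m F).h (g _) (g _) = _ at h1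
      rw [hl, hl] at h1
      simp only [id, (_root_.Cfsg.Agent.TitsThree.SpIdent.form m F).smul_left, (_root_.Cfsg.Agent.TitsThree.SpIdent.form m F).smul_right, form_σ, Cfsg.Agent.H62.FrameSL.ht, mul_one] at h1
      simp only [wf, Bool.false_eq_true, if_false, one_mul, Units.val_inv_eq_inv_val, Units.val_mk0]
      exact (eq_inv_of_mul_eq_one_right h1).symm
    · rfl
  · rintro _ ⟨a, rfl⟩
    exact tt_mem a

/-! ### The Weyl elements -/

/-- the action of `n i` on the weights -/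
def sA (i : Fin m) (a : Fin m → Fˣ) (c : Fˣ) (k : Fin m) : Fˣ := wf a c (sg i (k, true))

theorem wf_sA (i : Fin m) (a : Fin m → Fˣ) (c : Fˣ) (x : Fin m × Bool) : wf (sA i a c) c x = wf a c (sg i x) := by
  obtain ⟨k, s⟩ := x
  cases s
  · have h1 : ((k, false) : Fin m × Bool) = ng (k, true) := rfl
    rw [h1, wf_ng, sg_ng, wf_ng]
    rfl
  · rfl

theorem dm_nn (i : Fin m) (a : Fin m → Fˣ) (c : Fˣ) :
    (WittRGD.nn (frame m F) (adm 1) i)⁻¹ * dm (w2 a c) * WittRGD.nn (frame m F) (adm 1) i = dm (w2 (sA i a c) c) := by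
  rw [mul_assoc, inv_mul_eq_iff_eq_mul]
  apply lin_ext
  intro x
  obtain ⟨l, -, hl⟩ := mono_nn (Fr := frame m F) (p0 := adm 1) one_ne_zero i x
  change dm (w2 a c) (WittRGD.nn (frame m F) (adm 1) i _) = WittRGD.nn (frame m F) (adm 1) i (dm _ _)
  rw [dm_b, w2_ix, wf_sA, map_smul, hl, map_smul, dm_b, w2_ix, smul_comm]

theorem nn_dm (i : Fin m) (a : Fin m → Fˣ) (c : Fˣ) : (WittRGD.nn (frame m F) (adm 1) i)⁻¹ *
    (dm (w2 a c) * WittRGD.nn (frame m F) (adm 1) i * (dm (w2 a c))⁻¹) = dm (w2 (sA i a c * a⁻¹) 1) := by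
  rw [← mul_assoc, ← mul_assoc, dm_nn, dm_inv, ← dm_mul, w2_inv, ← w2_mul, mul_inv_cancel]

section nodes

variable {p : ℕ} (hA : AmbT (frame m F) p (KInstSp.model m F).I)

/-- the Weyl elements of the root group datum -/
noncomputable abbrev nS (i : Fin m) : PSp m F :=
  (KInstSp.model m F).φ ⟨WittRGD.nn (frame m F) (adm 1) i, WittAll.nn_mem hA (adm 1) i⟩

theorem nS_conj (i : Fin m) (a : Fin m → Fˣ) : (nS hA i)⁻¹ * tt a * nS hA i = tt (sA i a 1) := by
  have key : ∀ g : isos (_root_.Cfsg.Agent.TitsThree.SpIdent.form m F), g.1 = WittRGD.nn (frame m F) (adm 1) i →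
      (toPSp g)⁻¹ * toPSp (da a) * toPSp g = (toPSp (da (sA i a 1)) : PSp m F) := by
    intro g hg
    rw [← map_inv, ← map_mul, ← map_mul]
    congr 1
    apply Subtype.ext
    change g.1⁻¹ * dm (w2 a 1) * g.1 = _
    rw [hg]
    exact dm_nn i a 1
  exact key _ rfl

end nodes

/-! ### The coroots -/

/-- the exponents of the coroots -/
def Ec (j k : ℕ) : ℤ := if k = j then 1 else if j + 1 = k then -1 else 0

/-- the coroots as functions -/
def coH (j : Fin m) : Fˣ →* (Fin m → Fˣ) where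
  toFun x k := x ^ Ec j k
  map_one' := by
    funext k
    simp
  map_mul' x y := by
    funext k
    exact mul_zpow x y _

theorem coH_apply (j : Fin m) (x : Fˣ) (k : Fin m) : coH j x k = x ^ Ec j k := rfl

/-- the coroots in `PSp` -/
noncomputable def hc (j : Fin m) : Fˣ →* PSp m F := tt.comp (coH j)

theorem hc_apply (j : Fin m) (x : Fˣ) : (hc j x : PSp m F) = tt (coH j x) := rfl

theorem sA_up {i : Fin m} (hi : (i : ℕ) + 1 < m) (a : Fin m → Fˣ) (c : Fˣ) (k : Fin m) :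
    sA i a c k = if (k : ℕ) = i then a ⟨i + 1, hi⟩ else if (k : ℕ) = i + 1 then a i else a k := by
  unfold sA sg
  rw [dif_pos hi]
  by_cases h1 : k = i
  · subst h1
    simp [wf]
  · have h1' : (k : ℕ) ≠ i := fun h => h1 (Fin.ext h)
    by_cases h2 : (k : ℕ) = i + 1
    · have h2' : k = ⟨i + 1, hi⟩ := Fin.ext h2
      rw [if_neg h1, if_neg h1', if_pos h2, if_pos h2']
      rfl
    · have h2' : k ≠ ⟨i + 1, hi⟩ := fun h => h2 (congrArg Fin.val h)
      rw [if_neg h1, if_neg h1', if_neg h2, if_neg h2']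
      rfl

theorem sA_last {i : Fin m} (hi : ¬ (i : ℕ) + 1 < m) (a : Fin m → Fˣ) (c : Fˣ) (k : Fin m) :
    sA i a c k = if (k : ℕ) = i then c * (a i)⁻¹ else a k := by
  unfold sA sg
  rw [dif_neg hi]
  by_cases h1 : k = i
  · subst h1
    simp [wf]
  · have h1' : (k : ℕ) ≠ i := fun h => h1 (Fin.ext h)
    rw [if_neg h1, if_neg h1']
    rfl

theorem Ap_eq (j i : Fin m) : Ap false m j i = if (i : ℕ) = j then 2 else if (j : ℕ) + 1 = i then
    (if (i : ℕ) + 1 = m then -2 else -1) else if (i : ℕ) + 1 = j then -1 else 0 := by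
  unfold Ap
  simp [Fin.ext_iff]

theorem sA_co (i j : Fin m) (x : Fˣ) : sA i (coH j x) 1 = coH j x * (coH i x) ^ (-Ap false m j i) := by
  funext k
  rw [Pi.mul_apply, Pi.pow_apply, coH_apply, coH_apply, ← _root_.zpow_mul, ← _root_.zpow_add, Ap_eq]
  have hk := k.2
  have hj := j.2
  have hi' := i.2
  by_cases hi : (i : ℕ) + 1 < m
  · rw [sA_up hi]
    simp only [coH_apply]
    rw [← apply_ite (fun z : ℤ => x ^ z), ← apply_ite (fun z : ℤ => x ^ z)]
    congr 1
    unfold Ec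
    split_ifs <;> omega
  · rw [sA_last hi]
    simp only [coH_apply, one_mul]
    rw [← _root_.zpow_neg, ← apply_ite (fun z : ℤ => x ^ z)]
    congr 1
    unfold Ec
    split_ifs <;> omega

theorem single_mem (d : ℕ) : ∀ (k : Fin m) (x : Fˣ), (k : ℕ) + d + 1 = m →
    Pi.mulSingle k x ∈ Subgroup.closure {a : Fin m → Fˣ | ∃ j x, a = coH j x} := by
  induction d with
  | zero =>
    intro k x hk
    refine Subgroup.subset_closure ⟨k, x, ?_⟩
    funext l
    have hl := l.2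
    rw [coH_apply]
    by_cases h : l = k
    · subst h
      simp [Ec]
    · have h' : (l : ℕ) ≠ k := fun e => h (Fin.ext e)
      have h2 : ¬ ((k : ℕ) + 1 = l) := by omega
      simp [Ec, Pi.mulSingle_eq_of_ne h, h', h2]
  | succ d ih =>
    intro k x hk
    have hk1 : (k : ℕ) + 1 < m := by omega
    have h1 := ih ⟨k + 1, hk1⟩ x (by simp only; omega)
    have h2 : Pi.mulSingle k x = coH k x * Pi.mulSingle (⟨k + 1, hk1⟩ : Fin m) x := by
      funext l
      rw [Pi.mul_apply, coH_apply]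
      by_cases h : l = k
      · subst h
        have h3 : l ≠ ⟨l + 1, hk1⟩ := fun e => by have := congrArg Fin.val e; simp at this
        simp [Ec, Pi.mulSingle_eq_of_ne h3]
      · have h' : (l : ℕ) ≠ k := fun e => h (Fin.ext e)
        by_cases h4 : l = ⟨k + 1, hk1⟩
        · subst h4
          rw [Pi.mulSingle_eq_of_ne h, Pi.mulSingle_eq_same]
          simp [Ec]
        · have h5 : ¬ ((k : ℕ) + 1 = l) := fun e => h4 (Fin.ext e.symm)
          simp [Ec, Pi.mulSingle_eq_of_ne h, Pi.mulSingle_eq_of_ne h4, h', h5]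
    rw [h2]
    exact mul_mem (Subgroup.subset_closure ⟨k, x, rfl⟩) h1

theorem mem_closure_co (a : Fin m → Fˣ) : a ∈ Subgroup.closure {a : Fin m → Fˣ | ∃ j x, a = coH j x} := by
  rw [← Finset.univ_prod_mulSingle a]
  refine Subgroup.prod_mem _ fun k _ => single_mem (m - k - 1) k _ ?_
  have := k.2
  omega

/-- **The torus data of `PSp_2m`.** -/
theorem td_sp {p : ℕ} (hA : AmbT (frame m F) p (KInstSp.model m F).I) :
    TD (WittModel.T (KInstSp.model m F)) (fun i => nS hA i) (Ap false m) (hc (m := m) (F := F)) where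
  mem j x := tt_mem _
  conj i j x := by
    rw [hc_apply, nS_conj, sA_co, map_mul, map_zpow]
    rfl
  gen := by
    rw [T_eq]
    rintro _ ⟨a, rfl⟩
    have h1 : Subgroup.closure {a : Fin m → Fˣ | ∃ j x, a = coH j x} ≤
        (Subgroup.closure {y : PSp m F | ∃ j x, y = hc j x}).comap tt := by
      rw [Subgroup.closure_le]
      rintro _ ⟨j, x, rfl⟩
      exact Subgroup.subset_closure ⟨j, x, rfl⟩
    exact h1 (mem_closure_co a)

/-! ### Diagonal automorphisms from the simple root groups -/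

section dia

variable {I W Y : Type*} [Fintype I] [DecidableEq I] [Group W] [Group Y] {M : CoxeterMatrix I}
  {cs : CoxeterSystem M W} {A : I → I → ℤ} {h : IsCartan M A} {p : ℕ} {T : Subgroup Y} {n : I → Y}
  {X : (I → ℤ) → Subgroup Y}

theorem rp_dia {hN : NSys M T n} {d : Y ≃* Y} (hT : ∀ t ∈ T, d t = t) (hn : ∀ i, (n i)⁻¹ * d (n i) ∈ T) {w : W} {g : Y}
    (hg : Rp cs hN w g) : g⁻¹ * d g ∈ T := by
  obtain ⟨ω, rfl⟩ := cs.wordProd_surjective w
  induction ω generalizing g with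
  | nil =>
    rw [wordProd_nil] at hg
    rw [hT g hg.mem_of_one, inv_mul_cancel]
    exact one_mem _
  | cons i ω ih =>
    rw [wordProd_cons] at hg
    have h1 : Rp cs hN (cs.wordProd ω) ((n i)⁻¹ * g) := by
      have := (rp_simple cs hN i).inv.mul hg
      rwa [inv_mul_cancel_left] at this
    have h2 := ih h1
    have h3 : g⁻¹ * d g = ((n i)⁻¹ * g)⁻¹ * ((n i)⁻¹ * d (n i)) * ((n i)⁻¹ * g) * (((n i)⁻¹ * g)⁻¹ * d ((n i)⁻¹ * g)) := by
      rw [map_mul, map_inv]
      group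
    rw [h3]
    refine mul_mem ?_ h2
    have := (Subgroup.mem_normalizer_iff.1 (h1.inv.mem_normalizer) ((n i)⁻¹ * d (n i))).1 (hn i)
    rwa [inv_inv] at this

/-- it suffices to check the simple root groups -/
theorem dia_of (R : RGD cs h p T n X) {d : Y ≃* Y} (hT : ∀ t ∈ T, d t = t) (hX : ∀ i, ∀ u ∈ X (sr i), d u ∈ X (sr i))
    (hn : ∀ i, (n i)⁻¹ * d (n i) ∈ T) : Dia cs h T n X d where
  tor := hT
  nn := hn
  root := by
    rintro _ ⟨w, i, rfl⟩ u hu
    obtain ⟨g, hg⟩ := exists_rp cs R.nsys w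
    have h1 : g⁻¹ * u * g ∈ X (sr i) := by
      have := R.conj_mem' hg (⟨w, i, rfl⟩ : IsRoot cs h (rep cs h w (sr i))) hu
      rwa [rep_inv_apply] at this
    have h2 := hX i _ h1
    have h3 : Rp cs R.nsys w (d g) := by
      have := hg.mul_mem_right (rp_dia hT hn hg)
      rwa [mul_inv_cancel_left] at this
    have h4 := R.conj_mem h3 (isRoot_sr cs h i) h2
    rw [map_mul, map_mul, map_inv] at h4
    have h5 : d g * ((d g)⁻¹ * d u * d g) * (d g)⁻¹ = d u := by group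
    rwa [h5] at h4

end dia

/-! ### Conjugation by diagonal similitudes -/

/-- on the isometries -/
def cI (a : Fin m → Fˣ) (c : Fˣ) : isos (_root_.Cfsg.Agent.TitsThree.SpIdent.form m F) →* isos (_root_.Cfsg.Agent.TitsThree.SpIdent.form m F) where
  toFun g := ⟨dm (w2 a c) * g.1 * (dm (w2 a c))⁻¹, conj_mem a c g.2⟩
  map_one' := Subtype.ext (by change dm (w2 a c) * 1 * (dm (w2 a c))⁻¹ = 1; rw [mul_one, mul_inv_cancel])
  map_mul' g k := Subtype.ext (by
    change dm (w2 a c) * (g.1 * k.1) * (dm (w2 a c))⁻¹ =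
      dm (w2 a c) * g.1 * (dm (w2 a c))⁻¹ * (dm (w2 a c) * k.1 * (dm (w2 a c))⁻¹)
    group)

theorem coe_cI (a : Fin m → Fˣ) (c : Fˣ) (g : isos (_root_.Cfsg.Agent.TitsThree.SpIdent.form m F)) :
    (cI a c g).1 = dm (w2 a c) * g.1 * (dm (w2 a c))⁻¹ := rfl

theorem cI_ker (a : Fin m → Fˣ) (c : Fˣ) : (toPSp (m := m) (F := F)).ker ≤ (toPSp.comp (cI a c)).ker := by
  intro g hg
  obtain ⟨x, -, hx⟩ := exists_smul_of_toPSp_eq_one (MonoidHom.mem_ker.1 hg)
  rw [MonoidHom.mem_ker, MonoidHom.comp_apply]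
  have h1 : cI a c g = g := by
    apply Subtype.ext
    rw [coe_cI, mul_inv_eq_iff_eq_mul]
    ext1 v
    change dm (w2 a c) (g.1 v) = g.1 (dm (w2 a c) v)
    rw [hx, hx, map_smul]
  rw [h1]
  exact MonoidHom.mem_ker.1 hg

/-- on `PSp` -/
noncomputable def lP (a : Fin m → Fˣ) (c : Fˣ) : PSp m F →* PSp m F :=
  (toPSp (m := m) (F := F)).liftOfSurjective toPSp_surjective ⟨toPSp.comp (cI a c), cI_ker a c⟩

theorem lP_apply (a : Fin m → Fˣ) (c : Fˣ) (g : isos (_root_.Cfsg.Agent.TitsThree.SpIdent.form m F)) : lP a c (toPSp g) = toPSp (cI a c g) :=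
  MonoidHom.liftOfRightInverse_comp_apply _ _ _ _ g

theorem lP_lP (a : Fin m → Fˣ) (c : Fˣ) : (lP a⁻¹ c⁻¹).comp (lP a c) = MonoidHom.id (PSp m F) := by
  refine MonoidHom.ext fun y => ?_
  obtain ⟨g, rfl⟩ := toPSp_surjective y
  rw [MonoidHom.comp_apply, lP_apply, lP_apply, MonoidHom.id_apply]
  congr 1
  apply Subtype.ext
  rw [coe_cI, coe_cI, ← w2_inv, ← dm_inv]
  group

/-- **the automorphism** -/
noncomputable def dP (a : Fin m → Fˣ) (c : Fˣ) : PSp m F ≃* PSp m F :=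
  MonoidHom.toMulEquiv (lP a c) (lP a⁻¹ c⁻¹) (lP_lP a c) (by
    have := lP_lP (F := F) a⁻¹ c⁻¹
    rwa [inv_inv, inv_inv] at this)

theorem dP_apply (a : Fin m → Fˣ) (c : Fˣ) (g : isos (_root_.Cfsg.Agent.TitsThree.SpIdent.form m F)) : dP a c (toPSp g) = toPSp (cI a c g) := lP_apply a c g

theorem dP_T (a : Fin m → Fˣ) (c : Fˣ) {t : PSp m F} (ht : t ∈ WittModel.T (KInstSp.model m F)) : dP a c t = t := by
  rw [T_eq] at ht
  obtain ⟨b, rfl⟩ := ht
  rw [tt_apply, dP_apply]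
  congr 1
  apply Subtype.ext
  rw [coe_cI, coe_da, dm_comm, mul_inv_cancel_right]

section auto

variable {p : ℕ} (hA : AmbT (frame m F) p (KInstSp.model m F).I)

theorem dP_n (a : Fin m → Fˣ) (c : Fˣ) (i : Fin m) : (nS hA i)⁻¹ * dP a c (nS hA i) = tt (sA i a c * a⁻¹) := by
  have key : ∀ g : isos (_root_.Cfsg.Agent.TitsThree.SpIdent.form m F), g.1 = WittRGD.nn (frame m F) (adm 1) i →
      (toPSp g)⁻¹ * dP a c (toPSp g) = (toPSp (da (sA i a c * a⁻¹)) : PSp m F) := by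
    intro g hg
    rw [dP_apply, ← map_inv, ← map_mul]
    congr 1
    apply Subtype.ext
    change g.1⁻¹ * (dm (w2 a c) * g.1 * (dm (w2 a c))⁻¹) = _
    rw [hg]
    exact nn_dm i a c
  exact key _ rfl

theorem h_e (v : Fin m ⊕ Fin m → F) (i : Fin m) : (_root_.Cfsg.Agent.TitsThree.SpIdent.form m F).h v ((frame m F).b (i, true)) = -v (Sum.inl i) := by
  rw [form_h, sympForm_swap]
  change -sympForm m F (Pi.single (Sum.inr i) 1) v = _
  rw [sympForm_single_inr_left]

theorem h_f (v : Fin m ⊕ Fin m → F) (i : Fin m) : (_root_.Cfsg.Agent.TitsThree.SpIdent.form m F).h v ((frame m F).b (i, false)) = v (Sum.inr i) := by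
  rw [form_h, sympForm_swap]
  change -sympForm m F (Pi.single (Sum.inl i) 1) v = _
  rw [sympForm_single_inl_left, _root_.neg_neg]

theorem phiS_pt {i j : Fin m} (hij : i ≠ j) (t : F) (v : Fin m ⊕ Fin m → F) (s : Fin m ⊕ Fin m) :
    phiS (frame m F) hij (up t) v s = v s - t * v (Sum.inl i) * (if s = Sum.inl j then 1 else 0) +
      t * v (Sum.inr j) * (if s = Sum.inr i then 1 else 0) := by
  rw [phiS_up, H62.FrameSL.X_apply _ hij, h_e, h_f]
  have e1 : (frame m F).b (j, false) s = if s = Sum.inl j then 1 else 0 := by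
    change (Pi.single (Sum.inl j) 1 : Fin m ⊕ Fin m → F) s = _
    rw [Pi.single_apply]
  have e2 : (frame m F).b (i, true) s = if s = Sum.inr i then 1 else 0 := by
    change (Pi.single (Sum.inr i) 1 : Fin m ⊕ Fin m → F) s = _
    rw [Pi.single_apply]
  simp only [Pi.add_apply, Pi.sub_apply, Pi.smul_apply, smul_eq_mul, e1, e2, form_σ, form_ε]
  congr 2
  rw [inv_neg, inv_one]
  ring

theorem phiL_pt (i : Fin m) (t : F) (v : Fin m ⊕ Fin m → F) (s : Fin m ⊕ Fin m) :
    phiL (frame m F) i (up t) v s = v s + t * v (Sum.inl i) * (if s = Sum.inr i then 1 else 0) := by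
  rw [phiL_up, H62.FrameSL.Z_apply, h_e]
  have e2 : (frame m F).b (i, true) s = if s = Sum.inr i then 1 else 0 := by
    change (Pi.single (Sum.inr i) 1 : Fin m ⊕ Fin m → F) s = _
    rw [Pi.single_apply]
  simp only [Pi.add_apply, Pi.smul_apply, smul_eq_mul, e2]
  ring

theorem conj_phiS (a : Fin m → Fˣ) (c : Fˣ) {i j : Fin m} (hij : i ≠ j) (t : F) :
    dm (w2 a c) * phiS (frame m F) hij (up t) * (dm (w2 a c))⁻¹ = phiS (frame m F) hij (up (a i * t * (a j : F)⁻¹)) := by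
  rw [mul_inv_eq_iff_eq_mul]
  ext1 v
  funext s
  change dm (w2 a c) (phiS (frame m F) hij (up t) v) s = phiS (frame m F) hij (up _) (dm _ v) s
  rw [dm_apply, phiS_pt, phiS_pt, dm_apply, dm_apply, dm_apply]
  have hi := (a i).ne_zero
  have hj := (a j).ne_zero
  by_cases h1 : s = Sum.inl j
  · subst h1
    simp only [if_true, reduceCtorEq, if_false, mul_one, mul_zero, add_zero, w2, Sum.elim_inl, Units.val_mul,
      Units.val_inv_eq_inv_val]
    field_simp
  · by_cases h2 : s = Sum.inr i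
    · subst h2
      simp only [if_true, reduceCtorEq, if_false, mul_one, mul_zero, sub_zero, w2, Sum.elim_inr]
      field_simp
    · simp only [if_neg h1, if_neg h2, mul_zero, sub_zero, add_zero]

theorem conj_phiL (a : Fin m → Fˣ) (c : Fˣ) (i : Fin m) (t : F) :
    dm (w2 a c) * phiL (frame m F) i (up t) * (dm (w2 a c))⁻¹ =
      phiL (frame m F) i (up (a i * t * a i * (c : F)⁻¹)) := by
  rw [mul_inv_eq_iff_eq_mul]
  ext1 v
  funext s
  change dm (w2 a c) (phiL (frame m F) i (up t) v) s = phiL (frame m F) i (up _) (dm _ v) s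
  rw [dm_apply, phiL_pt, phiL_pt, dm_apply, dm_apply]
  have hi := (a i).ne_zero
  have hc := c.ne_zero
  by_cases h2 : s = Sum.inr i
  · subst h2
    simp only [if_true, mul_one, w2, Sum.elim_inr, Sum.elim_inl, Units.val_mul, Units.val_inv_eq_inv_val]
    field_simp
  · simp only [if_neg h2, mul_zero, add_zero]

theorem dP_X (a : Fin m → Fˣ) (c : Fˣ) (i : Fin m) {u : PSp m F} (hu : u ∈ WittModel.X (KInstSp.model m F) (sr i)) :
    dP a c u ∈ WittModel.X (KInstSp.model m F) (sr i) := by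
  obtain ⟨g, hg, hg2, rfl⟩ := (WittModel.mem_X _).1 hu
  have key : ∀ g : isos (_root_.Cfsg.Agent.TitsThree.SpIdent.form m F), g.1 ∈ WittRoot.rg (frame m F) (sr i) →
      ∃ k : isos (_root_.Cfsg.Agent.TitsThree.SpIdent.form m F), k.1 ∈ WittRoot.rg (frame m F) (sr i) ∧ dP a c (toPSp g) = toPSp k := by
    intro g hg
    refine ⟨cI a c g, ?_, dP_apply a c g⟩
    rw [coe_cI]
    by_cases hi : (i : ℕ) + 1 < m
    · have hij : (i : ℕ) + 1 = (⟨i + 1, hi⟩ : Fin m) := rfl
      obtain ⟨t, ht⟩ := (phiS_rg hij _).1 hg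
      rw [ht, conj_phiS]
      exact (phiS_rg hij _).2 ⟨_, rfl⟩
    · obtain ⟨t, ht⟩ := (phiL_rg hi _).1 hg
      rw [ht, conj_phiL]
      exact (phiL_rg hi _).2 ⟨_, rfl⟩
  obtain ⟨k, hk, hk2⟩ := key ⟨g, hg⟩ hg2
  exact (WittModel.mem_X _).2 ⟨k.1, k.2, hk, hk2⟩

variable {W : Type*} [Group W] (cs : CoxeterSystem (CoxeterMatrix.B m) W)

theorem dia_dP [Finite F] [Fact p.Prime] [CharP F p] (a : Fin m → Fˣ) (c : Fˣ) :
    Dia cs (isCartan m) (WittModel.T (KInstSp.model m F)) (fun i => nS hA i) (WittModel.X (KInstSp.model m F)) (dP a c) :=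
  dia_of (rgdC_model (KInstSp.model m F) hA (p0 := adm 1) one_ne_zero cs) (fun _ ht => dP_T a c ht)
    (fun i _ hu => dP_X a c i hu) fun i => by
      have h1 := dP_n hA a c i
      exact h1 ▸ tt_mem _

/-! ### The fundamental coweights -/

/-- the weights of the fundamental coweight -/
def cw (j : Fin m) (x : Fˣ) (k : Fin m) : Fˣ := if (k : ℕ) ≤ j then x⁻¹ else 1

/-- its multiplier -/
def cm (j : Fin m) (x : Fˣ) : Fˣ := if (j : ℕ) + 1 < m then 1 else x⁻¹

theorem sA_cw (i j : Fin m) (x : Fˣ) : sA i (cw j x) (cm j x) * (cw j x)⁻¹ = if i = j then coH j x else 1 := by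
  funext k
  rw [Pi.mul_apply, Pi.inv_apply]
  have hk := k.2
  have hj := j.2
  have hi' := i.2
  by_cases hi : (i : ℕ) + 1 < m
  · rw [sA_up hi]
    by_cases e : i = j
    · subst e
      rw [if_pos rfl, coH_apply]
      unfold cw Ec
      by_cases h1 : (k : ℕ) = i
      · simp [h1]
      · by_cases h2 : (k : ℕ) = i + 1
        · simp [h2]
        · have h3 : ¬ ((i : ℕ) + 1 = k) := fun h => h2 h.symm
          simp [h1, h2, h3]
    · have e' : (i : ℕ) ≠ j := fun h => e (Fin.ext h)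
      rw [if_neg e, Pi.one_apply]
      unfold cw
      by_cases h1 : (k : ℕ) = i
      · by_cases h4 : (i : ℕ) < j
        · have h5 : (i : ℕ) + 1 ≤ j := h4
          have h6 : (i : ℕ) ≤ j := h4.le
          simp [h1, h5, h6]
        · have h5 : ¬ ((i : ℕ) + 1 ≤ j) := by omega
          have h6 : ¬ ((i : ℕ) ≤ j) := by omega
          simp [h1, h5, h6]
      · by_cases h2 : (k : ℕ) = i + 1
        · by_cases h4 : (i : ℕ) < j
          · have h5 : (i : ℕ) + 1 ≤ j := h4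
            have h6 : (i : ℕ) ≤ j := h4.le
            simp [h2, h5, h6]
          · have h5 : ¬ ((i : ℕ) + 1 ≤ j) := by omega
            have h6 : ¬ ((i : ℕ) ≤ j) := by omega
            simp [h2, h5, h6]
        · simp [h1, h2]
  · rw [sA_last hi]
    have hle : (j : ℕ) ≤ i := by omega
    by_cases e : i = j
    · subst e
      rw [if_pos rfl, coH_apply]
      unfold cw Ec cm
      by_cases h1 : (k : ℕ) = i
      · simp [h1, hi]
      · have h3 : ¬ ((i : ℕ) + 1 = k) := by omega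
        simp [h1, h3]
    · have e' : (i : ℕ) ≠ j := fun h => e (Fin.ext h)
      have h7 : (j : ℕ) + 1 < m := by omega
      have h8 : ¬ ((i : ℕ) ≤ j) := by omega
      rw [if_neg e, Pi.one_apply]
      unfold cw cm
      by_cases h1 : (k : ℕ) = i
      · simp [h1, h7, h8]
      · simp [h1]

/-- the fundamental coweights -/
noncomputable def dI (j : Fin m) (x : Fˣ) : PSp m F ≃* PSp m F := dP (cw j x) (cm j x)

theorem dia_dI [Finite F] [Fact p.Prime] [CharP F p] (j : Fin m) (x : Fˣ) :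
    Dia cs (isCartan m) (WittModel.T (KInstSp.model m F)) (fun i => nS hA i) (WittModel.X (KInstSp.model m F)) (dI j x) :=
  dia_dP hA cs _ _

theorem dI_self (j : Fin m) (x : Fˣ) : (nS hA j)⁻¹ * dI j x (nS hA j) = hc j x := by
  rw [dI, dP_n, sA_cw, if_pos rfl]
  rfl

theorem dI_ne {i j : Fin m} (hij : i ≠ j) (x : Fˣ) : dI j x (nS hA i) = nS hA i := by
  have h1 := dP_n hA (cw j x) (cm j x) i
  rw [sA_cw, if_neg hij, map_one, inv_mul_eq_one] at h1
  exact h1.symm

/-- **`HD` from the conjugacy of `t` and `ŝ t ŝ⁻¹` in `L_J`.** -/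
theorem hd_sp [Finite F] [Fact p.Prime] [CharP F p] {J : Set (Fin m)} {t : PSp m F}
    (h : ∀ (j : Fin m) (x : Fˣ), ∃ a ∈ Bruhat.LJ cs (isCartan m) (WittModel.T (KInstSp.model m F))
      (WittModel.X (KInstSp.model m F)) J, dI j x t = a * t * a⁻¹) :
    HD cs (isCartan m) (WittModel.T (KInstSp.model m F)) (fun i => nS hA i) (WittModel.X (KInstSp.model m F))
      (hc (m := m) (F := F)) J t := fun j x =>
  ⟨dI j x, dia_dI hA cs j x, dI_self hA j x, fun _ hi => dI_ne hA hi x, h j x⟩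

end auto

end Cfsg.Agent.H769.OZ
end

-- part: H769/OZ/SpHD
section
/-!
# `PSp_2m(q)`, `m = 3, 4`: elliptic elements whose classes are fixed by the diagonal automorphisms (helper769, S4842)

* `exists_two_P` : helper410's `exists_two` with a further property of all elements `gl z * D`;
* `hd_last`, `hd_pen` : `HD` for the elements of `H410.OZ.SpE`;
* `psp_last_HD`, `psp_pen_HD`.
-/

set_option autoImplicit false
set_option linter.unusedSectionVars false

namespace Cfsg.Agent.H769.OZ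

open CoxeterSystem Cfsg Cfsg.Agent.ChevalleyStructure.CoxeterGeom Cfsg.Agent.Tits.Roots Cfsg.Agent.Nodes.TypeC
open Cfsg.Agent.Nodes Cfsg.Agent.Nodes.Comb Cfsg.Agent.Nodes.Reps Cfsg.Agent.Nodes.WittRoot Cfsg.Agent.Nodes.BNOf
open Cfsg.Agent.Nodes.WittRGD Cfsg.Agent.Nodes.RGDLib Cfsg.Agent.Nodes.WittAll
open Cfsg.Agent.TitsThree Cfsg.Agent.TitsThree.Siegel Cfsg.Agent.TitsThree.WittFrame
  Cfsg.Agent.TitsThree.WittWeyl Cfsg.Agent.TitsThree.FrameCN Cfsg.Agent.TitsThree.SpIdent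
open Cfsg.Agent.Nodes.StabComb Cfsg.Agent.Nodes.Bruhat Cfsg.Agent.Nodes.LeviDec Cfsg.Agent.Nodes.WittU
open Cfsg.Agent.H62.PCFrame Cfsg.Agent.H62.PCWitt Cfsg.Agent.H985.VZ Module Cfsg.Agent.H410.OZ
open Cfsg.Agent.ChevalleyStructure.SL2Hom Cfsg.Agent.H62.FrameSL Cfsg.Agent.ClassicalGeometry.SympBasic
open Cfsg.Agent.H200.VZ
open scoped MatrixGroups

/-! ### Two elements with a property -/

section Model

variable {F : Type*} [Field F] [Finite F] {V : Type*} [AddCommGroup V] [Module F V] [Finite V] {H : HForm F V} {n : ℕ}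
  {Fr : Frame H (Fin n)} {K : Type*} [Group K] {M : Model Fr K}
  {W : Type*} [Group W] {p : ℕ} [Fact p.Prime]
  [CharP F p] (hA : AmbT Fr p M.I) {p0 : Fr.Adm} (hp0 : p0.c ≠ 0) (hn : 0 < n)

include hA hp0 hn

/-- **two non-conjugate elliptic elements, with a property of all these elements** -/
theorem exists_two_P (cs : CoxeterSystem (CoxeterMatrix.B n) W) (hσ : ∀ a, H.σ a = a) (i : Fin n) {s : ℕ}
    {D : V ≃ₗ[F] V} (hD : Comp Fr i s D)
    (hiso : ∀ U : Submodule F V, U ≤ Mid Fr i → (∀ x ∈ U, ∀ y ∈ U, H.h x y = 0) → (∀ x ∈ U, D x ∈ U) → U = ⊥)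
    (hnd : ∀ v ∈ Mid Fr i, (∀ w ∈ Mid Fr i, H.h v w = 0) → v = 0) {e : ℕ}
    (hI : ∀ (g : V ≃ₗ[F] V), H.IsIso g → g * D = D * g → (∀ v ∈ Mid Fr i, g v = v) → g ^ e * D ∈ M.I) {a b : ℕ}
    (ha : _root_.Cfsg.Agent.H410.OZ.Good (Nat.card F ^ ((i : ℕ) + 1) - 1) (Nat.card F) (i + 1) s (a * e))
    (hb : _root_.Cfsg.Agent.H410.OZ.Good (Nat.card F ^ ((i : ℕ) + 1) - 1) (Nat.card F) (i + 1) s (b * e))
    (hab : Pair (Nat.card F ^ ((i : ℕ) + 1) - 1) (Nat.card F) (i + 1) s (a * e) (b * e)) {P : K → Prop}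
    (hP : ∀ (β : Basis {k : Fin n // k ≤ i} F (FiniteField.Extension F p (i + 1)))
      (z : (FiniteField.Extension F p (i + 1))ˣ) (ht : gl Fr β z * D ∈ M.I), P (M.φ ⟨gl Fr β z * D, ht⟩)) :
    ∃ t t' : K, Ell cs (isCartan n) (WittModel.T M) (WittModel.X M) {i}ᶜ t ∧
      Ell cs (isCartan n) (WittModel.T M) (WittModel.X M) {i}ᶜ t' ∧ ¬ IsConj t t' ∧ P t ∧ P t' := by
  let L := FiniteField.Extension F p (i + 1)
  have hfr : finrank F L = i + 1 := FiniteField.finrank_extension F p (i + 1)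
  have : FiniteDimensional F L := Module.Finite.of_finite
  have hcard : Fintype.card {k : Fin n // k ≤ i} = i + 1 := by
    rw [Fintype.card_subtype]
    have : (Finset.univ.filter fun k : Fin n => k ≤ i) = Finset.Iic i := by
      ext k; simp only [_root_.Finset.mem_filter, _root_.Finset.mem_univ, _root_.true_and, _root_.Finset.mem_Iic]
    rw [this, Fin.card_Iic]
  have β : Basis {k : Fin n // k ≤ i} F L :=
    (finBasis F L).reindex ((finCongr hfr).trans (Fintype.equivFinOfCardEq hcard).symm)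
  have hcL : Nat.card Lˣ = Nat.card F ^ ((i : ℕ) + 1) - 1 := by
    have h1 : Nat.card L = Nat.card F ^ ((i : ℕ) + 1) := FiniteField.natCard_extension F p (i + 1)
    rw [Nat.card_units, h1]
  obtain ⟨γ, hγ⟩ := IsCyclic.exists_generator (α := Lˣ)
  have hord : orderOf γ = Nat.card F ^ ((i : ℕ) + 1) - 1 := by rw [orderOf_eq_card_of_forall_mem_zpowers hγ, hcL]
  have hmem : ∀ k : ℕ, gl Fr β (γ ^ (k * e)) * D ∈ M.I := fun k => by
    rw [pow_mul, map_pow]
    refine hI _ (isIso_gl hσ _) ?_ fun v hv => gl_Mid _ hv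
    ext v
    obtain ⟨x, hx, y, hy, w, hw, rfl⟩ := exists_decomp (Fr := Fr) i v
    obtain ⟨x, rfl⟩ := exists_eE β hx
    obtain ⟨l, rfl⟩ := exists_fF β hy
    change gl Fr β (γ ^ k) (D (eE Fr β x + fF Fr β l + w)) = D (gl Fr β (γ ^ k) (eE Fr β x + fF Fr β l + w))
    simp only [map_add, hD.eE, hD.fF, gl_eE, gl_fF, gl_Mid _ hw, gl_Mid _ (hD.mid hw)]
  refine ⟨M.φ ⟨_, hmem a⟩, M.φ ⟨_, hmem b⟩, ?_, ?_, ?_, hP β _ _, hP β _ _⟩
  · exact ell_gl hA hp0 hn hD (hmem a) (ha.adjoin hord rfl hfr) (ha.ne hord) (ha.root hord rfl hfr) hiso hnd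
  · exact ell_gl hA hp0 hn hD (hmem b) (hb.adjoin hord rfl hfr) (hb.ne hord) (hb.root hord rfl hfr) hiso hnd
  · exact not_isConj_gl hA hn hσ hD hD (hmem a) (hmem b) (fun c hc => hab.root hord rfl hfr hc)
      (fun c hc => hab.root_inv hord rfl hfr hc) (fun c hc => hab.ne hord rfl hc)

end Model

/-! ### The norm form of an anisotropic element of `SL₂` -/

theorem exists_norm {F : Type*} [Field F] [Finite F] {C : SL(2, F)} (hC : Anis C.1) (x : F) :
    ∃ u v : F, u ^ 2 + u * v * (C.1 0 0 + C.1 1 1) + v ^ 2 = x := by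
  have : Fintype F := Fintype.ofFinite F
  have hdet : C.1 0 0 * C.1 1 1 - C.1 0 1 * C.1 1 0 = 1 := by
    have := C.2
    rwa [Matrix.det_fin_two] at this
  by_cases h2 : ringChar F = 2
  · obtain ⟨u, hu⟩ := FiniteField.isSquare_of_char_two h2 x
    exact ⟨u, 0, by rw [hu]; ring⟩
  · have h2' : (2 : F) ≠ 0 := Ring.two_ne_zero h2
    set τ := C.1 0 0 + C.1 1 1 with hτ
    have hκ : 1 - τ ^ 2 / 4 ≠ 0 := by
      intro h0
      have h4 : (4 : F) ≠ 0 := by
        have : (4 : F) = 2 * 2 := by norm_num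
        rw [this]
        exact mul_ne_zero h2' h2'
      have h1 : τ ^ 2 = 4 := by
        field_simp at h0
        linear_combination -h0
      have h3 : C.1 1 0 ≠ 0 := by
        intro h3
        have := (hC 1 0 (by rw [h3]; ring)).1
        exact one_ne_zero this
      have h5 := (hC (C.1 1 1 - C.1 0 0) (2 * C.1 1 0) (by
        rw [hτ] at h1
        linear_combination (-C.1 1 0) * h1 + 4 * C.1 1 0 * hdet)).2
      rcases mul_eq_zero.1 h5 with h6 | h6
      · exact h2' h6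
      · exact h3 h6
    obtain ⟨a, b, hab⟩ := FiniteField.exists_root_sum_quadratic (R := F)
      (f := Polynomial.X ^ 2 - Polynomial.C x) (g := Polynomial.C (1 - τ ^ 2 / 4) * Polynomial.X ^ 2)
      (Polynomial.degree_X_pow_sub_C (by decide) _)
      (by rw [Polynomial.degree_C_mul hκ, Polynomial.degree_X_pow]; rfl)
      (FiniteField.odd_card_of_char_ne_two h2)
    simp only [Polynomial.eval_sub, Polynomial.eval_pow, Polynomial.eval_X, Polynomial.eval_C,
      Polynomial.eval_mul] at hab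
    refine ⟨a - τ * b / 2, b, ?_⟩
    have h4 : (4 : F) = 2 * 2 := by norm_num
    rw [h4] at hab
    field_simp at hab ⊢
    linear_combination hab

/-- conjugation of `C` by `diag(x⁻¹, 1)` is a conjugation in `SL₂` -/
theorem exists_conj {F : Type*} [Field F] [Finite F] {C : SL(2, F)} (hC : Anis C.1) (x : Fˣ) :
    ∃ A C' : SL(2, F), A * C = C' * A ∧ C'.1 0 0 = C.1 0 0 ∧ C'.1 0 1 = (x : F)⁻¹ * C.1 0 1 ∧
      C'.1 1 0 = x * C.1 1 0 ∧ C'.1 1 1 = C.1 1 1 := by
  have hdet : C.1 0 0 * C.1 1 1 - C.1 0 1 * C.1 1 0 = 1 := by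
    have := C.2
    rwa [Matrix.det_fin_two] at this
  have hx := x.ne_zero
  obtain ⟨u, v, huv⟩ := exists_norm hC (x : F)
  refine ⟨⟨!![(x : F)⁻¹ * (u + v * C.1 0 0), (x : F)⁻¹ * (v * C.1 0 1); v * C.1 1 0, u + v * C.1 1 1], ?_⟩,
    ⟨!![C.1 0 0, (x : F)⁻¹ * C.1 0 1; x * C.1 1 0, C.1 1 1], ?_⟩, ?_, rfl, rfl, rfl, rfl⟩
  · rw [Matrix.det_fin_two_of]
    field_simp
    linear_combination huv + v ^ 2 * hdet
  · rw [Matrix.det_fin_two_of]
    field_simp
    linear_combination hdet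
  · apply mt_inj
    have e : mt C = !![C.1 0 0, C.1 0 1; C.1 1 0, C.1 1 1] := Matrix.eta_fin_two _
    change !![(x : F)⁻¹ * (u + v * C.1 0 0), (x : F)⁻¹ * (v * C.1 0 1); v * C.1 1 0, u + v * C.1 1 1] * mt C =
      !![C.1 0 0, (x : F)⁻¹ * C.1 0 1; x * C.1 1 0, C.1 1 1] *
        !![(x : F)⁻¹ * (u + v * C.1 0 0), (x : F)⁻¹ * (v * C.1 0 1); v * C.1 1 0, u + v * C.1 1 1]
    rw [e, Matrix.mul_fin_two, Matrix.mul_fin_two]
    congr 1
    funext a
    fin_cases a <;> (funext b; (revert b; simp only [_root_.Fin.forall_fin_succ, Fin.isValue, _root_.Nat.succ_eq_add_one, Nat.reduceAdd, _root_.Fin.zero_eta, _root_.Matrix.cons_val', _root_.Matrix.cons_val_fin_one, _root_.Matrix.cons_val_zero, _root_.Matrix.cons_val_succ, _root_.forall_const, _root_.Fin.mk_one, _root_.Matrix.cons_val_one]) <;> (repeat' with_reducible apply And.intro) <;> field_simp <;> ring)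

/-! ### `HD` -/

section sp

variable {F : Type*} [Field F] {m : ℕ}

theorem conj_phiL_gen (a : Fin m → Fˣ) (c : Fˣ) (j : Fin m) {C C' : SL(2, F)} (h00 : C'.1 0 0 = C.1 0 0)
    (h01 : C'.1 0 1 = a j * a j * (c : F)⁻¹ * C.1 0 1) (h10 : C'.1 1 0 = c * (a j : F)⁻¹ * (a j : F)⁻¹ * C.1 1 0)
    (h11 : C'.1 1 1 = C.1 1 1) :
    dm (w2 a c) * phiL (frame m F) j C * (dm (w2 a c))⁻¹ = phiL (frame m F) j C' := by
  have ha := (a j).ne_zero
  have hc := c.ne_zero
  rw [mul_inv_eq_iff_eq_mul]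
  apply lin_ext
  rintro ⟨k, s⟩
  change dm (w2 a c) (phiL (frame m F) j C _) = phiL (frame m F) j C' (dm (w2 a c) _)
  by_cases hk : k = j
  · subst hk
    cases s
    · rw [dm_b, map_smul, phiL_f, phiL_f, map_add, map_smul, map_smul, dm_b, dm_b, w2_ix, w2_ix, h01, h11]
      simp only [wf, Bool.false_eq_true, if_false, if_true, Units.val_mul, Units.val_inv_eq_inv_val, smul_add, smul_smul]
      congr 2 <;> field_simp
    · rw [dm_b, map_smul, phiL_e, phiL_e, map_add, map_smul, map_smul, dm_b, dm_b, w2_ix, w2_ix, h10, h00]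
      simp only [wf, Bool.false_eq_true, if_false, if_true, Units.val_mul, Units.val_inv_eq_inv_val, smul_add, smul_smul]
      congr 2 <;> field_simp
  · rw [phiL_fix hk, dm_b, map_smul, phiL_fix hk]

variable {L : Type*} [Field L] [Algebra F L] {i : Fin m} (β : Basis {k : Fin m // k ≤ i} F L)

theorem dm_eE (x : Fˣ) (y : L) : dm (w2 (fun _ => x⁻¹) x⁻¹) (eE (frame m F) β y) = ((x⁻¹ : Fˣ) : F) • eE (frame m F) β y := by
  rw [eE_apply, map_sum, Finset.smul_sum]
  refine Finset.sum_congr rfl fun k _ => ?_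
  rw [map_smul, dm_b, smul_comm]
  rfl

theorem dm_fF (x : Fˣ) (l : Dual F L) : dm (w2 (fun _ => x⁻¹) x⁻¹) (fF (frame m F) β l) = fF (frame m F) β l := by
  rw [fF_apply, map_sum]
  refine Finset.sum_congr rfl fun k _ => ?_
  rw [map_smul, dm_b, w2_ix]
  simp [wf]

theorem dm_mid (x : Fˣ) {v : Fin m ⊕ Fin m → F} (hv : v ∈ Mid (frame m F) i) :
    dm (w2 (fun _ => x⁻¹) x⁻¹) v ∈ Mid (frame m F) i := by
  intro k hk s
  have h1 := h_dm (fun _ : Fin m => x⁻¹) x⁻¹ v ((frame m F).b (k, s))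
  rw [dm_b, (_root_.Cfsg.Agent.TitsThree.SpIdent.form m F).smul_right, hv k hk s, mul_zero] at h1
  rcases mul_eq_zero.1 h1 with h2 | h2
  · exact absurd h2 (by rw [form_σ]; exact Units.ne_zero _)
  · exact h2

theorem dm_gl (x : Fˣ) (z : Lˣ) : dm (w2 (fun _ => x⁻¹) x⁻¹) * gl (frame m F) β z =
    gl (frame m F) β z * dm (w2 (fun _ => x⁻¹) x⁻¹) := by
  ext1 v
  obtain ⟨y, hy, y', hy', w, hw, rfl⟩ := exists_decomp (Fr := frame m F) i v
  obtain ⟨y, rfl⟩ := exists_eE β hy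
  obtain ⟨l, rfl⟩ := exists_fF β hy'
  change dm _ (gl (frame m F) β z (eE (frame m F) β y + fF (frame m F) β l + w)) =
    gl (frame m F) β z (dm _ (eE (frame m F) β y + fF (frame m F) β l + w))
  simp only [map_add, gl_eE, gl_fF, gl_Mid _ hw, gl_Mid _ (dm_mid x hw), dm_eE, dm_fF, map_smul]

theorem phiL_gl {j : Fin m} (hij : i < j) [Finite F] (A : SL(2, F)) (z : Lˣ) :
    phiL (frame m F) j A * gl (frame m F) β z = gl (frame m F) β z * phiL (frame m F) j A := by
  have hc : Comp (frame m F) i (Nat.card SL(2, F)) (phiL (frame m F) j A) := comp_sp hij pow_card_eq_one'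
  ext1 v
  obtain ⟨y, hy, y', hy', w, hw, rfl⟩ := exists_decomp (Fr := frame m F) i v
  obtain ⟨y, rfl⟩ := exists_eE β hy
  obtain ⟨l, rfl⟩ := exists_fF β hy'
  change phiL (frame m F) j A (gl (frame m F) β z (eE (frame m F) β y + fF (frame m F) β l + w)) =
    gl (frame m F) β z (phiL (frame m F) j A (eE (frame m F) β y + fF (frame m F) β l + w))
  simp only [map_add, gl_eE, gl_fF, gl_Mid _ hw, gl_Mid _ (hc.mid hw), hc.eE, hc.fF]

variable [Finite F] {p : ℕ} [Fact p.Prime] [CharP F p] (hA : AmbT (frame m F) p (KInstSp.model m F).I)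
  {W : Type*} [Group W] (cs : CoxeterSystem (CoxeterMatrix.B m) W)

theorem cw_last {j : Fin m} (hj : (j : ℕ) + 1 = m) (x : Fˣ) : cw j x = fun _ => x⁻¹ := by
  funext k
  have := k.2
  rw [cw, if_pos (by omega)]

theorem cm_last {j : Fin m} (hj : (j : ℕ) + 1 = m) (x : Fˣ) : cm j x = x⁻¹ := by
  rw [cm, if_neg (by omega)]

theorem hd_gen {J : Set (Fin m)} {t : PSp m F} (hlast : ∀ j : Fin m, (j : ℕ) + 1 = m → ∀ x : Fˣ,
      ∃ a ∈ LJ cs (isCartan m) (WittModel.T (KInstSp.model m F)) (WittModel.X (KInstSp.model m F)) J,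
        dI j x t = a * t * a⁻¹) :
    HD cs (isCartan m) (WittModel.T (KInstSp.model m F)) (fun i => nS hA i) (WittModel.X (KInstSp.model m F))
      (hc (m := m) (F := F)) J t := by
  refine hd_sp hA cs fun j x => ?_
  by_cases hj : (j : ℕ) + 1 < m
  · refine ⟨tt (cw j x), T_le_LJ (tt_mem _), ?_⟩
    obtain ⟨g, rfl⟩ := toPSp_surjective t
    rw [dI, dP_apply, tt_apply, ← map_inv, ← map_mul, ← map_mul]
    congr 1
    apply Subtype.ext
    change dm (w2 (cw j x) (cm j x)) * g.1 * (dm (w2 (cw j x) (cm j x)))⁻¹ =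
      dm (w2 (cw j x) 1) * g.1 * (dm (w2 (cw j x) 1))⁻¹
    rw [cm, if_pos hj]
  · exact hlast j (by have := j.2; omega) x

theorem hd_last {i : Fin m} (β : Basis {k : Fin m // k ≤ i} F L) (z : Lˣ)
    (ht : gl (frame m F) β z * 1 ∈ (KInstSp.model m F).I) :
    HD cs (isCartan m) (WittModel.T (KInstSp.model m F)) (fun i => nS hA i) (WittModel.X (KInstSp.model m F))
      (hc (m := m) (F := F)) {i}ᶜ ((KInstSp.model m F).φ ⟨gl (frame m F) β z * 1, ht⟩) := by
  refine hd_gen hA cs fun j hj x => ⟨1, one_mem _, ?_⟩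
  have key : ∀ g : isos (_root_.Cfsg.Agent.TitsThree.SpIdent.form m F), g.1 = gl (frame m F) β z * 1 → dI j x (toPSp g) = toPSp g := by
    intro g hg
    rw [dI, dP_apply]
    congr 1
    apply Subtype.ext
    rw [coe_cI, hg, cw_last hj, cm_last hj, mul_one, dm_gl, mul_inv_cancel_right]
  refine (key _ rfl).trans ?_
  simp only [one_mul, inv_one]
  exact (mul_one _).symm

theorem hd_pen {i j : Fin m} (hi : (i : ℕ) + 2 = m) (hj : (j : ℕ) + 1 = m) {C : SL(2, F)} (hC : Anis C.1)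
    (β : Basis {k : Fin m // k ≤ i} F L) (z : Lˣ)
    (ht : gl (frame m F) β z * phiL (frame m F) j C ∈ (KInstSp.model m F).I) :
    HD cs (isCartan m) (WittModel.T (KInstSp.model m F)) (fun i => nS hA i) (WittModel.X (KInstSp.model m F))
      (hc (m := m) (F := F)) {i}ᶜ ((KInstSp.model m F).φ ⟨gl (frame m F) β z * phiL (frame m F) j C, ht⟩) := by
  have hij : i < j := by rw [Fin.lt_def]; omega
  refine hd_gen hA cs fun j' hj' x => ?_
  have hjj : j' = j := Fin.ext (by omega)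
  subst hjj
  obtain ⟨A, C', hAC, h00, h01, h10, h11⟩ := exists_conj hC x
  have hcA : Comp (frame m F) i (Nat.card SL(2, F)) (phiL (frame m F) j' A) := comp_sp hij pow_card_eq_one'
  have hAm : phiL (frame m F) j' A ∈ (KInstSp.model m F).I := phiL_isIso j' A
  refine ⟨(KInstSp.model m F).φ ⟨phiL (frame m F) j' A, hAm⟩,
    mem_LJ_of (M := KInstSp.model m F) hA (p0 := SpIdent.adm 1) one_ne_zero (by omega) ?_ ?_, ?_⟩
  · intro y hy
    obtain ⟨y, rfl⟩ := exists_eE β hy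
    rw [hcA.eE]
    exact hy
  · intro y hy
    obtain ⟨y, rfl⟩ := exists_fF β hy
    rw [hcA.fF]
    exact hy
  · have key : ∀ g a : isos (_root_.Cfsg.Agent.TitsThree.SpIdent.form m F), g.1 = gl (frame m F) β z * phiL (frame m F) j' C →
        a.1 = phiL (frame m F) j' A → dI j' x (toPSp g) = toPSp a * toPSp g * (toPSp a)⁻¹ := by
      intro g a hg ha
      rw [dI, dP_apply, ← map_inv, ← map_mul, ← map_mul]
      congr 1
      apply Subtype.ext
      change dm (w2 (cw j' x) (cm j' x)) * g.1 * (dm (w2 (cw j' x) (cm j' x)))⁻¹ = a.1 * g.1 * a.1⁻¹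
      rw [hg, ha, cw_last hj', cm_last hj', ← mul_assoc, dm_gl, mul_assoc (gl (frame m F) β z), mul_assoc (gl (frame m F) β z),
        conj_phiL_gen (fun _ : Fin m => x⁻¹) x⁻¹ j' (C := C) (C' := C') h00 ?_ ?_ h11, ← mul_assoc (phiL (frame m F) j' A),
        phiL_gl β hij, mul_assoc (gl (frame m F) β z), mul_assoc (gl (frame m F) β z), ← map_mul, hAC, map_mul,
        mul_inv_cancel_right]
      · rw [h01]
        have hx := x.ne_zero
        simp only [Units.val_inv_eq_inv_val]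
        field_simp
      · rw [h10]
        have hx := x.ne_zero
        simp only [Units.val_inv_eq_inv_val]
        field_simp
    exact key _ _ rfl rfl

/-- **`J = {m - 1}ᶜ = A_(m-1)`.** -/
theorem psp_last_HD (hm : m = 3 ∨ m = 4) (hq : 3 ≤ Nat.card F) {i : Fin m} (hi : i.1 + 1 = m) :
    ∃ t t' : PSp m F, Ell cs (isCartan m) (WittModel.T (KInstSp.model m F)) (WittModel.X (KInstSp.model m F)) {i}ᶜ t ∧
      Ell cs (isCartan m) (WittModel.T (KInstSp.model m F)) (WittModel.X (KInstSp.model m F)) {i}ᶜ t' ∧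
      ¬ IsConj t t' ∧
      HD cs (isCartan m) (WittModel.T (KInstSp.model m F)) (fun i => nS hA i) (WittModel.X (KInstSp.model m F))
        (hc (m := m) (F := F)) {i}ᶜ t ∧
      HD cs (isCartan m) (WittModel.T (KInstSp.model m F)) (fun i => nS hA i) (WittModel.X (KInstSp.model m F))
        (hc (m := m) (F := F)) {i}ᶜ t' := by
  have hmid : ∀ U : Submodule F (Fin m ⊕ Fin m → F), U ≤ Mid (frame m F) i → U = ⊥ := fun U hU => by
    rw [eq_bot_iff]
    intro x hx
    rw [Submodule.mem_bot]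
    exact mid_sp hi (hU hx)
  refine exists_two_P (M := KInstSp.model m F) (p := p) (AmbT.of_amb amb_Sp p) (p0 := SpIdent.adm 1) one_ne_zero
    (by omega) cs (fun _ => rfl) i (comp_one (frame m F) i) (fun U hU _ _ => hmid U hU) (nd_of fun v h => nd_sp h)
    (e := 1) (fun g hg _ _ => ?_) (a := 2) (b := 4) ?_ ?_ ?_ (fun β z ht => hd_last hA cs β z ht)
  · rw [pow_one, mul_one]
    exact hg
  all_goals rw [hi, mul_one]; try rw [mul_one]
  all_goals rcases hm with rfl | rfl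
  · exact good3 hq (Or.inl rfl) (Or.inl rfl)
  · exact good4 hq (Or.inl rfl)
  · exact good3 hq (Or.inl rfl) (Or.inr rfl)
  · exact good4 hq (Or.inr rfl)
  · exact pair3 hq (Or.inl rfl)
  · exact pair4 hq

/-- **`J = {m - 2}ᶜ = A_(m-2) × A_1`.** -/
theorem psp_pen_HD (hm : m = 4 ∧ 3 ≤ Nat.card F ∨ m = 3 ∧ 4 ≤ Nat.card F) {i : Fin m} (hi : i.1 + 2 = m) :
    ∃ t t' : PSp m F, Ell cs (isCartan m) (WittModel.T (KInstSp.model m F)) (WittModel.X (KInstSp.model m F)) {i}ᶜ t ∧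
      Ell cs (isCartan m) (WittModel.T (KInstSp.model m F)) (WittModel.X (KInstSp.model m F)) {i}ᶜ t' ∧
      ¬ IsConj t t' ∧
      HD cs (isCartan m) (WittModel.T (KInstSp.model m F)) (fun i => nS hA i) (WittModel.X (KInstSp.model m F))
        (hc (m := m) (F := F)) {i}ᶜ t ∧
      HD cs (isCartan m) (WittModel.T (KInstSp.model m F)) (fun i => nS hA i) (WittModel.X (KInstSp.model m F))
        (hc (m := m) (F := F)) {i}ᶜ t' := by
  obtain ⟨C, hC1, hC, -⟩ := exists_C F (p := p)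
  obtain ⟨j, hj⟩ : ∃ j : Fin m, j.1 + 1 = m := ⟨⟨m - 1, by omega⟩, by change m - 1 + 1 = m; omega⟩
  have hij : i < j := by rw [Fin.lt_def]; omega
  have key : ∀ e : ℕ, ∀ (g : (Fin m ⊕ Fin m → F) ≃ₗ[F] (Fin m ⊕ Fin m → F)), (_root_.Cfsg.Agent.TitsThree.SpIdent.form m F).IsIso g →
      g * phiL (frame m F) j C = phiL (frame m F) j C * g → (∀ v ∈ Mid (frame m F) i, g v = v) →
      g ^ e * phiL (frame m F) j C ∈ (KInstSp.model m F).I := fun e g hg _ _ =>
    (KInstSp.model m F).I.mul_mem ((KInstSp.model m F).I.pow_mem hg e) (phiL_isIso j C)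
  rcases hm with ⟨rfl, hq⟩ | ⟨rfl, hq⟩
  · refine exists_two_P (M := KInstSp.model 4 F) (p := p) (AmbT.of_amb amb_Sp p) (p0 := SpIdent.adm 1) one_ne_zero
      (by omega) cs (fun _ => rfl) i (comp_sp hij hC1) (iso_sp hi hj hC) (nd_of fun v h => nd_sp h)
      (e := 1) (key 1) (a := 2) (b := 4) ?_ ?_ ?_ (fun β z ht => hd_pen hA cs hi hj hC β z ht)
    all_goals rw [show (i : ℕ) + 1 = 3 by omega, mul_one]; try rw [mul_one]
    · exact good3 hq (Or.inr rfl) (Or.inl rfl)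
    · exact good3 hq (Or.inr rfl) (Or.inr rfl)
    · exact pair3 hq (Or.inr rfl)
  · refine exists_two_P (M := KInstSp.model 3 F) (p := p) (AmbT.of_amb amb_Sp p) (p0 := SpIdent.adm 1) one_ne_zero
      (by omega) cs (fun _ => rfl) i (comp_sp hij hC1) (iso_sp hi hj hC) (nd_of fun v h => nd_sp h)
      (e := 1) (key 1) (a := 1) (b := 2) ?_ ?_ ?_ (fun β z ht => hd_pen hA cs hi hj hC β z ht)
    all_goals rw [show (i : ℕ) + 1 = 2 by omega, mul_one]; try rw [mul_one]
    · exact good2 hq (Or.inl rfl)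
    · exact good2 hq (Or.inr rfl)
    · exact pair2 hq

end sp

end Cfsg.Agent.H769.OZ
end

private theorem dce_13910f7ffca0 : _root_.True := by
  try have : _root_.True := by simp only [_root_.Cfsg.Agent.H890.OZ.SpT.e11.eq_1]
  try have : _root_.True := by simp only [_root_.Cfsg.Agent.H890.OZ.SpT.mv.eq_2]
  try have : _root_.True := by simp only [_root_.Cfsg.Agent.H890.OZ.SpT.mv.eq_def]
  try have : _root_.True := by simp only [_root_.Cfsg.Agent.H890.OZ.SpT.ix.eq_2]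
  try have : _root_.True := by simp only [_root_.Cfsg.Agent.H769.OZ.cw.eq_1]
  try have : _root_.True := by simp only [_root_.Cfsg.Agent.H890.OZ.SpT.mapF.eq_2]
  try have : _root_.True := by simp only [_root_.Cfsg.Agent.H890.OZ.SpT.tst17.eq_1]
  try have : _root_.True := by simp only [_root_.Cfsg.Agent.H890.OZ.SpT.mapF.eq_def]
  try have : _root_.True := by simp only [_root_.Cfsg.Agent.H890.OZ.SpT.mapF.eq_1]
  try have : _root_.True := by simp only [_root_.Cfsg.Agent.H890.OZ.SpT.chk.eq_def]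
  try have : _root_.True := by simp only [_root_.Cfsg.Agent.H769.OZ.wf.eq_1]
  try have : _root_.True := by simp only [_root_.Cfsg.Agent.H890.OZ.SpT.beqL._sparseCasesOn_2.else_eq]
  try have : _root_.True := by simp only [_root_.Cfsg.Agent.H890.OZ.SpT.mv.eq_1]
  try have : _root_.True := by simp only [_root_.Cfsg.Agent.H890.OZ.SpT.wf.eq_1]
  try have : _root_.True := by simp only [_root_.Cfsg.Agent.H769.OZ.w2.eq_1]
  try have : _root_.True := by simp only [_root_.Cfsg.Agent.H890.OZ.SpT.bz.eq_1]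
  try have : _root_.True := by simp only [_root_.Cfsg.Agent.H890.OZ.SpT.beqL.eq_3]
  try have : _root_.True := by simp only [_root_.Cfsg.Agent.H890.OZ.SpT.ix.eq_1]
  try have : _root_.True := by simp only [_root_.Cfsg.Agent.H890.OZ.SpT.chk.eq_1]
  try have : _root_.True := by simp only [_root_.Cfsg.Agent.H769.OZ.cm.eq_1]
  try have : _root_.True := by simp only [_root_.Cfsg.Agent.H890.OZ.SpT.beqL.eq_2]
  try have : _root_.True := by simp only [_root_.Cfsg.Agent.H890.OZ.SpT.beqL.eq_def]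
  try have : _root_.True := by simp only [_root_.Cfsg.Agent.H890.OZ.SpT.beqL._sparseCasesOn_1.else_eq]
  try have : _root_.True := by simp only [_root_.Cfsg.Agent.H890.OZ.SpT.chk.eq_2]
  try have : _root_.True := by simp only [_root_.Cfsg.Agent.H890.OZ.SpT.beqL.eq_1]
  try have : _root_.True := by simp only [_root_.Cfsg.Agent.H890.OZ.SpT.isS.eq_1]
  try have : _root_.True := by simp only [_root_.Cfsg.Agent.H769.OZ.dI.eq_1]
  try have : _root_.True := by simp only [_root_.Cfsg.Agent.H890.OZ.SpT.dec.eq_1]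
  try have : _root_.True := by simp only [_root_.Cfsg.Agent.H769.OZ.Ec.eq_1]
  exact _root_.True.intro
end

-- part: H639/OZ/OmHD
section
prune_inst 0x3246058015d62120000040080a10022e57500049010600400cd6608440908c1420042810104a0101a1022a0880004004811000030020000000a0004000004050118825604b2580c0886001e00000401000000000000000000000080000000000020c010000
set_option linter.all false
open scoped Cfsg.Agent.FastGrp

/-!
# S4842: `HD` for the elliptic elements of `POmega_{2m+1}`, `m = 3, 4` (helper639)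
-/

set_option autoImplicit false
set_option linter.unusedSectionVars false

open Cfsg

namespace Cfsg.Agent.H639.OZ

open CoxeterSystem Cfsg.Agent.ChevalleyStructure.CoxeterGeom Cfsg.Agent.Tits.Roots Cfsg.Agent.Nodes.TypeC
open Cfsg.Agent.Nodes Cfsg.Agent.Nodes.Comb Cfsg.Agent.Nodes.Reps Cfsg.Agent.Nodes.WittRoot Cfsg.Agent.Nodes.BNOf
open Cfsg.Agent.Nodes.WittRGD Cfsg.Agent.Nodes.RGDLib Cfsg.Agent.Nodes.WittAll
open Cfsg.Agent.TitsThree Cfsg.Agent.TitsThree.Siegel Cfsg.Agent.TitsThree.WittFrame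
  Cfsg.Agent.TitsThree.WittWeyl Cfsg.Agent.TitsThree.FrameCN
open Cfsg.Agent.Nodes.StabComb Cfsg.Agent.Nodes.Bruhat Cfsg.Agent.Nodes.LeviDec
open Cfsg.Agent.H62.PCFrame Cfsg.Agent.H62.PCWitt Cfsg.Agent.H985.VZ Module
open QuadraticMap Cfsg.Agent.LieClassical Cfsg.Agent.LieClassical.OrthCore Cfsg.Agent.LieClassical.OrthForms
open Cfsg.Agent.TitsThree.KSideO Cfsg.Agent.TitsThree.WBridge Cfsg.Agent.Nodes.WittU Cfsg.Agent.Nodes.WittInst
open Cfsg.Agent.H410.OZ Cfsg.Agent.H644.OZ Cfsg.Agent.H200.VZ Cfsg.Agent.H769.OZ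
open scoped MatrixGroups

variable {m : ℕ} {F : Type} [Field F]

theorem GE_mem_E (h2 : (2 : F) ≠ 0) (hG : LieClassical.OrthTrans.Good (oddForm m F)) {i : Fin m} (hi : 0 < i.1)
    {L : Type*} [Field L] [Algebra F L] (β : Basis {k : Fin m // k ≤ i} F L) {A : L ≃ₗ[F] L}
    (hA : LinearMap.det (A : L →ₗ[F] L) = 1) :
    Cfsg.Agent.H279.VZ.GE (toFrame (wodd m F)) β A ∈ _root_.Cfsg.Agent.LieClassical.OrthCore.E (oddForm m F) := by
  have hnt : Nontrivial {k : Fin m // k ≤ i} := by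
    refine ⟨⟨⟨i, le_rfl⟩, ⟨⟨0, by omega⟩, by rw [Fin.le_def]; exact Nat.zero_le _⟩, ?_⟩⟩
    intro h
    have h1 := congrArg (fun x : {k : Fin m // k ≤ i} => x.1.1) h
    simp only at h1
    omega
  have hF : ∃ a : F, a ≠ 0 ∧ a ≠ 1 := ⟨-1, neg_ne_zero.2 one_ne_zero, fun h => h2 (by
    have h1 : (2 : F) = 1 - (-1) := by ring
    rw [h1, h, sub_self])⟩
  have h1 := Cfsg.Agent.H279.VZ.mem_commutator_of_det β hF hA
  have h4 : Cfsg.Agent.H279.VZ.GE (toFrame (wodd m F)) β A ∈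
      (commutator (L ≃ₗ[F] L)).map (Cfsg.Agent.H279.VZ.GE (toFrame (wodd m F)) β) := Subgroup.mem_map_of_mem _ h1
  rw [commutator_def, Subgroup.map_commutator] at h4
  rw [← hG.commutator_eq_E]
  have h5 : (⊤ : Subgroup (L ≃ₗ[F] L)).map (Cfsg.Agent.H279.VZ.GE (toFrame (wodd m F)) β) ≤ O (oddForm m F) := by
    rintro _ ⟨B, -, rfl⟩
    exact mem_O_of_iso h2 (Cfsg.Agent.H279.VZ.isIso_GE (fun _ => rfl) B)
  exact Subgroup.commutator_mono h5 h5 h4

variable [Finite F] {W : Type*} [Group W] (cs : CoxeterSystem (CoxeterMatrix.B m) W) (h2 : (2 : F) ≠ 0)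
  (hG : LieClassical.OrthTrans.Good (oddForm m F)) (hp : ∃ p : (toFrame (wodd m F)).Adm, p.c ≠ 0)
  {p0 : (toFrame (wodd m F)).Adm} (hp0 : p0.c ≠ 0)

/-- **`HD` for the elements `gl z * D`** -/
theorem hd_gl {i : Fin m} (hi0 : 0 < i.1) (hi : (i : ℕ) + 1 = m ∨ (i : ℕ) + 2 = m) {L : Type} [Field L] [Finite L]
    [Algebra F L] (β : Basis {k : Fin m // k ≤ i} F L) {s : ℕ} {D : Vo m F ≃ₗ[F] Vo m F}
    (hD : Comp (toFrame (wodd m F)) i s D) (z : Lˣ)
    (ht : gl (toFrame (wodd m F)) β z * D ∈ (model (wodd m F) hG hp).I) :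
    HD cs (isCartan m) (WittModel.T (model (wodd m F) hG hp))
      (WittModel.nw (model (wodd m F) hG hp) (amb_O_of_two _ h2) p0) (WittModel.X (model (wodd m F) hG hp))
      (_root_.Cfsg.Agent.H644.OZ.hh (model (wodd m F) hG hp) (fun _ => rfl) (amb_O_of_two _ h2) hp0) {i}ᶜ
      ((model (wodd m F) hG hp).φ ⟨gl (toFrame (wodd m F)) β z * D, ht⟩) := by
  obtain ⟨p, hcp⟩ := CharP.exists F
  have hpp : Fact p.Prime := ⟨CharP.char_is_prime F p⟩
  refine hd_of hG hp (amb_O_of_two _ h2) cs h2 (fun _ => rfl) hp0 hp0 fun j x => ?_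
  obtain ⟨a, ha, h⟩ := Cfsg.Agent.H279.VZ.exists_conj (M := model (wodd m F) hG hp) (cs := cs) (p := p)
    (AmbT.of_amb (amb_O_of_two _ h2) p) hp0 (by have := i.2; omega) (fun _ => rfl)
    (fun A hA => GE_mem_E h2 hG hi0 β hA) hi hD ht (fun k => x ^ _root_.Cfsg.Agent.H644.OZ.cw j k)
  refine ⟨a, ha, ?_⟩
  ((conv => enter [@2]; rw [dd_φ]))
  exact h (cM hG hp (sh j x) ⟨_, ht⟩).2


/-- **`J = {m - 1}ᶜ = A_(m-1)`.** -/
theorem odd_last_HD (hm : m = 3 ∨ m = 4) {i : Fin m} (hi : i.1 + 1 = m) :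
    ∃ t t' : Cfsg.POmega F ⇑(oddForm m F), Ell cs (isCartan m) (WittModel.T (model (wodd m F) hG hp))
      (WittModel.X (model (wodd m F) hG hp)) {i}ᶜ t ∧
      Ell cs (isCartan m) (WittModel.T (model (wodd m F) hG hp)) (WittModel.X (model (wodd m F) hG hp)) {i}ᶜ t' ∧
      ¬ IsConj t t' ∧
      HD cs (isCartan m) (WittModel.T (model (wodd m F) hG hp))
      (WittModel.nw (model (wodd m F) hG hp) (amb_O_of_two _ h2) p0) (WittModel.X (model (wodd m F) hG hp))
      (_root_.Cfsg.Agent.H644.OZ.hh (model (wodd m F) hG hp) (fun _ => rfl) (amb_O_of_two _ h2) hp0) {i}ᶜ t ∧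
      HD cs (isCartan m) (WittModel.T (model (wodd m F) hG hp))
      (WittModel.nw (model (wodd m F) hG hp) (amb_O_of_two _ h2) p0) (WittModel.X (model (wodd m F) hG hp))
      (_root_.Cfsg.Agent.H644.OZ.hh (model (wodd m F) hG hp) (fun _ => rfl) (amb_O_of_two _ h2) hp0) {i}ᶜ t' := by
  obtain ⟨p, hcp⟩ := CharP.exists F
  have hpp : Fact p.Prime := ⟨CharP.char_is_prime F p⟩
  have hq := three_le F h2
  refine exists_two_P (M := model (wodd m F) hG hp) (p := p) (AmbT.of_amb (amb_O_of_two _ h2) p) hp0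
    (by omega) cs (fun _ => rfl) i (comp_one (toFrame (wodd m F)) i) (fun U hU h0 _ => iso_odd_last h2 hi U hU h0)
    (nd_of fun v h => nd_odd h2 h)
    (e := 2) (fun g hg _ _ => ?_) (a := 1) (b := 2) ?_ ?_ ?_
    (fun β z ht => hd_gl cs h2 hG hp hp0 (by omega) (Or.inl hi) β (comp_one (toFrame (wodd m F)) i) z ht)
  · rw [mul_one, pow_two]
    exact sq_mem_EQ hG (mem_O_of_iso h2 hg)
  all_goals rw [hi]; try rw [show 1 * 2 = 2 by norm_num]
  all_goals try rw [show 2 * 2 = 4 by norm_num]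
  all_goals rcases hm with rfl | rfl
  · exact good3 hq (Or.inl rfl) (Or.inl rfl)
  · exact good4 hq (Or.inl rfl)
  · exact good3 hq (Or.inl rfl) (Or.inr rfl)
  · exact good4 hq (Or.inr rfl)
  · exact pair3 hq (Or.inl rfl)
  · exact pair4 hq

/-- **`m = 4`, `J = {2}ᶜ = A_2 × A_1`.** -/
theorem odd_pen_HD (hm : m = 4) {i : Fin m} (hi : i.1 + 2 = m) :
    ∃ t t' : Cfsg.POmega F ⇑(oddForm m F), Ell cs (isCartan m) (WittModel.T (model (wodd m F) hG hp))
      (WittModel.X (model (wodd m F) hG hp)) {i}ᶜ t ∧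
      Ell cs (isCartan m) (WittModel.T (model (wodd m F) hG hp)) (WittModel.X (model (wodd m F) hG hp)) {i}ᶜ t' ∧
      ¬ IsConj t t' ∧
      HD cs (isCartan m) (WittModel.T (model (wodd m F) hG hp))
      (WittModel.nw (model (wodd m F) hG hp) (amb_O_of_two _ h2) p0) (WittModel.X (model (wodd m F) hG hp))
      (_root_.Cfsg.Agent.H644.OZ.hh (model (wodd m F) hG hp) (fun _ => rfl) (amb_O_of_two _ h2) hp0) {i}ᶜ t ∧
      HD cs (isCartan m) (WittModel.T (model (wodd m F) hG hp))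
      (WittModel.nw (model (wodd m F) hG hp) (amb_O_of_two _ h2) p0) (WittModel.X (model (wodd m F) hG hp))
      (_root_.Cfsg.Agent.H644.OZ.hh (model (wodd m F) hG hp) (fun _ => rfl) (amb_O_of_two _ h2) hp0) {i}ᶜ t' := by
  obtain ⟨p, hcp⟩ := CharP.exists F
  have hpp : Fact p.Prime := ⟨CharP.char_is_prime F p⟩
  have hq := three_le F h2
  obtain ⟨C, hC1, hC, hB⟩ := exists_C F (p := p)
  obtain ⟨B, hB0, hB⟩ := hB (odd_card F h2)
  let B' : GL (Fin 2) F := Matrix.GeneralLinearGroup.mkOfDetNeZero B hB0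
  have hCB : (B' * B' : GL (Fin 2) F).1 = C.1 := hB.symm
  have hC' : Anis (B' * B' : GL (Fin 2) F).1 := by rw [hCB]; exact hC
  have hC1' : (B' * B') ^ (Nat.card F + 1) = 1 := by
    apply Units.ext
    rw [Units.val_pow_eq_pow_val, hCB, ← Matrix.SpecialLinearGroup.coe_pow, hC1]
    rfl
  obtain ⟨j, hj⟩ : ∃ j : Fin m, j.1 + 1 = m := ⟨⟨m - 1, by omega⟩, by change m - 1 + 1 = m; omega⟩
  have hij : i < j := by rw [Fin.lt_def]; omega
  have key : ∀ (g : Vo m F ≃ₗ[F] Vo m F), (HO (oddForm m F)).IsIso g →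
      g * adE j (B' * B') = adE j (B' * B') * g → (∀ v ∈ Mid (toFrame (wodd m F)) i, g v = v) →
      g ^ 2 * adE j (B' * B') ∈ (model (wodd m F) hG hp).I := fun g hg _ _ => by
    rw [pow_two, map_mul]
    exact (_root_.Cfsg.Agent.LieClassical.OrthCore.E (oddForm m F)).mul_mem (sq_mem_EQ hG (mem_O_of_iso h2 hg)) (sq_mem_EQ hG (adE_mem_O j B'))
  refine exists_two_P (M := model (wodd m F) hG hp) (p := p) (AmbT.of_amb (amb_O_of_two _ h2) p) hp0
    (by omega) cs (fun _ => rfl) i (comp_odd hij hC1') (iso_odd h2 hi hj hC') (nd_of fun v h => nd_odd h2 h)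
    (e := 2) key (a := 1) (b := 2) ?_ ?_ ?_
    (fun β z ht => hd_gl cs h2 hG hp hp0 (by omega) (Or.inr hi) β (comp_odd hij hC1') z ht)
  all_goals rw [show (i : ℕ) + 1 = 3 by omega]; try rw [show 1 * 2 = 2 by norm_num]
  all_goals try rw [show 2 * 2 = 4 by norm_num]
  · exact good3 hq (Or.inr rfl) (Or.inl rfl)
  · exact good3 hq (Or.inr rfl) (Or.inr rfl)
  · exact pair3 hq (Or.inr rfl)

/-- **`POmega_7(q)`, `q ≥ 5`, `J = {1}ᶜ = A_1 × A_1`.** -/
theorem odd_pen3_HD {F : Type} [Field F] [Finite F] {W : Type*} [Group W] (cs : CoxeterSystem (CoxeterMatrix.B 3) W)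
    (h2 : (2 : F) ≠ 0) (hG : LieClassical.OrthTrans.Good (oddForm 3 F)) (hp : ∃ p : (toFrame (wodd 3 F)).Adm, p.c ≠ 0)
    {p0 : (toFrame (wodd 3 F)).Adm} (hp0 : p0.c ≠ 0) (hq : 4 ≤ Nat.card F) {i : Fin 3} (hi : i.1 + 2 = 3) :
    ∃ t t' : Cfsg.POmega F ⇑(oddForm 3 F), Ell cs (isCartan 3) (WittModel.T (model (wodd 3 F) hG hp))
      (WittModel.X (model (wodd 3 F) hG hp)) {i}ᶜ t ∧
      Ell cs (isCartan 3) (WittModel.T (model (wodd 3 F) hG hp)) (WittModel.X (model (wodd 3 F) hG hp)) {i}ᶜ t' ∧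
      ¬ IsConj t t' ∧
      HD cs (isCartan 3) (WittModel.T (model (wodd 3 F) hG hp))
      (WittModel.nw (model (wodd 3 F) hG hp) (amb_O_of_two _ h2) p0) (WittModel.X (model (wodd 3 F) hG hp))
      (_root_.Cfsg.Agent.H644.OZ.hh (model (wodd 3 F) hG hp) (fun _ => rfl) (amb_O_of_two _ h2) hp0) {i}ᶜ t ∧
      HD cs (isCartan 3) (WittModel.T (model (wodd 3 F) hG hp))
      (WittModel.nw (model (wodd 3 F) hG hp) (amb_O_of_two _ h2) p0) (WittModel.X (model (wodd 3 F) hG hp))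
      (_root_.Cfsg.Agent.H644.OZ.hh (model (wodd 3 F) hG hp) (fun _ => rfl) (amb_O_of_two _ h2) hp0) {i}ᶜ t' := by
  obtain rfl : i = 1 := Fin.ext (by change i.1 = 1; omega)
  obtain ⟨p, hcp⟩ := CharP.exists F
  have hpp : Fact p.Prime := ⟨CharP.char_is_prime F p⟩
  let L := FiniteField.Extension F p 2
  have hfr : finrank F L = 2 := FiniteField.finrank_extension F p 2
  have : FiniteDimensional F L := Module.Finite.of_finite
  let b2 : Basis (Fin 2) F L := finBasisOfFinrankEq F L hfr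
  have hcL : Nat.card Lˣ = Nat.card F ^ 2 - 1 := by
    have h1 : Nat.card L = Nat.card F ^ 2 := FiniteField.natCard_extension F p 2
    rw [Nat.card_units, h1]
  obtain ⟨γ, hγ⟩ := IsCyclic.exists_generator (α := Lˣ)
  have hord : orderOf γ = Nat.card F ^ 2 - 1 := by rw [orderOf_eq_card_of_forall_mem_zpowers hγ, hcL]
  have hnotF : ∀ k : ℕ, k = 1 ∨ k = 2 → ∀ l : F, (γ : L) ^ k ≠ algebraMap F L l := by
    intro k hk l hl
    have : Fintype F := Fintype.ofFinite F
    have hl0 : l ≠ 0 := by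
      rintro rfl
      rw [map_zero] at hl
      exact pow_ne_zero _ γ.ne_zero hl
    have h3 : ((γ : L) ^ k) ^ (Nat.card F - 1) = 1 := by
      rw [hl, ← map_pow, Nat.card_eq_fintype_card, FiniteField.pow_card_sub_one_eq_one _ hl0, map_one]
    rw [← pow_mul, ← Units.val_pow_eq_pow_val, Units.val_eq_one, ← orderOf_dvd_iff_pow_eq_one, hord] at h3
    obtain ⟨c, hc⟩ : ∃ c, Nat.card F = c + 4 := ⟨Nat.card F - 4, by omega⟩
    rw [hc] at h3
    have h4 : (c + 4) ^ 2 - 1 = (c + 3) * (c + 5) := by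
      have : (c + 4) ^ 2 = (c + 3) * (c + 5) + 1 := by ring
      rw [this, Nat.add_sub_cancel]
    rw [h4, show c + 4 - 1 = c + 3 by omega] at h3
    have h5 := Nat.le_of_dvd (by rcases hk with rfl | rfl <;> (clear * -; positivity)) h3
    rcases hk with rfl | rfl <;> nlinarith only [h5]
  set A' : GL (Fin 2) F := Matrix.GeneralLinearGroup.mkOfDetNeZero (Algebra.leftMulMatrix b2 (γ : L))
    (det_mul_ne b2 γ.ne_zero) with hA'
  have hA1 : A'.1 = Algebra.leftMulMatrix b2 (γ : L) := rfl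
  have hAn : Anis A'.1 := by
    rw [hA1]
    exact anis_mul b2 fun l => by have := hnotF 1 (Or.inl rfl) l; rwa [pow_one] at this
  have hAn2 : Anis (A' * A').1 := by
    rw [Units.val_mul, hA1, ← map_mul, ← pow_two]
    exact anis_mul b2 (hnotF 2 (Or.inr rfl))
  obtain ⟨S, d, hSd, h00, h10, h01, h11⟩ := exists_SL A'
  have hne : (0 : Fin 3) ≠ 1 := by decide
  have hm1 : gl (toFrame (wodd 3 F)) (b2.reindex e2) γ * adE 2 A' ∈ _root_.Cfsg.Agent.LieClassical.OrthCore.E (oddForm 3 F) := by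
    rw [gl_eq b2 γ A' hA1 h00 h10 h01 h11 hne]
    have h9 := _root_.Cfsg.Agent.H410.OZ.prod_mem (k := 0) (l := 1) (j := 2) hne (by decide) h2 hG (S := S) (d := d) S
    rwa [← hSd] at h9
  have hpow : (adE (2 : Fin 3) A') ^ (Nat.card F + 1) = 1 := by
    rw [← map_pow]
    refine LinearEquiv.ext fun v => ?_
    rw [adE_apply, Units.val_pow_eq_pow_val, hA1, ← map_pow]
    have h3 : (γ : L) ^ (Nat.card F + 1) = algebraMap F L (Algebra.norm F (γ : L)) := by
      rw [FiniteField.algebraMap_norm_eq_pow_sum, hfr, Finset.sum_range_succ, Finset.sum_range_one, pow_zero, pow_one,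
        add_comm]
    rw [h3, AlgHom.commutes]
    exact adL_scalar 2 (Algebra.norm_ne_zero_iff.2 γ.ne_zero) v
  have hij : (1 : Fin 3) < 2 := by decide
  have hD : Comp (toFrame (wodd 3 F)) 1 (Nat.card F + 1) (adE 2 A') :=
    { iso := (comp_odd hij (s := 0) (pow_zero A')).iso
      fix := (comp_odd hij (s := 0) (pow_zero A')).fix
      pow := fun v _ => by rw [hpow]; rfl }
  have hD2 := hD.sq
  have hm2 : gl (toFrame (wodd 3 F)) (b2.reindex e2) (γ ^ 2) * (adE 2 A' * adE 2 A') ∈ _root_.Cfsg.Agent.LieClassical.OrthCore.E (oddForm 3 F) := by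
    have e : gl (toFrame (wodd 3 F)) (b2.reindex e2) (γ ^ 2) * (adE 2 A' * adE 2 A') =
        gl (toFrame (wodd 3 F)) (b2.reindex e2) γ * adE 2 A' * (gl (toFrame (wodd 3 F)) (b2.reindex e2) γ * adE 2 A') := by
      have hc := gl_comm (β := b2.reindex e2) hD γ
      rw [pow_two, map_mul]
      generalize gl (toFrame (wodd 3 F)) (b2.reindex e2) γ = g at hc ⊢
      generalize adE (2 : Fin 3) A' = E at hc ⊢
      calc g * g * (E * E) = g * (g * E) * E := by group
        _ = g * (E * g) * E := by rw [hc]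
        _ = g * E * (g * E) := by group
    rw [e]
    exact mul_mem hm1 hm1
  have hm1' : gl (toFrame (wodd 3 F)) (b2.reindex e2) (γ ^ 1) * adE 2 A' ∈ _root_.Cfsg.Agent.LieClassical.OrthCore.E (oddForm 3 F) := by
    rw [pow_one]; exact hm1
  have hA := AmbT.of_amb (amb_O_of_two (wodd 3 F) h2) p
  have g1 := good2 hq (Or.inl rfl : (1 : ℕ) = 1 ∨ (1 : ℕ) = 2)
  have g2 := good2 hq (Or.inr rfl : (2 : ℕ) = 1 ∨ (2 : ℕ) = 2)
  have g12 := pair2 hq
  refine ⟨toPOmega hG ⟨_, hm1'⟩, toPOmega hG ⟨_, hm2⟩, ?_, ?_, ?_, ?_, ?_⟩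
  · exact ell_gl (M := model (wodd 3 F) hG hp) hA hp0 (by omega) hD hm1' (g1.adjoin hord rfl hfr)
      (g1.ne hord) (g1.root hord rfl hfr) (iso_odd h2 hi rfl hAn) (nd_of fun v h => nd_odd h2 h)
  · refine ell_gl (M := model (wodd 3 F) hG hp) hA hp0 (by omega) hD2 hm2 (g2.adjoin hord rfl hfr)
      (g2.ne hord) (g2.root hord rfl hfr) ?_ (nd_of fun v h => nd_odd h2 h)
    rw [← map_mul]
    exact iso_odd h2 hi rfl hAn2
  · exact not_isConj_gl (M := model (wodd 3 F) hG hp) hA (by omega) (fun _ => rfl) hD hD2 hm1' hm2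
      (fun c hc => g12.root hord rfl hfr hc) (fun c hc => g12.root_inv hord rfl hfr hc) (fun c hc => g12.ne hord rfl hc)
  · exact hd_gl cs h2 hG hp hp0 (i := 1) (by decide) (Or.inr rfl) _ hD _ hm1'
  · exact hd_gl cs h2 hG hp hp0 (i := 1) (by decide) (Or.inr rfl) _ hD2 _ hm2

end Cfsg.Agent.H639.OZ
end

-- part: H695/OneZero/E8Row
section
set_option linter.all false
open scoped Cfsg.Agent.FastGrp

/-!
# S4842: the row `E₈`

`none_E8_of` : no irreducible character of the simple group `E₈(q)` vanishes on exactly one class, given `Kaw p G`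
and the configurations `RankOneAt` for the primes of order `7a`.
-/

set_option autoImplicit false

namespace Cfsg.Agent.H695.OneZero

open Cfsg Cfsg.Lie Cfsg.Agent.Characters Finset Cfsg.Agent.H730.OZ Cfsg.Agent.H448.Van

universe u

/-- **Closing criterion** for one character.  `v` is the exponent of `p` in the group order. -/
theorem none_of_sum {G : Type u} [Group G] [Finite G] (hs : IsSimpleGroup G) {p : ℕ} (hp : p.Prime)
    {v : ℕ} (hv : (Nat.card G).factorization p = v) (hv0 : v ≠ 0) (hK : Kaw p G)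
    (h0 : ¬ p ^ (2 * v) - 1 ∣ Nat.card G) {χ : G → ℂ} (hχ : IsIrrCharacter G χ) (hz : OneZero χ)
    (hmid : ∀ (m : ℕ) (e : ℤ), (e = 1 ∨ e = -1) → 0 < m → m < 2 * v →
      ∑ᶠ u ∈ pSet p G, χ u = (e : ℂ) * (p : ℂ) ^ m * χ 1 → False) : False := by
  classical
  have := Fintype.ofFinite G
  have hd : ((charDegree χ : ℕ) : ℂ) = χ 1 := H686.CharKit.charDegree_cast (Core.isIrr_isCharacter hχ)
  have hd0 : 0 < charDegree χ := H686.CharKit.charDegree_pos ⟨χ, hχ⟩
  have hpG : p ∣ Nat.card G := by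
    by_contra h
    rw [Nat.factorization_eq_zero_of_not_dvd h] at hv
    exact hv0 hv.symm
  obtain ⟨m, e, he, hsum⟩ := hK.sum χ hχ
  obtain ⟨hmle, hmtop⟩ := hK.top hp hχ he hsum
  rw [hv] at hmle hmtop
  rcases Nat.eq_zero_or_pos m with hm0 | hm0
  · -- `m = 0`
    refine h0 ?_
    have h1 := OneZero.dvd_of_degree hp hpG hχ hz ?_
    · rwa [hK.card, hv] at h1
    · obtain ⟨z, hzz⟩ := frob hp hχ
      rw [hsum, hm0, pow_zero, mul_one, ← hd] at hzz
      have h2 : e * (charDegree χ : ℤ) = ((p ^ (Nat.card G).factorization p : ℕ) : ℤ) * z := by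
        exact_mod_cast hzz
      have h3 : ((p ^ (Nat.card G).factorization p : ℕ) : ℤ) ∣ (charDegree χ : ℤ) := by
        rcases he with rfl | rfl
        · exact ⟨z, by rw [← h2, one_mul]⟩
        · exact ⟨-z, by rw [mul_neg, ← h2]; ring⟩
      exact_mod_cast h3
  rcases Nat.lt_or_ge m (2 * v) with hlt | hge
  · exact hmid m e he hm0 hlt hsum
  · -- `m = 2 v`
    have hall := hmtop (le_antisymm hmle hge)
    obtain ⟨u, hu⟩ := @exists_prime_orderOf_dvd_card' G _ _ p ⟨hp⟩ hpG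
    have hu1 : χ u = χ 1 := hall u ⟨1, by rw [hu, pow_one]⟩
    set K := H686.CharKit.chKer (⟨χ, hχ⟩ : IrrCharacter G) with hKdef
    have huK : u ∈ K := H686.CharKit.mem_chKer.2 hu1
    have hKtop : K = ⊤ := by
      rcases hs.eq_bot_or_eq_top_of_normal K inferInstance with h | h
      · exfalso
        rw [h, Subgroup.mem_bot] at huK
        rw [huK, orderOf_one] at hu
        exact hp.one_lt.ne hu
      · exact h
    obtain ⟨x, hx0, -⟩ := hz
    have hxK : x ∈ K := by rw [hKtop]; exact Subgroup.mem_top _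
    have hx1 : χ x = χ 1 := H686.CharKit.mem_chKer.1 hxK
    rw [hx0, ← hd] at hx1
    have : (charDegree χ : ℂ) ≠ 0 := by exact_mod_cast hd0.ne'
    exact this hx1.symm

/-- The arithmetic of the middle case. -/
theorem mid_seven {p a r : ℕ} (ha : 0 < a) (hr : r.Prime)
    (hord : orderOf (p : ZMod r) = a * 7)
    (h : (r : ℤ) ∣ 1 * p ^ (a * 120) - (p ^ (2 * (120 * a)) : ℕ) ∨ (r : ℤ) ∣ 1 * p ^ (a * 120) + (p ^ a : ℕ)) :
    False := by
  have : Fact r.Prime := ⟨hr⟩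
  have hp0 : (p : ZMod r) ≠ 0 := by
    intro h0
    rw [h0] at hord
    have h4 : orderOf (0 : ZMod r) = 0 := orderOf_eq_zero_iff'.2 fun n hn h => by
      rw [zero_pow hn.ne'] at h
      exact zero_ne_one h
    omega
  have h7 : ((p : ZMod r) ^ a) ^ 7 = 1 := by rw [← pow_mul, ← hord, pow_orderOf_eq_one]
  obtain ⟨x, hx⟩ : ∃ x : ZMod r, x = (p : ZMod r) ^ a := ⟨_, rfl⟩
  rw [← hx] at h7
  have hx0 : x ≠ 0 := hx ▸ pow_ne_zero _ hp0
  have hx1 : x ≠ 1 := by
    intro h1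
    rw [hx] at h1
    have h2 : orderOf (p : ZMod r) ∣ a := orderOf_dvd_of_pow_eq_one h1
    rw [hord] at h2
    have := Nat.le_of_dvd ha h2
    omega
  have h120 : (p : ZMod r) ^ (a * 120) = x := by
    rw [pow_mul, ← hx]
    calc x ^ 120 = (x ^ 7) ^ 17 * x := by ring
      _ = x := by rw [h7, one_pow, one_mul]
  have h240 : (p : ZMod r) ^ (2 * (120 * a)) = x ^ 2 := by
    rw [show 2 * (120 * a) = a * 240 by ring, pow_mul, ← hx]
    calc x ^ 240 = (x ^ 7) ^ 34 * x ^ 2 := by ring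
      _ = x ^ 2 := by rw [h7, one_pow, one_mul]
  rcases h with h | h
  · have h1 := (ZMod.intCast_zmod_eq_zero_iff_dvd _ r).2 h
    push_cast at h1
    rw [h120, h240, one_mul] at h1
    have h2 : x * (x - 1) = 0 := by linear_combination -h1
    rcases mul_eq_zero.1 h2 with h3 | h3
    · exact hx0 h3
    · exact hx1 (sub_eq_zero.1 h3)
  · have h1 := (ZMod.intCast_zmod_eq_zero_iff_dvd _ r).2 h
    push_cast at h1
    rw [h120, ← hx, one_mul, ← two_mul] at h1
    rcases mul_eq_zero.1 h1 with h3 | h3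
    · -- `r = 2`
      have h4 : ((2 : ℕ) : ZMod r) = 0 := by exact_mod_cast h3
      rw [ZMod.natCast_eq_zero_iff] at h4
      have h5 : r = 2 := (Nat.prime_dvd_prime_iff_eq hr Nat.prime_two).1 h4
      have h6 : orderOf (p : ZMod r) ∣ r - 1 :=
        orderOf_dvd_of_pow_eq_one (ZMod.pow_card_sub_one_eq_one hp0)
      rw [hord, h5] at h6
      have := Nat.le_of_dvd (by norm_num) h6
      omega
    · exact hx0 h3

variable {F : Type u} [Field F] [Fintype F] {p a : ℕ}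

/-- **`E₈(q)`** -/
theorem none_E8_of (hs : IsSimpleGroup ↥(chevE8.group F)) (hp : p.Prime) (ha : 0 < a)
    (hF : Fintype.card F = p ^ a) (hK : Kaw p ↥(chevE8.group F))
    (hgeo : ∃ r, r.Prime ∧ orderOf (p : ZMod r) = a * 7 ∧ RankOneAt ↥(chevE8.group F) p r (p ^ a)) :
    NoOne ↥(chevE8.group F) := by
  intro χ hχ hz
  have hG := Cfsg.Agent.S1065.result hF
  have hL : (([2, 8, 12, 14, 18, 20, 24, 30] : List ℕ).map fun d => (p ^ a) ^ d - 1).prod =
      ((p ^ a) ^ 2 - 1) * ((p ^ a) ^ 8 - 1) * ((p ^ a) ^ 12 - 1) * ((p ^ a) ^ 14 - 1) * ((p ^ a) ^ 18 - 1) *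
      ((p ^ a) ^ 20 - 1) * ((p ^ a) ^ 24 - 1) * ((p ^ a) ^ 30 - 1) := by
    simp only [List.map_cons, List.map_nil, List.prod_cons, List.prod_nil, mul_one, mul_assoc]
  have hG' : 1 * Nat.card ↥(chevE8.group F) =
      p ^ (120 * a) * (([2, 8, 12, 14, 18, 20, 24, 30] : List ℕ).map fun d => (p ^ a) ^ d - 1).prod := by
    rw [one_mul, hG, hL]
    simp only [← pow_mul]
    rw [mul_comm a 120]
    ring
  have hv : (Nat.card ↥(chevE8.group F)).factorization p = 120 * a :=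
    fact_of hp (fun h => hp.one_lt.ne' (Nat.dvd_one.1 h))
      (not_dvd_prod hp ha (fun d hd => by simp at hd; omega)) Nat.card_pos.ne' hG'
  obtain ⟨r, hr, hro⟩ := good_E8 (m := 15) hp ha hF (Or.inl rfl)
  obtain ⟨s, hs', hso⟩ := good_E8 (m := 20) hp ha hF (Or.inr (Or.inl rfl))
  obtain ⟨t, ht, hto⟩ := good_E8 (m := 24) hp ha hF (Or.inr (Or.inr (Or.inl rfl)))
  refine none_of_sum hs hp hv (by omega) hK ?_ hχ hz ?_
  · rw [show 2 * (120 * a) = a * 240 by ring]
    refine not_dvd_card hp ha (by norm_num) (N := 120 * a) (L := [2, 8, 12, 14, 18, 20, 24, 30]) ?_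
      (fun d hd => by simp at hd; omega)
    rw [← hG', one_mul]
  · intro m e he hm hm2 hsum
    have hc : ∀ r k : ℕ, Cong p r k ↥(chevE8.group F) → (r : ℤ) ∣ e * (p : ℤ) ^ m - (p : ℤ) ^ k :=
      fun r k hrk => hrk χ hχ hz m e he hsum
    obtain ⟨h1, h2, h3⟩ := ords hp hr hro (by omega) hc he
    obtain ⟨h4, h5, h6⟩ := ords hp hs' hso (by omega) hc he
    obtain ⟨h7, h8, h9⟩ := ords hp ht hto (by omega) hc he
    obtain ⟨rfl, rfl⟩ := mid_E8 ha hm (by omega) h1 h4 h7 h2 (fun h => ⟨h3 h, h6 h, h9 h⟩) he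
    obtain ⟨w, hw, hwo, hgeo⟩ := hgeo
    have hwp : w ≠ p := by
      rintro rfl
      have h10 : (w : ZMod w) = 0 := ZMod.natCast_self w
      have : Fact w.Prime := ⟨hw⟩
      rw [h10] at hwo
      have h4 : orderOf (0 : ZMod w) = 0 := orderOf_eq_zero_iff'.2 fun n hn h => by
        rw [zero_pow hn.ne'] at h
        exact zero_ne_one h
      omega
    have h10 := hgeo.dvd hp hw hwp (Nat.one_lt_pow ha.ne' hp.one_lt) hχ hz hsum
    rw [hK.card, hv] at h10
    exact mid_seven ha hw hwo (by exact_mod_cast h10)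

/-- **`E₈(q)`**, from the configurations for all primes of order `7a`. -/
theorem none_E8_of' (hs : IsSimpleGroup ↥(chevE8.group F)) (hp : p.Prime) (ha : 0 < a)
    (hF : Fintype.card F = p ^ a) (hK : Kaw p ↥(chevE8.group F))
    (hgeo : ∀ r : ℕ, r.Prime → orderOf (p : ZMod r) = 7 * a → RankOneAt ↥(chevE8.group F) p r (p ^ a)) :
    NoOne ↥(chevE8.group F) := by
  obtain ⟨r, hr, ho⟩ := Cfsg.Agent.Lib.Zsigmondy.exists_prime_orderOf (a := p) (n := 7 * a) hp.two_le
    (by omega) (by omega) (by omega)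
  exact none_E8_of hs hp ha hF hK ⟨r, hr, by rw [ho, mul_comm], hgeo r hr ho⟩

end Cfsg.Agent.H695.OneZero
end

-- part: H320/OZ/RowF4All
section
prune_inst 0x80000000000000c010000
set_option linter.all false
open scoped Cfsg.Agent.FastGrp

-- part: H858/OZ/F4Out
section
/-!
# S4842, row `F₄(q)`, `q ≥ 3`: the outer part (helper858)

`out_F4` : an irreducible character of `F₄(q)` with exactly one class of zeros has `∑_{p-elements} χ = p ^ (24 a) χ(1)`, and its
degree is prime to a primitive prime `r ∣ q⁴ + 1`.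
`contra_F4` : such an `r` divides the degrees of the four candidates.
-/

set_option autoImplicit false

namespace Cfsg.Agent.H858.OZ

open Cfsg Cfsg.Lie Cfsg.Agent.Characters Cfsg.Agent.H730.OZ Cfsg.Agent.H448.Van
open Cfsg.Agent.H732.VZ (One Iso dvd_cases)

universe u

/-- an isolated prime does not divide the degree -/
theorem not_dvd_deg {G : Type u} [Group G] [Finite G] {p r : ℕ} (h : Iso G p r) {χ : G → ℂ} (hχ : IsIrrCharacter G χ)
    (h1 : OneZero χ) : ¬ r ∣ charDegree χ := by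
  classical
  have := Fintype.ofFinite G
  obtain ⟨x, hx0, hx⟩ := h1
  obtain ⟨hr, -, z, hz, h1, h2, -, h4⟩ := h
  have hOne : One (⟨χ, hχ⟩ : IrrCharacter G) x := ⟨hx0, hx⟩
  intro hd
  obtain ⟨h5, h6⟩ := dvd_cases hOne hr hz h1 h2 hd
  rcases h4 with h4 | ⟨m, hm1, hm2⟩
  · exact h4 h5
  · exact hm2 (h6 m hm1)

/-- the middle value -/
theorem mid_F4 {a m : ℕ} {e : ℤ} (ha : 0 < a) (hm : 0 < m) (hm2 : m < 48 * a)
    (h1 : a * 8 ∣ 2 * m) (h2 : a * 12 ∣ 2 * m) (h3 : e = -1 → ¬ a * 12 ∣ m)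
    (h4 : e = 1 → a * 8 ∣ m ∧ a * 12 ∣ m) (he : e = 1 ∨ e = -1) : e = 1 ∧ m = 24 * a := by
  have key : ∀ M, a * 8 ∣ M → a * 12 ∣ M → a * 24 ∣ M := by
    intro M h5 h6
    obtain ⟨c, hc⟩ := (Dvd.intro 8 rfl : a ∣ a * 8).trans h5
    rw [hc] at h5 h6 ⊢
    have h7 := Nat.dvd_of_mul_dvd_mul_left ha h5
    have h8 := Nat.dvd_of_mul_dvd_mul_left ha h6
    apply Nat.mul_dvd_mul_left
    omega
  rcases he with rfl | rfl
  · obtain ⟨h5, h6⟩ := h4 rfl
    obtain ⟨c, hc⟩ := key m h5 h6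
    refine ⟨rfl, ?_⟩
    have h5 : c < 2 := by
      by_contra hcon
      have : a * 24 * 2 ≤ a * 24 * c := Nat.mul_le_mul_left _ (by omega)
      omega
    have h6 : c = 1 := by
      rcases Nat.eq_zero_or_pos c with rfl | h6
      · omega
      · omega
    subst h6
    omega
  · exfalso
    obtain ⟨c, hc⟩ := key (2 * m) h1 h2
    apply h3 rfl
    refine ⟨c, ?_⟩
    have : a * 24 * c = 2 * (a * 12 * c) := by ring
    omega

theorem neg_one_two : (-1 : ZMod 2) = 1 := by decide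

/-- a primitive prime of order `8 a` -/
theorem dvd_of_ord {p a r : ℕ} (ha : 0 < a) (hr : r.Prime) (ho : orderOf (p : ZMod r) = a * 8) :
    r ≠ 2 ∧ r ∣ (p ^ a) ^ 4 + 1 := by
  have : Fact r.Prime := ⟨hr⟩
  have h8 : ((p : ZMod r) ^ (a * 4)) * ((p : ZMod r) ^ (a * 4)) = 1 := by
    rw [← pow_add, show a * 4 + a * 4 = a * 8 by ring, ← ho, pow_orderOf_eq_one]
  have h4 : (p : ZMod r) ^ (a * 4) ≠ 1 := by
    intro h
    have h1 := orderOf_dvd_of_pow_eq_one h
    rw [ho] at h1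
    have := Nat.le_of_dvd (by omega) h1
    omega
  have h5 : (p : ZMod r) ^ (a * 4) = -1 := (mul_self_eq_one_iff.1 h8).resolve_left h4
  refine ⟨?_, ?_⟩
  · rintro rfl
    apply h4
    rw [h5]
    exact neg_one_two
  · rw [← ZMod.natCast_eq_zero_iff]
    push_cast
    rw [← pow_mul, h5]
    ring

/-- **The outer part** -/
theorem out_F4 {F : Type u} [Field F] [Fintype F] {p a : ℕ} (hp : p.Prime) (ha : 0 < a) (hF : Fintype.card F = p ^ a)
    (hq : 3 ≤ p ^ a) {χ : ↥(chevF4.group F) → ℂ} (hχ : IsIrrCharacter _ χ) (h1 : OneZero χ) :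
    (∑ᶠ u ∈ pSet p ↥(chevF4.group F), χ u = (p : ℂ) ^ (24 * a) * χ 1) ∧
      ∃ r, r.Prime ∧ r ≠ 2 ∧ r ∣ (p ^ a) ^ 4 + 1 ∧ ¬ r ∣ charDegree χ := by
  have hs : IsSimpleGroup ↥(chevF4.group F) := (Cfsg.Agent.S1054.result (F := F) chevF4 (by simp)).1
  have : Fact p.Prime := ⟨hp⟩
  have : CharP F p := charP_of_card_eq_prime_pow hF
  have hK : Kaw p ↥(chevF4.group F) := H279.OZ.kaw_of_hasRGD hp (Nodes.RGDChev.hasRGD_F4 F p)
  have hG := Cfsg.Agent.S1062.result hF
  have hL : (([2, 6, 8, 12] : List ℕ).map fun d => (p ^ a) ^ d - 1).prod = ((p ^ a) ^ 2 - 1) *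
      ((p ^ a) ^ 6 - 1) * ((p ^ a) ^ 8 - 1) * ((p ^ a) ^ 12 - 1) := by
    simp only [List.map_cons, List.map_nil, List.prod_cons, List.prod_nil, mul_one, mul_assoc]
  have hG' : 1 * Nat.card ↥(chevF4.group F) =
      p ^ (24 * a) * (([2, 6, 8, 12] : List ℕ).map fun d => (p ^ a) ^ d - 1).prod := by
    rw [hG, hL, one_mul]
    simp only [← pow_mul]
    rw [mul_comm a 24]
    ring
  have hv : (Nat.card ↥(chevF4.group F)).factorization p = 24 * a :=
    fact_of hp (fun h => hp.one_lt.ne' (Nat.dvd_one.1 h))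
      (not_dvd_prod hp ha (fun d hd => by simp at hd; omega)) Nat.card_pos.ne' hG'
  obtain ⟨r, hr, hro⟩ := H448.Van.good_F4_8 hp ha hF
  obtain ⟨s, hs', hso⟩ := H448.Van.good_F4_12 hp ha hF (by omega)
  refine ⟨?_, r, hr.prime, (dvd_of_ord ha hr.prime hro).1, (dvd_of_ord ha hr.prime hro).2, not_dvd_deg hr.iso hχ h1⟩
  by_contra hcon
  refine H695.OneZero.none_of_sum hs hp hv (by omega) hK ?_ hχ h1 ?_
  · rw [show 2 * (24 * a) = a * 48 by ring]
    refine not_dvd_card hp ha (by norm_num) (N := 24 * a) (L := [2, 6, 8, 12]) ?_ (fun d hd => by simp at hd; omega)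
    rw [← hG', one_mul]
  · intro m e he hm hm2 hsum
    have hc : ∀ r k : ℕ, Cong p r k ↥(chevF4.group F) → (r : ℤ) ∣ e * (p : ℤ) ^ m - (p : ℤ) ^ k :=
      fun r k hrk => hrk χ hχ h1 m e he hsum
    obtain ⟨h1, -, h3⟩ := ords hp hr hro (by omega) hc he
    obtain ⟨h4, h5, h6⟩ := ords hp hs' hso (by omega) hc he
    obtain ⟨rfl, rfl⟩ := mid_F4 ha hm (by omega) h1 h4 h5 (fun h => ⟨h3 h, h6 h⟩) he
    apply hcon
    rw [hsum]
    push_cast
    ring

/-- **The degrees of the candidates** -/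
theorem contra_F4 {q r : ℕ} {D : ℤ} (hr : r.Prime) (hr2 : r ≠ 2) (hrq : r ∣ q ^ 4 + 1)
    (h : 8 * D = (q : ℤ) ^ 4 * (1 + (q : ℤ) ^ 2) ^ 2 * ((q : ℤ) ^ 2 - q + 1) ^ 2 * (1 + (q : ℤ) ^ 4) *
        ((q : ℤ) ^ 4 - (q : ℤ) ^ 2 + 1) ∨
      4 * D = (q : ℤ) ^ 4 * (1 + (q : ℤ)) ^ 2 * (1 + (q : ℤ) ^ 2) * ((q : ℤ) ^ 2 - q + 1) ^ 2 * (1 + (q : ℤ) ^ 4) *
        ((q : ℤ) ^ 4 - (q : ℤ) ^ 2 + 1)) : (r : ℤ) ∣ D := by
  have hrq' : (r : ℤ) ∣ 1 + (q : ℤ) ^ 4 := by
    have : (r : ℤ) ∣ ((q ^ 4 + 1 : ℕ) : ℤ) := Int.natCast_dvd_natCast.2 hrq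
    push_cast at this
    rwa [add_comm]
  have hrp : Prime (r : ℤ) := Nat.prime_iff_prime_int.1 hr
  have hr2' : ¬ (r : ℤ) ∣ 2 := by
    intro h
    have h1 : r ∣ 2 := by exact_mod_cast h
    exact hr2 ((Nat.prime_dvd_prime_iff_eq hr Nat.prime_two).1 h1)
  rcases h with h | h
  · have h1 : (r : ℤ) ∣ 2 ^ 3 * D := by
      rw [show (2 : ℤ) ^ 3 * D = 8 * D by ring, h]
      exact ((hrq'.mul_left _).mul_right _)
    exact (hrp.dvd_mul.1 h1).resolve_left fun h => hr2' (hrp.dvd_of_dvd_pow h)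
  · have h1 : (r : ℤ) ∣ 2 ^ 2 * D := by
      rw [show (2 : ℤ) ^ 2 * D = 4 * D by ring, h]
      exact ((hrq'.mul_left _).mul_right _)
    exact (hrp.dvd_mul.1 h1).resolve_left fun h => hr2' (hrp.dvd_of_dvd_pow h)

end Cfsg.Agent.H858.OZ
end

-- part: H320/OZ/F4Fin
section
/-!
# S4842, row `F₄(q)`, `q ≥ 3`: the end, from helper589's `main` (helper320)

* `Main` : the text of helper589's `main`;
* `none_F4_of_main`.
-/

set_option autoImplicit false
set_option linter.unusedSectionVars false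

open Cfsg

namespace Cfsg.Agent.H320.OZ.F4Fin

universe u

open CoxeterSystem Cfsg.Agent.ChevalleyStructure.CoxeterGeom Cfsg.Agent.Tits.Roots Cfsg.Agent.Tits.Core
  Cfsg.Agent.Tits.Exchange Cfsg.Agent.Nodes.Reps Cfsg.Agent.Nodes.BNOf Cfsg.Agent.Nodes.StabComb
  Cfsg.Agent.Nodes.Bruhat Cfsg.Agent.Nodes.OppDec Cfsg.Agent.Nodes.LeviDec Cfsg.Agent.H985.VZ Module
open Cfsg.Agent.H589.FF Cfsg.Lie Cfsg.Lie.ChevalleyDatum Cfsg.Agent.ChevalleyStructure
  Cfsg.Agent.ChevalleyStructure.Elts Cfsg.Agent.ChevalleyStructure.CoxeterGeomTypes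
  Cfsg.Agent.ChevalleyStructure.NPerm Cfsg.Agent.Nodes Cfsg.Agent.Nodes.RGDChev Cfsg.Agent.KFacts.RgdChevCoord
  Cfsg.Agent.KFacts.RgdField Cfsg.Agent.GenExc.Chev Cfsg.Agent.H730.OZ Cfsg.Agent.Characters

/-- the statement of helper589's `main` -/
def Main : Prop :=
  ∀ {W Y : Type} [Group W] [Finite W] [Group Y] [Finite Y] {cs : CoxeterSystem CoxeterMatrix.F₄ W}
    {A : Fin 4 → Fin 4 → ℤ} {h : IsCartan CoxeterMatrix.F₄ A} {p : ℕ} {T : Subgroup Y} {n : Fin 4 → Y}
    {X : (Fin 4 → ℤ) → Subgroup Y} {q : ℕ} (_ : RGD cs h p T n X) (_ : GG cs h T X = ⊤)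
    (_ : ∀ i, Nat.card (X (sr i)) = q) (_ : 2 ≤ q) {V : Type} [AddCommGroup V] [Module ℂ V] [FiniteDimensional ℂ V]
    {ρ : Representation ℂ Y V} (_ : ρ.IsIrreducible) (_ : fx ρ (RGD.B cs h T X) ≠ ⊥)
    (_ : WF.mm3 (fun K => (finrank ℂ (fx ρ (PJ cs h T X K)) : ℤ)) 0 1 3 ≠ 0)
    (_ : WF.mm3 (fun K => (finrank ℂ (fx ρ (PJ cs h T X K)) : ℤ)) 3 2 0 ≠ 0)
    (_ : finrank ℂ (fx ρ (PJ cs h T X {0})) + finrank ℂ (fx ρ (PJ cs h T X {3})) = finrank ℂ (fx ρ (RGD.B cs h T X))),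
    8 * (finrank ℂ V : ℤ) = q ^ 4 * (1 + q ^ 2) ^ 2 * (q ^ 2 - q + 1) ^ 2 * (1 + q ^ 4) * (q ^ 4 - q ^ 2 + 1) ∨
      4 * (finrank ℂ V : ℤ) = q ^ 4 * (1 + q) ^ 2 * (1 + q ^ 2) * (q ^ 2 - q + 1) ^ 2 * (1 + q ^ 4) *
        (q ^ 4 - q ^ 2 + 1)

/-- no irreducible character of `F₄(q)`, `q ≥ 3`, vanishes on exactly one class -/
theorem none_F4_of_main (hmain : Main) {F : Type} [Field F] [Fintype F] {p a : ℕ} (hp : p.Prime) (ha : 0 < a)
    (hF : Fintype.card F = p ^ a) (hq : 3 ≤ p ^ a) (χ : ↥(chevF4.group F) → ℂ) (hχ : IsIrrCharacter _ χ) :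
    ¬ OneZero χ := by
  intro h1
  obtain ⟨hS, r, hr, hr2, hrq, hnd⟩ := Cfsg.Agent.H858.OZ.out_F4 hp ha hF hq hχ h1
  apply hnd
  have hdeg := Cfsg.Agent.H686.CharKit.charDegree_cast (Core.isIrr_isCharacter hχ)
  obtain ⟨m, ρ, hρ, rfl⟩ := hχ
  have hd : charDegree ρ.character = finrank ℂ (Fin m → ℂ) := by
    rw [Representation.char_one] at hdeg
    exact_mod_cast hdeg
  have : Fact p.Prime := ⟨hp⟩
  have : CharP F p := charP_of_card_eq_prime_pow hF
  let cs := CoxeterMatrix.F₄.toCoxeterSystem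
  have := finite_W isType_F4 cs
  have : Finite ↥(chevF4.group F) := inferInstance
  have R := rgd (K := F) isType_F4 cs p
  have hG : GG cs isType_F4.isCartan (TT chevF4 F) (XX chevF4 4 F) = ⊤ :=
    Cfsg.Agent.KFacts.RgdRigid.GG_eq_top (T := TT chevF4 F) (G1_eq_top isType_F4 cs)
  obtain ⟨h0, hm, hm', hdet⟩ := Cfsg.Agent.H320.OZ.F4In.inner cs hp ha hF hq hρ h1 hS
  have h2 := hmain R hG (q := p ^ a) (fun i => by
    rw [← hF]
    exact Cfsg.Agent.ClosedExc.Chev.card_XX isType_F4 F cs (isRoot_sr _ _ i)) (by omega) hρ h0 hm hm' hdet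
  have h3 := Cfsg.Agent.H858.OZ.contra_F4 (q := p ^ a) (D := (finrank ℂ (Fin m → ℂ) : ℤ)) hr hr2 hrq (by
    push_cast at h2 ⊢
    exact h2)
  rw [hd]
  exact Int.natCast_dvd_natCast.1 h3

/-- the row, from `main` and the case `q = 2` -/
theorem row_F4_of (hmain : Main)
    (htwo : ∀ (F : Type) [Field F] [Fintype F], Fintype.card F = 2 → IsSimpleGroup ↥(chevF4.group F) →
      Row ↥(chevF4.group F)) {S : Type u} [Group S] [Finite S] (hs : IsSimpleGroup S) (h : Lie.IsoF4 S) : Row S := by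
  obtain ⟨F, i1, i2, ⟨e⟩⟩ := h
  obtain ⟨p, hc⟩ := CharP.exists F
  obtain ⟨a, hp, ha⟩ := FiniteField.card F p
  have hs' : IsSimpleGroup ↥(chevF4.group F) := (MulEquiv.isSimpleGroup_congr e).1 hs
  refine Row.congr e ?_
  have h2 : 2 ≤ p ^ (a : ℕ) := hp.two_le.trans (Nat.le_self_pow a.pos.ne' p)
  rcases Nat.lt_or_ge 2 (p ^ (a : ℕ)) with h3 | h3
  · exact Row.of_none (none_F4_of_main hmain hp a.pos ha h3)
  · exact htwo F (by rw [ha]; omega) hs'

end Cfsg.Agent.H320.OZ.F4Fin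
end

-- part: H320/OZ/RowF4
section
/-!
# S4842, row `F₄(q)`, `q ≥ 3` (helper320, with helper589's `main` and helper858's outer part)

* `none_F4` : no irreducible character of `F₄(q)`, `q ≥ 3`, vanishes on exactly one class;
* `row_F4` : the row, from the case `q = 2`.
-/

set_option autoImplicit false

open Cfsg

namespace Cfsg.Agent.H320.OZ

open Cfsg.Lie Cfsg.Agent.H730.OZ

universe u

theorem main_F4 : F4Fin.Main := fun R hG hq hq2 _ _ _ _ _ hρ h0 hm hm' hdet =>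
  Cfsg.Agent.H589.FF.main R hG hq hq2 hρ h0 hm hm' hdet

/-- **the row `F₄(q)`**, from the case `q = 2` -/
theorem row_F4_of_two
    (htwo : ∀ (F : Type) [Field F] [Fintype F], Fintype.card F = 2 → IsSimpleGroup ↥(chevF4.group F) →
      Row ↥(chevF4.group F)) {S : Type u} [Group S] [Finite S] (hs : IsSimpleGroup S) (h : Lie.IsoF4 S) : Row S :=
  F4Fin.row_F4_of main_F4 htwo hs h

end Cfsg.Agent.H320.OZ
end

-- part: H320/OZ/RowF4All
section
/-!
# S4842: the row `F₄(q)`, all `q` (helper320, helper23)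
-/

set_option autoImplicit false

open Cfsg

namespace Cfsg.Agent.H320.OZ

open Cfsg.Lie Cfsg.Agent.H730.OZ

universe u

/-- **the row `F₄(q)`** -/
theorem row_F4 {S : Type u} [Group S] [Finite S] (hs : IsSimpleGroup S) (h : Lie.IsoF4 S) : Row S :=
  row_F4_of_two (fun _ _ _ hF _ => Cfsg.Agent.H23.OZ.F42.row_F4_two hF (MulEquiv.refl _)) hs h

end Cfsg.Agent.H320.OZ
end
end
end
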